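import Cfsg.Agent.H39.Class2

/-!
Conjugacy classes of `SL₂` over a finite field.
-/

set_option autoImplicit false
set_option linter.unusedSectionVars false
set_option linter.unusedSimpArgs false

namespace Cfsg.Agent.H39

open Matrix

section
variable {F : Type*} [Field F]

theorem isConj_sl_iff {g h : SpecialLinearGroup (Fin 2) F} : IsConj g h ↔ ∃ P : Matrix (Fin 2) (Fin 2) F, P.det = 1 ∧
    P * (g : Matrix (Fin 2) (Fin 2) F) = (h : Matrix (Fin 2) (Fin 2) F) * P := by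
  rw [isConj_iff]
  constructor
  · rintro ⟨c, hc⟩
    refine ⟨(c : Matrix (Fin 2) (Fin 2) F), c.2, ?_⟩
    have h1 : c * g = h * c := mul_inv_eq_iff_eq_mul.1 hc
    exact congrArg (fun A : SpecialLinearGroup (Fin 2) F => (A : Matrix (Fin 2) (Fin 2) F)) h1
  · rintro ⟨P, hP, hh⟩
    obtain ⟨c, hc⟩ : ∃ c : SpecialLinearGroup (Fin 2) F, (c : Matrix (Fin 2) (Fin 2) F) = P := ⟨⟨P, hP⟩, rfl⟩
    subst hc
    refine ⟨c, ?_⟩
    rw [mul_inv_eq_iff_eq_mul]
    apply Subtype.ext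
    exact hh

theorem qf2_smul (g : Matrix (Fin 2) (Fin 2) F) (s x y : F) : qf2 g (s * x) (s * y) = s ^ 2 * qf2 g x y := by
  simp only [qf2]; ring

/-- `comp2 t 1` as an element of `SL₂`. -/
def compSL (t : F) : SpecialLinearGroup (Fin 2) F := ⟨comp2 t 1, by rw [Matrix.det_fin_two]; simp [comp2]⟩

theorem compSL_val (t : F) : (compSL t : Matrix (Fin 2) (Fin 2) F) = comp2 t 1 := rfl

theorem isConj_compSL {g : SpecialLinearGroup (Fin 2) F} {x y : F} (h : qf2 (g : Matrix (Fin 2) (Fin 2) F) x y = 1) :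
    IsConj (compSL (g : Matrix (Fin 2) (Fin 2) F).trace) g := by
  rw [isConj_sl_iff]
  refine ⟨kry2 (g : Matrix (Fin 2) (Fin 2) F) x y, by rw [det_kry2, h], ?_⟩
  rw [mul_kry2, g.2]
  rfl

/-- `±1` times a transvection -/
def uniSL (ε b : F) (hε : ε * ε = 1) : SpecialLinearGroup (Fin 2) F :=
  ⟨!![ε, b; 0, ε], by rw [Matrix.det_fin_two]; simp [hε]⟩

theorem uniSL_val (ε b : F) (hε : ε * ε = 1) : (uniSL ε b hε : Matrix (Fin 2) (Fin 2) F) = !![ε, b; 0, ε] := rfl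

theorem exists_isConj_uniSL {g : SpecialLinearGroup (Fin 2) F} (hg : ¬ Scal2 (g : Matrix (Fin 2) (Fin 2) F))
    {ε : F} (hε : ε * ε = 1) (ht : (g : Matrix (Fin 2) (Fin 2) F).trace = ε + ε) :
    ∃ b, b ≠ 0 ∧ IsConj (uniSL ε b hε) g := by
  obtain ⟨x, y, hxy⟩ := exists_qf2_ne_zero hg
  have hdet : (g : Matrix (Fin 2) (Fin 2) F).det = 1 := g.2
  set M := (g : Matrix (Fin 2) (Fin 2) F) with hM
  rw [Matrix.trace_fin_two] at ht
  rw [Matrix.det_fin_two] at hdet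
  obtain ⟨δ, hδ⟩ : ∃ δ, δ = - qf2 M x y := ⟨_, rfl⟩
  have hδ0 : δ ≠ 0 := by rw [hδ]; exact neg_ne_zero.2 hxy
  refine ⟨δ⁻¹, inv_ne_zero hδ0, ?_⟩
  rw [isConj_sl_iff]
  refine ⟨!![(M 0 0 - ε) * x + M 0 1 * y, δ⁻¹ * x; M 1 0 * x + (M 1 1 - ε) * y, δ⁻¹ * y], ?_, ?_⟩
  · rw [Matrix.det_fin_two]
    simp only [qf2] at hδ
    have h1 : δ⁻¹ * δ = 1 := inv_mul_cancel₀ hδ0
    have h2 : !![(M 0 0 - ε) * x + M 0 1 * y, δ⁻¹ * x; M 1 0 * x + (M 1 1 - ε) * y, δ⁻¹ * y] 0 0 *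
      !![(M 0 0 - ε) * x + M 0 1 * y, δ⁻¹ * x; M 1 0 * x + (M 1 1 - ε) * y, δ⁻¹ * y] 1 1 -
      !![(M 0 0 - ε) * x + M 0 1 * y, δ⁻¹ * x; M 1 0 * x + (M 1 1 - ε) * y, δ⁻¹ * y] 0 1 *
      !![(M 0 0 - ε) * x + M 0 1 * y, δ⁻¹ * x; M 1 0 * x + (M 1 1 - ε) * y, δ⁻¹ * y] 1 0 = 
      δ⁻¹ * (((M 0 0 - ε) * x + M 0 1 * y) * y - x * (M 1 0 * x + (M 1 1 - ε) * y)) := by
      simp
      ring
    rw [h2, ← h1]
    congr 1
    rw [hδ]
    ring
  · rw [uniSL_val, ← hM]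
    ext i j
    fin_cases i <;> fin_cases j <;> simp [Matrix.mul_apply, Fin.sum_univ_two]
    · linear_combination ((-x) * M 0 0 + (-y) * M 0 1) * ht + x * hdet - x * hε
    · ring
    · linear_combination ((-x) * M 1 0 - y * M 1 1) * ht + y * hdet - y * hε
    · ring

theorem isConj_uniSL_sq {ε b : F} (hε : ε * ε = 1) {s : F} (hs : s ≠ 0) :
    IsConj (uniSL ε b hε) (uniSL ε (s * s * b) hε) := by
  rw [isConj_sl_iff]
  refine ⟨!![s, 0; 0, s⁻¹], ?_, ?_⟩
  · rw [Matrix.det_fin_two]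
    simp [hs]
  · rw [uniSL_val, uniSL_val]
    ext i j
    fin_cases i <;> fin_cases j <;> simp [Matrix.mul_apply, Fin.sum_univ_two, mul_comm]
    field_simp

theorem of_isConj_uniSL {ε b ε' b' : F} (hε : ε * ε = 1) (hε' : ε' * ε' = 1) (hb : b ≠ 0)
    (h : IsConj (uniSL ε b hε) (uniSL ε' b' hε')) : ε + ε = ε' + ε' ∧ (ε = ε' → ∃ s, s ≠ 0 ∧ b' = s * s * b) := by
  rw [isConj_sl_iff] at h
  obtain ⟨P, hP, hh⟩ := h
  constructor
  · have := (trace_eq_of_mul (by rw [hP]; exact one_ne_zero) hh).1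
    rw [uniSL_val, uniSL_val, Matrix.trace_fin_two, Matrix.trace_fin_two] at this
    simpa using this
  · rintro rfl
    have e1 := congrFun (congrFun hh 0) 0
    have e2 := congrFun (congrFun hh 0) 1
    have e3 := congrFun (congrFun hh 1) 1
    rw [uniSL_val, uniSL_val] at e1 e2 e3
    simp [Matrix.mul_apply, Fin.sum_univ_two] at e1 e2 e3
    rw [Matrix.det_fin_two] at hP
    have e4 : P 1 0 = 0 := by
      have : P 1 0 * b = 0 := by linear_combination e3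
      exact (mul_eq_zero.1 this).resolve_right hb
    rw [e4] at hP
    refine ⟨P 0 0, ?_, ?_⟩
    · intro h0
      rw [h0] at hP
      simp at hP
    · linear_combination (-P 0 0) * e2 - b' * hP 

theorem not_scal2_uniSL {ε b : F} (hε : ε * ε = 1) (hb : b ≠ 0) : ¬ Scal2 (uniSL ε b hε : Matrix (Fin 2) (Fin 2) F) := by
  rintro ⟨h, -, -⟩
  rw [uniSL_val] at h
  simp at h
  exact hb h

/-- In odd characteristic a nondegenerate form represents `1`. -/
theorem exists_qf2_eq_one [Fintype F] (h2 : (2 : F) ≠ 0) (g : Matrix (Fin 2) (Fin 2) F)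
    (hd : (g.trace) ^ 2 - 4 * g.det ≠ 0) : ∃ x y, qf2 g x y = 1 := by
  rw [Matrix.trace_fin_two, Matrix.det_fin_two] at hd
  by_cases hA : g 1 0 = 0
  · have hB : g 1 1 - g 0 0 ≠ 0 := by
      intro hB
      apply hd
      rw [hA]
      linear_combination (g 1 1 - g 0 0) * hB
    refine ⟨(1 + g 0 1) / (g 1 1 - g 0 0), 1, ?_⟩
    simp only [qf2, hA]
    field_simp
    ring
  · set D := (g 0 0 + g 1 1) ^ 2 - 4 * (g 0 0 * g 1 1 - g 0 1 * g 1 0) with hD
    have hchar : Fintype.card F % 2 = 1 := by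
      apply FiniteField.odd_card_of_char_ne_two
      intro hc
      apply h2
      have := ringChar.Nat.cast_ringChar (R := F)
      rw [hc] at this
      exact_mod_cast this
    -- u² - D y² = 4 A
    obtain ⟨u, y, huy⟩ : ∃ u y : F, u ^ 2 - D * y ^ 2 = 4 * g 1 0 := by
      have hdf : (Polynomial.X ^ 2 : Polynomial F).degree = 2 := by
        rw [Polynomial.degree_X_pow]; rfl
      have hdg : (Polynomial.C (-D) * Polynomial.X ^ 2 - Polynomial.C (4 * g 1 0) : Polynomial F).degree = 2 := by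
        have h1 : (Polynomial.C (-D) * Polynomial.X ^ 2 : Polynomial F).degree = 2 := by
          rw [Polynomial.degree_C_mul_X_pow 2 (neg_ne_zero.2 hd)]; rfl
        rw [Polynomial.degree_sub_eq_left_of_degree_lt, h1]
        rw [h1]
        exact lt_of_le_of_lt Polynomial.degree_C_le (by norm_num)
      obtain ⟨u, y, huy⟩ := FiniteField.exists_root_sum_quadratic hdf hdg hchar
      refine ⟨u, y, ?_⟩
      simp at huy
      linear_combination huy
    have h4 : (2 * g 1 0) ≠ 0 := mul_ne_zero h2 hA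
    refine ⟨(u - (g 1 1 - g 0 0) * y) / (2 * g 1 0), y, ?_⟩
    have h5 : (4 * g 1 0) * qf2 g ((u - (g 1 1 - g 0 0) * y) / (2 * g 1 0)) y = (4 * g 1 0) * 1 := by
      obtain ⟨x, hx⟩ : ∃ x, x = (u - (g 1 1 - g 0 0) * y) / (2 * g 1 0) := ⟨_, rfl⟩
      rw [← hx]
      rw [eq_div_iff h4] at hx
      simp only [qf2]
      have hu : u = 2 * g 1 0 * x + (g 1 1 - g 0 0) * y := by linear_combination -hx
      rw [hu, hD] at huy
      linear_combination huy
    have h6 : (4 * g 1 0) ≠ 0 := by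
      have : (4 : F) = 2 * 2 := by norm_num
      rw [this]
      exact mul_ne_zero (mul_ne_zero h2 h2) hA
    exact mul_left_cancel₀ h6 h5

end

end Cfsg.Agent.H39
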