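import Cfsg.Agent.H39.UniTwo
import Cfsg.Agent.Char.Clifford

/-!
Irreducible characters of `GL₂(q)`: principal series, Steinberg, cuspidal.
-/

set_option autoImplicit false
set_option linter.unusedSectionVars false
set_option linter.unusedSimpArgs false

namespace Cfsg.Agent.H39

open Cfsg Cfsg.Agent.Char Cfsg.Agent.CharBase Matrix
open scoped ComplexConjugate

theorem sum_mulChar_dual {F : Type*} [Field F] [Fintype F] [Fintype (MulChar F ℂ)] [DecidableEq F] (a : Fˣ) :
    ∑ α : MulChar F ℂ, conj (α a) = if a = 1 then (Fintype.card (MulChar F ℂ) : ℂ) else 0 := by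
  split_ifs with h
  · subst h
    simp
  · obtain ⟨β, hβ⟩ := MulChar.exists_apply_ne_one_of_hasEnoughRootsOfUnity F ℂ
      (a := (a : F)) (fun h2 => h (Units.ext h2))
    have h1 : conj (β a) * ∑ α : MulChar F ℂ, conj (α a) = ∑ α : MulChar F ℂ, conj (α a) := by
      rw [Finset.mul_sum, ← Equiv.sum_comp (Equiv.mulLeft β) (fun α : MulChar F ℂ => conj (α a))]
      refine Finset.sum_congr rfl fun α _ => ?_
      rw [Equiv.coe_mulLeft, MulChar.mul_apply, map_mul]
    have h2 : (conj (β a) - 1) * ∑ α : MulChar F ℂ, conj (α a) = 0 := by rw [sub_mul, h1, one_mul, sub_self]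
    refine (mul_eq_zero.1 h2).resolve_left (fun h3 => hβ ?_)
    have h4 : conj (β a) = 1 := by linear_combination h3
    have h5 := congrArg conj h4
    rwa [Complex.conj_conj, map_one] at h5

section two
variable {G : Type*} [Group G] [Fintype G]

theorem eq_of_classInner_ne_zero {χ φ : G → ℂ} (hχ : IsIrrCharacter G χ) (hφ : IsIrrCharacter G φ)
    (h : classInner χ φ ≠ 0) : χ = φ := by
  by_contra hne
  apply h
  exact classInner_irr_of_ne (χ := ⟨χ, hχ⟩) (ψ := ⟨φ, hφ⟩) (fun h2 => hne (congrArg Subtype.val h2))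

theorem eq_or_eq_of_add {χ : G → ℂ} (hχ : IsIrrCharacter G χ) {χ₁ χ₂ : IrrCharacter G} 
    (h : classInner χ ((χ₁ : G → ℂ) + (χ₂ : G → ℂ)) ≠ 0) : χ = χ₁ ∨ χ = χ₂ := by
  rw [classInner_add_right] at h
  by_cases h1 : classInner χ (χ₁ : G → ℂ) = 0
  · rw [h1, zero_add] at h
    exact Or.inr (eq_of_classInner_ne_zero hχ χ₂.2 h)
  · exact Or.inl (eq_of_classInner_ne_zero hχ χ₁.2 h1)

/-- If `φ` has norm two and `μ` is an irreducible constituent then any other constituent is `φ - μ`. -/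
theorem eq_or_eq_sub {φ : G → ℂ} (hφ : IsCharacter G φ) (h2 : classInner φ φ = 2) {μ : G → ℂ}
    (hμ : IsIrrCharacter G μ) (hμ2 : classInner μ φ ≠ 0) {χ : G → ℂ} (hχ : IsIrrCharacter G χ)
    (hχ2 : classInner χ φ ≠ 0) : χ = μ ∨ χ = φ - μ := by
  obtain ⟨χ₁, χ₂, -, rfl⟩ := exists_add_of_norm_two hφ h2
  rcases eq_or_eq_of_add hμ hμ2 with rfl | rfl <;> rcases eq_or_eq_of_add hχ hχ2 with rfl | rfl
  · exact Or.inl rfl
  · right; simp
  · right; simp
  · exact Or.inl rfl

end two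

section gl
variable {F : Type*} [Field F] [Fintype F] [DecidableEq F]

/-- the identity inclusion -/
abbrev idGL (F : Type*) [Field F] : GL (Fin 2) F →* GL (Fin 2) F := MonoidHom.id _

/-- unipotent elements -/
abbrev uG (x : F) : GL (Fin 2) F := SpecialLinearGroup.toGL (uSL x)

/-- principal series -/
noncomputable abbrev pGL (α β : MulChar F ℂ) : GL (Fin 2) F → ℂ := indFun (B2 (idGL F)) (lam (idGL F) α β)

theorem isCharacter_pGL (α β : MulChar F ℂ) : IsCharacter (GL (Fin 2) F) (pGL α β) :=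
  indFun_isCharacter _ _ (isCharacter_lam _ _)

/-- `α ∘ det` -/
noncomputable def detHom (α : MulChar F ℂ) : GL (Fin 2) F →* ℂ where
  toFun g := α (g : Matrix (Fin 2) (Fin 2) F).det
  map_one' := by simp
  map_mul' g h := by simp

theorem exists_prinGL {χ : GL (Fin 2) F → ℂ} (hχ : IsIrrCharacter (GL (Fin 2) F) χ) (h0 : ∑ x : F, χ (uG x) ≠ 0) :
    ∃ α β : MulChar F ℂ, classInner χ (pGL α β) ≠ 0 := by
  classical
  by_contra hcon
  push Not at hcon
  apply h0
  haveI : Fintype (B2 (idGL F)) := Fintype.ofFinite _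
  haveI : Fintype (MulChar F ℂ) := Fintype.ofFinite _
  have hcl := isClassFunction_of_isCharacter (isCharacter_of_isIrr hχ)
  have h1 : ∀ α β : MulChar F ℂ, ∑ a : Fˣ, ∑ d : Fˣ, ∑ x : F, χ (bGL ((a, d), x)) * (conj (α a) * conj (β d)) = 0 := by
    intro α β
    have h2 := hcon α β
    rw [frobenius_reciprocity' _ _ _ hcl, classInner, mul_eq_zero] at h2
    have h3 := h2.resolve_left (inv_ne_zero (card_ne_zero_complex _))
    rw [sum_bGL] at h3
    rw [← h3]
    refine Finset.sum_congr rfl fun a _ => Finset.sum_congr rfl fun d _ => Finset.sum_congr rfl fun x _ => ?_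
    rw [← map_mul]
    rfl
  have h2 : ∑ α : MulChar F ℂ, ∑ β : MulChar F ℂ, ∑ a : Fˣ, ∑ d : Fˣ, ∑ x : F,
      χ (bGL ((a, d), x)) * (conj (α a) * conj (β d)) = 0 := by
    simp only [h1, Finset.sum_const_zero]
  have h3 : ∑ α : MulChar F ℂ, ∑ β : MulChar F ℂ, ∑ a : Fˣ, ∑ d : Fˣ, ∑ x : F,
      χ (bGL ((a, d), x)) * (conj (α a) * conj (β d)) =
      ∑ a : Fˣ, ∑ d : Fˣ, ∑ x : F, χ (bGL ((a, d), x)) *
        ((∑ α : MulChar F ℂ, conj (α a)) * (∑ β : MulChar F ℂ, conj (β d))) := by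
    have e0 : ∀ (a d : Fˣ) (x : F), χ (bGL ((a, d), x)) *
        ((∑ α : MulChar F ℂ, conj (α a)) * (∑ β : MulChar F ℂ, conj (β d))) =
        ∑ α : MulChar F ℂ, ∑ β : MulChar F ℂ, χ (bGL ((a, d), x)) * (conj (α a) * conj (β d)) := by
      intro a d x
      rw [Finset.sum_mul_sum, Finset.mul_sum]
      refine Finset.sum_congr rfl fun α _ => ?_
      rw [Finset.mul_sum]
    simp only [e0]
    have e1 : ∀ α : MulChar F ℂ, ∑ β : MulChar F ℂ, ∑ a : Fˣ, ∑ d : Fˣ, ∑ x : F,
      χ (bGL ((a, d), x)) * (conj (α a) * conj (β d)) = ∑ a : Fˣ, ∑ d : Fˣ, ∑ x : F, ∑ β : MulChar F ℂ,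
      χ (bGL ((a, d), x)) * (conj (α a) * conj (β d)) := by
      intro α
      rw [Finset.sum_comm]
      refine Finset.sum_congr rfl fun a _ => ?_
      rw [Finset.sum_comm]
      refine Finset.sum_congr rfl fun d _ => ?_
      rw [Finset.sum_comm]
    simp only [e1]
    rw [Finset.sum_comm]
    refine Finset.sum_congr rfl fun a _ => ?_
    rw [Finset.sum_comm]
    refine Finset.sum_congr rfl fun d _ => ?_
    rw [Finset.sum_comm]
  rw [h3] at h2
  simp only [sum_mulChar_dual] at h2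
  have hn : (Fintype.card (MulChar F ℂ) : ℂ) ≠ 0 := by
    exact_mod_cast Fintype.card_ne_zero
  rw [Finset.sum_eq_single (1 : Fˣ), Finset.sum_eq_single (1 : Fˣ)] at h2
  · simp only [if_true] at h2
    rw [← Finset.sum_mul] at h2
    have h4 := (mul_eq_zero.1 h2).resolve_right (mul_ne_zero hn hn)
    rw [← h4]
    refine Finset.sum_congr rfl fun x _ => ?_
    congr 1
    apply (frameGL F).ext
    rw [mt_bGL]
    rfl
  · intro d _ hd
    simp [hd]
  · simp
  · intro a _ ha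
    simp [ha]
  · simp

theorem det_B2 (b : B2 (idGL F)) : ((b : GL (Fin 2) F) : Matrix (Fin 2) (Fin 2) F).det = mt (idGL F) b 0 0 * mt (idGL F) b 1 1 := by
  have hb := b.2
  rw [mem_B2] at hb
  rw [Matrix.det_fin_two]
  change mt (idGL F) b 0 0 * mt (idGL F) b 1 1 - mt (idGL F) b 0 1 * mt (idGL F) b 1 0 = _
  rw [hb, mul_zero, sub_zero]

theorem classInner_det (α : MulChar F ℂ) : classInner (detHom α : GL (Fin 2) F → ℂ) (pGL α α) = 1 := by
  haveI : Fintype (B2 (idGL F)) := Fintype.ofFinite _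
  rw [frobenius_reciprocity' _ _ _ (isClassFunction_of_isCharacter (isCharacter_of_hom (detHom α)))]
  have h1 : (fun h : B2 (idGL F) => detHom α (h : GL (Fin 2) F)) = lam (idGL F) α α := by
    funext b
    show α ((b : GL (Fin 2) F) : Matrix (Fin 2) (Fin 2) F).det = _
    rw [det_B2, map_mul]
    rfl
  rw [h1]
  exact classInner_irr_self ⟨_, isIrr_lam α α⟩

/-- Non-cuspidal irreducible characters of `GL₂(q)`. -/
theorem prinGL_cases {χ : GL (Fin 2) F → ℂ} (hχ : IsIrrCharacter (GL (Fin 2) F) χ) (h0 : ∑ x : F, χ (uG x) ≠ 0) :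
    (∃ α β : MulChar F ℂ, χ = pGL α β) ∨ (∃ α : MulChar F ℂ, χ = detHom α) ∨
      (∃ α : MulChar F ℂ, χ = pGL α α - (detHom α : GL (Fin 2) F → ℂ)) := by
  classical
  obtain ⟨α, β, h1⟩ := exists_prinGL hχ h0
  by_cases hab : α = β
  · subst hab
    right
    have h2 : classInner (pGL α α) (pGL α α) = 2 := by
      rw [classInner_prinGL]
      norm_num
    rcases eq_or_eq_sub (isCharacter_pGL α α) h2 (isIrrCharacter_of_hom (detHom α))
      (by rw [classInner_det]; exact one_ne_zero) hχ h1 with h3 | h3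
    · exact Or.inl ⟨α, h3⟩
    · exact Or.inr ⟨α, h3⟩
  · left
    refine ⟨α, β, eq_of_classInner_ne_zero hχ ?_ h1⟩
    rw [isIrrCharacter_iff (isCharacter_pGL α β), classInner_prinGL]
    have h6 : ¬ (α = β ∧ β = α) := fun h => hab h.1
    rw [if_neg h6, if_pos ⟨rfl, rfl⟩, add_zero]

theorem pGL_one (α β : MulChar F ℂ) : pGL α β 1 = (Fintype.card F : ℂ) + 1 := by
  rw [pGL, (frameGL F).prin_scalar α β 1 1 (by rw [mt_one, one_smul])]
  simp

theorem pGL_u (α β : MulChar F ℂ) : pGL α β (uG 1) = 1 := by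
  have h1 : mt (idGL F) (uG (1 : F)) = !![1, 1; 0, 1] := rfl
  rw [pGL, (frameGL F).prin_uni α β (uG 1) (by rw [h1]; simp) (by rw [h1]; simp) (by rw [h1]; simp), h1]
  simp

theorem detHom_u (α : MulChar F ℂ) (x : F) : detHom α (uG x) = 1 := by
  have h1 : (uG x : Matrix (Fin 2) (Fin 2) F).det = 1 := (uSL x).2
  show α (uG x : Matrix (Fin 2) (Fin 2) F).det = 1
  rw [h1, map_one]

/-- diagonal element -/
noncomputable def dG (c : Fˣ) : GL (Fin 2) F :=
  Matrix.GeneralLinearGroup.mkOfDetNeZero !![(c : F), 0; 0, 1] (by rw [Matrix.det_fin_two]; simp)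

theorem dG_conj (c : Fˣ) (x : F) : dG c * uG x * (dG c)⁻¹ = uG (c * x) := by
  rw [mul_inv_eq_iff_eq_mul]
  apply (frameGL F).ext
  rw [mt_mul, mt_mul, (frameGL F).hu, (frameGL F).hu]
  have h1 : mt (idGL F) (dG c) = !![(c : F), 0; 0, 1] := rfl
  rw [h1]
  ext i j
  fin_cases i <;> fin_cases j <;> simp [Matrix.mul_apply, Fin.sum_univ_two]

/-- Cuspidal characters. -/
theorem cuspGL {χ : GL (Fin 2) F → ℂ} (hχ : IsIrrCharacter (GL (Fin 2) F) χ) (h0 : ∑ x : F, χ (uG x) = 0) :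
    ∃ e : ℕ, χ 1 = e * ((Fintype.card F : ℂ) - 1) ∧ χ (uG 1) = -e ∧ 2 * e ^ 2 ≤ Fintype.card F + 1 := by
  classical
  obtain ⟨ψ, hψ⟩ := exists_primitive F
  have hq : 1 < Fintype.card F := Fintype.one_lt_card
  have hch := isCharacter_of_isIrr hχ
  have hcl := isClassFunction_of_isCharacter hch
  choose m hm using (frameGL F).hat_nat hch ψ
  have hm0 : m 0 = 0 := by
    have h1 := hm 0
    simp only [hatC, zero_mul, AddChar.map_zero_eq_one, map_one, mul_one] at h1
    have h2 : ∑ x : F, χ (SpecialLinearGroup.toGL (uSL x)) = 0 := h0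
    rw [h2, mul_zero] at h1
    exact_mod_cast h1.symm
  have hme : ∀ a : F, a ≠ 0 → m a = m 1 := by
    intro a ha
    have h1 := hat_scale ψ (fun x => χ (uG x)) ha (fun x => by
      rw [← Units.val_mk0 ha, ← dG_conj]
      exact hcl _ _) 1
    rw [mul_one] at h1
    have h2 : (m a : ℂ) = m 1 := by rw [← hm, ← hm]; exact h1
    exact_mod_cast h2
  have hval : ∀ x : F, χ (uG x) = (m 1 : ℂ) * (∑ a : F, ψ (a * x)) - m 1 := by
    intro x
    have h1 : χ (uG x) = ∑ a, hatC ψ (fun x => χ (uG x)) a * ψ (a * x) := hat_inv hψ (fun x => χ (uG x)) x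
    rw [h1]
    have h2 : ∀ a : F, hatC ψ (fun x => χ (uG x)) a * ψ (a * x) = (m a : ℂ) * ψ (a * x) := by
      intro a
      rw [← hm]
    rw [Finset.sum_congr rfl (fun a _ => h2 a), ← Finset.add_sum_erase Finset.univ _ (Finset.mem_univ (0 : F)),
      ← Finset.add_sum_erase Finset.univ (fun a => ψ (a * x)) (Finset.mem_univ (0 : F)), hm0, mul_add, Finset.mul_sum]
    have h3 : ∑ a ∈ Finset.univ.erase (0 : F), (m a : ℂ) * ψ (a * x) = ∑ a ∈ Finset.univ.erase (0 : F), (m 1 : ℂ) * ψ (a * x) := by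
      refine Finset.sum_congr rfl fun a ha => ?_
      rw [hme a (Finset.mem_erase.1 ha).1]
    rw [h3]
    simp
  refine ⟨m 1, ?_, ?_, ?_⟩
  · have h1 := hval 0
    rw [show uG (0 : F) = 1 from (frameGL F).u_zero] at h1
    rw [h1]
    simp
    ring
  · rw [hval 1, AddChar.sum_mulShift _ hψ]
    simp
  · have hd : χ 1 = ((m 1 * (Fintype.card F - 1) : ℕ) : ℂ) := by
      have h1 := hval 0
      rw [show uG (0 : F) = 1 from (frameGL F).u_zero] at h1
      rw [h1]
      push_cast [Nat.cast_sub hq.le]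
      simp
      ring
    have hb := (frameGL F).bound hχ (fun c : Fˣ => Matrix.GeneralLinearGroup.scalar (Fin 2) c) (fun c => (c : F))
      (fun a b h => Units.ext h) (fun c => c.ne_zero) (fun c => by
        show Matrix.scalar (Fin 2) (c : F) = _
        ext i j
        fin_cases i <;> fin_cases j <;> simp) hψ m hm _ hd
    have hsum : ∑ a : F, m a ^ 2 = (Fintype.card F - 1) * m 1 ^ 2 := by
      rw [← Finset.add_sum_erase Finset.univ _ (Finset.mem_univ (0 : F)), hm0]
      have h3 : ∑ a ∈ Finset.univ.erase (0 : F), m a ^ 2 = ∑ a ∈ Finset.univ.erase (0 : F), m 1 ^ 2 := by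
        refine Finset.sum_congr rfl fun a ha => ?_
        rw [hme a (Finset.mem_erase.1 ha).1]
      rw [h3, Finset.sum_const, Finset.card_erase_of_mem (Finset.mem_univ _), Finset.card_univ, smul_eq_mul]
      simp
    have hG : Nat.card (GL (Fin 2) F) = (Fintype.card F + 1) * ((Fintype.card F - 1) ^ 2 * Fintype.card F) := by
      rw [card_brMap _ _ _ (frameGL F).bij, card_bGL]
    rw [hsum, hG, Fintype.card_units] at hb
    obtain ⟨n, hn⟩ : ∃ n, Fintype.card F = n + 2 := ⟨Fintype.card F - 2, by omega⟩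
    rw [hn] at hb ⊢
    have e1 : n + 2 - 1 = n + 1 := by omega
    rw [e1] at hb
    have hpos : 0 < (n + 1) ^ 2 * (n + 2) := by positivity
    have hb2 : ((n + 1) ^ 2 * (n + 2)) * ((n + 2 + 1) * m 1 ^ 2) ≤ ((n + 1) ^ 2 * (n + 2)) * ((n + 2 + 1) + (n + 1) * m 1 ^ 2) := by
      calc ((n + 1) ^ 2 * (n + 2)) * ((n + 2 + 1) * m 1 ^ 2) = (n + 1) * ((n + 2) * ((n + 2 + 1) * ((n + 1) * m 1 ^ 2))) := by ring
        _ ≤ _ := hb
        _ = _ := by ring
    have hb3 := Nat.le_of_mul_le_mul_left hb2 hpos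
    nlinarith

end gl

end Cfsg.Agent.H39
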