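import Cfsg.Agent.H39.PrinGL

/-!
Irreducible characters of `SL₂(q)`: principal series and restriction to the unipotent subgroup.
-/

set_option autoImplicit false
set_option linter.unusedSectionVars false
set_option linter.unusedSimpArgs false

namespace Cfsg.Agent.H39

open Cfsg Cfsg.Agent.Char Cfsg.Agent.CharBase Matrix
open scoped ComplexConjugate

section sl
variable {F : Type*} [Field F] [Fintype F] [DecidableEq F]

/-- the inclusion of `SL₂` -/
abbrev inSL (F : Type*) [Field F] : SpecialLinearGroup (Fin 2) F →* GL (Fin 2) F := SpecialLinearGroup.toGL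

/-- principal series -/
noncomputable abbrev pSL (α : MulChar F ℂ) : SpecialLinearGroup (Fin 2) F → ℂ := indFun (B2 (inSL F)) (lam (inSL F) α 1)

theorem isCharacter_pSL (α : MulChar F ℂ) : IsCharacter (SpecialLinearGroup (Fin 2) F) (pSL α) :=
  indFun_isCharacter _ _ (isCharacter_lam _ _)

theorem exists_prinSL {χ : SpecialLinearGroup (Fin 2) F → ℂ} (hχ : IsIrrCharacter (SpecialLinearGroup (Fin 2) F) χ)
    (h0 : ∑ x : F, χ (uSL x) ≠ 0) :
    ∃ α : MulChar F ℂ, classInner χ (pSL α) ≠ 0 := by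
  classical
  by_contra hcon
  push Not at hcon
  apply h0
  haveI : Fintype (B2 (inSL F)) := Fintype.ofFinite _
  haveI : Fintype (MulChar F ℂ) := Fintype.ofFinite _
  have hcl := isClassFunction_of_isCharacter (isCharacter_of_isIrr hχ)
  have h1 : ∀ α : MulChar F ℂ, ∑ a : Fˣ, ∑ x : F, χ (bSL (a, x)) * conj (α a) = 0 := by
    intro α
    have h2 := hcon α
    rw [frobenius_reciprocity' _ _ _ hcl, classInner, mul_eq_zero] at h2
    have h3 := h2.resolve_left (inv_ne_zero (card_ne_zero_complex _))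
    rw [sum_bSL] at h3
    rw [← h3]
    refine Finset.sum_congr rfl fun a _ => Finset.sum_congr rfl fun x _ => ?_
    rw [lam_bSL]
  have h2 : ∑ α : MulChar F ℂ, ∑ a : Fˣ, ∑ x : F, χ (bSL (a, x)) * conj (α a) = 0 := by
    simp only [h1, Finset.sum_const_zero]
  have h3 : ∑ α : MulChar F ℂ, ∑ a : Fˣ, ∑ x : F, χ (bSL (a, x)) * conj (α a) =
      ∑ a : Fˣ, ∑ x : F, χ (bSL (a, x)) * (∑ α : MulChar F ℂ, conj (α a)) := by
    rw [Finset.sum_comm]
    refine Finset.sum_congr rfl fun a _ => ?_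
    rw [Finset.sum_comm]
    refine Finset.sum_congr rfl fun x _ => ?_
    rw [Finset.mul_sum]
  rw [h3] at h2
  simp only [sum_mulChar_dual] at h2
  have hn : (Fintype.card (MulChar F ℂ) : ℂ) ≠ 0 := by
    exact_mod_cast Fintype.card_ne_zero
  rw [Finset.sum_eq_single (1 : Fˣ)] at h2
  · simp only [if_true] at h2
    rw [← Finset.sum_mul] at h2
    have h4 := (mul_eq_zero.1 h2).resolve_right hn
    rw [← h4]
    refine Finset.sum_congr rfl fun x _ => ?_
    have h5 : uSL x = (bSL ((1 : Fˣ), x) : SpecialLinearGroup (Fin 2) F) := by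
      apply (frameSL F).ext
      rw [mt_bSL, (frameSL F).hu]
      simp
    rw [h5]
  · intro a _ ha
    simp [ha]
  · simp

theorem pSL_one (α : MulChar F ℂ) : pSL α 1 = (Fintype.card F : ℂ) + 1 := by
  rw [pSL, (frameSL F).prin_scalar α 1 1 1 (by rw [mt_one, one_smul])]
  simp

theorem pSL_u (α : MulChar F ℂ) {x : F} (hx : x ≠ 0) : pSL α (uSL x) = 1 := by
  have h1 : mt (inSL F) (uSL x) = !![1, x; 0, 1] := rfl
  rw [pSL, (frameSL F).prin_uni α 1 (uSL x) (by rw [h1]; simp) (by rw [h1]; simpa using hx) (by rw [h1]; simp), h1]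
  simp

/-- conjugation by `diag(c,1)` on `SL₂`, on elements. -/
def sgmEl (c : Fˣ) (g : SpecialLinearGroup (Fin 2) F) : SpecialLinearGroup (Fin 2) F :=
  ⟨!![(g : Matrix (Fin 2) (Fin 2) F) 0 0, c * (g : Matrix (Fin 2) (Fin 2) F) 0 1;
    ((c⁻¹ : Fˣ) : F) * (g : Matrix (Fin 2) (Fin 2) F) 1 0, (g : Matrix (Fin 2) (Fin 2) F) 1 1], by
      have h1 : (g : Matrix (Fin 2) (Fin 2) F).det = 1 := g.2
      rw [Matrix.det_fin_two] at h1 ⊢
      have h2 : (c : F) * ((c⁻¹ : Fˣ) : F) = 1 := by rw [← Units.val_mul, mul_inv_cancel, Units.val_one]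
      simp only [Matrix.cons_val', Matrix.of_apply, Matrix.cons_val_zero, Matrix.cons_val_one, Matrix.cons_val_fin_one]
      linear_combination h1 - ((g : Matrix (Fin 2) (Fin 2) F) 0 1 * (g : Matrix (Fin 2) (Fin 2) F) 1 0) * h2⟩

theorem mt_sgmEl (c : Fˣ) (g : SpecialLinearGroup (Fin 2) F) : mt (inSL F) (sgmEl c g) =
    !![(c : F), 0; 0, 1] * mt (inSL F) g * !![((c⁻¹ : Fˣ) : F), 0; 0, 1] := by
  have h1 : mt (inSL F) (sgmEl c g) = !![mt (inSL F) g 0 0, c * mt (inSL F) g 0 1; ((c⁻¹ : Fˣ) : F) * mt (inSL F) g 1 0, mt (inSL F) g 1 1] := rfl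
  have h2 : (c : F) * ((c⁻¹ : Fˣ) : F) = 1 := by rw [← Units.val_mul, mul_inv_cancel, Units.val_one]
  rw [h1]
  ext i j
  fin_cases i <;> fin_cases j <;> simp [Matrix.mul_apply, Fin.sum_univ_two, Matrix.vecMul, dotProduct]
  · field_simp
  · ring

/-- conjugation by `diag(c,1)` on `SL₂`. -/
def sgm (c : Fˣ) : SpecialLinearGroup (Fin 2) F →* SpecialLinearGroup (Fin 2) F where
  toFun := sgmEl c
  map_one' := by
    apply (frameSL F).ext
    rw [mt_sgmEl, mt_one, Matrix.mul_one]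
    ext i j
    fin_cases i <;> fin_cases j <;> simp [Matrix.mul_apply, Fin.sum_univ_two]
  map_mul' g h := by
    apply (frameSL F).ext
    have h2 : !![((c⁻¹ : Fˣ) : F), 0; 0, 1] * !![(c : F), 0; 0, 1] = 1 := by
      ext i j
      fin_cases i <;> fin_cases j <;> simp [Matrix.mul_apply, Fin.sum_univ_two]
    rw [mt_mul, mt_sgmEl, mt_sgmEl, mt_sgmEl, mt_mul]
    calc !![(c : F), 0; 0, 1] * (mt (inSL F) g * mt (inSL F) h) * !![((c⁻¹ : Fˣ) : F), 0; 0, 1]
        = !![(c : F), 0; 0, 1] * mt (inSL F) g * 1 * mt (inSL F) h * !![((c⁻¹ : Fˣ) : F), 0; 0, 1] := by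
          rw [Matrix.mul_one]; simp only [Matrix.mul_assoc]
      _ = _ := by rw [← h2]; simp only [Matrix.mul_assoc]

theorem mt_sgm (c : Fˣ) (g : SpecialLinearGroup (Fin 2) F) : mt (inSL F) (sgm c g) =
    !![mt (inSL F) g 0 0, c * mt (inSL F) g 0 1; ((c⁻¹ : Fˣ) : F) * mt (inSL F) g 1 0, mt (inSL F) g 1 1] := rfl

theorem sgm_sgm_inv (c : Fˣ) (g : SpecialLinearGroup (Fin 2) F) : sgm c (sgm c⁻¹ g) = g := by
  apply (frameSL F).ext
  rw [mt_sgm, mt_sgm]
  ext i j
  fin_cases i <;> fin_cases j <;> simp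

theorem sgm_surjective (c : Fˣ) : Function.Surjective (sgm c : SpecialLinearGroup (Fin 2) F → _) :=
  fun g => ⟨_, sgm_sgm_inv c g⟩

theorem sgm_u (c : Fˣ) (x : F) : sgm c (uSL x) = uSL (c * x) := by
  apply (frameSL F).ext
  rw [mt_sgm, (frameSL F).hu, (frameSL F).hu]
  simp

theorem toGL_sgm (c : Fˣ) (g : SpecialLinearGroup (Fin 2) F) :
    SpecialLinearGroup.toGL (sgm c g) = dG c * SpecialLinearGroup.toGL g * (dG c)⁻¹ := by
  rw [eq_mul_inv_iff_mul_eq]
  apply Units.ext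
  show mt (inSL F) (sgm c g) * !![(c : F), 0; 0, 1] = !![(c : F), 0; 0, 1] * mt (inSL F) g
  rw [mt_sgm]
  have h2 : (c : F) * ((c⁻¹ : Fˣ) : F) = 1 := by rw [← Units.val_mul, mul_inv_cancel, Units.val_one]
  ext i j
  fin_cases i <;> fin_cases j <;> simp [Matrix.mul_apply, Fin.sum_univ_two]
  · ring
  · field_simp

theorem pSL_sgm (α : MulChar F ℂ) (c : Fˣ) (g : SpecialLinearGroup (Fin 2) F) : pSL α (sgm c g) = pSL α g := by
  rw [pSL, (frameSL F).prin_apply, (frameSL F).prin_apply]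
  have h2 : (c : F) * ((c⁻¹ : Fˣ) : F) = 1 := by rw [← Units.val_mul, mul_inv_cancel, Units.val_one]
  have h3 : ((c⁻¹ : Fˣ) : F) ≠ 0 := Units.ne_zero _
  have e00 : mt (inSL F) (sgm c g) 0 0 = mt (inSL F) g 0 0 := rfl
  have e01 : mt (inSL F) (sgm c g) 0 1 = c * mt (inSL F) g 0 1 := rfl
  have e10 : mt (inSL F) (sgm c g) 1 0 = ((c⁻¹ : Fˣ) : F) * mt (inSL F) g 1 0 := rfl
  have e11 : mt (inSL F) (sgm c g) 1 1 = mt (inSL F) g 1 1 := rfl
  congr 1
  · rw [e00, e10, e11]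
    simp only [mul_eq_zero, h3, false_or]
  · rw [← Equiv.sum_comp (Equiv.mulLeft₀ (c : F) c.ne_zero)]
    refine Finset.sum_congr rfl fun y _ => ?_
    have e1 : (Equiv.mulLeft₀ (c : F) c.ne_zero) y = c * y := rfl
    have e2 : qf2 (mt (inSL F) (sgm c g)) (c * y) 1 = c * qf2 (mt (inSL F) g) y 1 := by
      simp only [qf2, e00, e01, e10, e11]
      linear_combination (mt (inSL F) g 1 0 * c * y ^ 2) * h2
    have e3 : mt (inSL F) (sgm c g) 1 0 * (c * y) = mt (inSL F) g 1 0 * y := by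
      rw [e10]
      linear_combination (mt (inSL F) g 1 0 * y) * h2
    rw [e1, e2, e3, e00, e11]
    simp only [mul_eq_zero, c.ne_zero, false_or]

/-- A linear character of `SL₂` that is trivial on the unipotent group is trivial. -/
theorem lin_trivial (f : SpecialLinearGroup (Fin 2) F →* ℂ) (hf : ∀ x, f (uSL x) = 1) (b : B2 (inSL F)) :
    f b = 1 := by
  have hl : ∀ x : F, f ((uSL 0 * wSL F) * uSL x * (uSL 0 * wSL F)⁻¹) = 1 := by
    intro x
    have h1 : f (uSL 0 * wSL F) * f (uSL 0 * wSL F)⁻¹ = 1 := by rw [← map_mul, mul_inv_cancel, map_one]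
    rw [map_mul, map_mul, hf, mul_one, h1]
  have hw : f (wSL F) = 1 := by
    have h1 : wSL F = uSL 1 * ((uSL 0 * wSL F) * uSL 1 * (uSL 0 * wSL F)⁻¹) * uSL 1 := by
      apply (frameSL F).ext
      rw [mt_mul, mt_mul, (frameSL F).mt_conj_u, (frameSL F).hu, (frameSL F).hw]
      ext i j
      fin_cases i <;> fin_cases j <;> simp [Matrix.mul_apply, Fin.sum_univ_two, Matrix.vecMul, dotProduct]
    rw [h1, map_mul, map_mul, hl, hf]
    norm_num
  obtain ⟨⟨a, x⟩, rfl⟩ := bSL_bijective.2 b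
  have h1 : (bSL (a, x) : SpecialLinearGroup (Fin 2) F) = uSL (a : F) *
      ((uSL 0 * wSL F) * uSL ((a⁻¹ : Fˣ) : F) * (uSL 0 * wSL F)⁻¹) * uSL (a : F) * (wSL F)⁻¹ *
      uSL (((a⁻¹ : Fˣ) : F) * x) := by
    apply (frameSL F).ext
    rw [mt_mul, mt_mul, mt_mul, mt_mul, (frameSL F).mt_conj_u, (frameSL F).hu, (frameSL F).hu, (frameSL F).mt_inv_w,
      mt_bSL]
    have h2 : (a : F) * ((a⁻¹ : Fˣ) : F) = 1 := by rw [← Units.val_mul, mul_inv_cancel, Units.val_one]
    ext i j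
    fin_cases i <;> fin_cases j <;> simp [Matrix.mul_apply, Fin.sum_univ_two, Matrix.vecMul, dotProduct]
  have h3 : f (wSL F)⁻¹ = 1 := by
    have h4 : f (wSL F) * f (wSL F)⁻¹ = 1 := by rw [← map_mul, mul_inv_cancel, map_one]
    rw [hw, one_mul] at h4
    exact h4
  rw [h1, map_mul, map_mul, map_mul, map_mul, hl, hf, hf, h3]
  norm_num

theorem classInner_one_pSL (α : MulChar F ℂ) (hα : α ≠ 1) :
    classInner (fun _ => (1 : ℂ)) (pSL α) = 0 := by
  classical
  haveI : Fintype (B2 (inSL F)) := Fintype.ofFinite _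
  rw [frobenius_reciprocity' _ _ _ (isClassFunction_of_isCharacter isCharacter_one)]
  have h1 : (fun _ : B2 (inSL F) => (1 : ℂ)) = lam (inSL F) 1 1 := (lam_one_one _).symm
  have h2 : lam (inSL F) 1 1 ≠ lam (inSL F) α 1 := by
    intro h2
    apply hα
    ext a
    have h3 := congrFun h2 (bSL (a, 0))
    rw [lam_bSL, lam_bSL] at h3
    exact h3.symm
  rw [h1]
  exact classInner_irr_of_ne (χ := ⟨_, isIrr_lam 1 1⟩) (ψ := ⟨_, isIrr_lam α 1⟩)
    (fun h => h2 (congrArg Subtype.val h))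

theorem classInner_one_pSL_one : classInner (fun _ => (1 : ℂ)) (pSL (1 : MulChar F ℂ)) = 1 := by
  classical
  haveI : Fintype (B2 (inSL F)) := Fintype.ofFinite _
  rw [frobenius_reciprocity' _ _ _ (isClassFunction_of_isCharacter isCharacter_one)]
  have h1 : (fun _ : B2 (inSL F) => (1 : ℂ)) = lam (inSL F) 1 1 := (lam_one_one _).symm
  rw [h1]
  exact classInner_irr_self ⟨_, isIrr_lam 1 1⟩

/-- A constituent of the principal series has vectors fixed by the unipotent group. -/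
theorem sum_ne_zero_of_pSL {χ : SpecialLinearGroup (Fin 2) F → ℂ} (hχ : IsCharacter (SpecialLinearGroup (Fin 2) F) χ)
    {α : MulChar F ℂ} (h : classInner χ (pSL α) ≠ 0) : ∑ x : F, χ (uSL x) ≠ 0 := by
  classical
  intro h0
  apply h
  haveI : Fintype (B2 (inSL F)) := Fintype.ofFinite _
  have hcl := isClassFunction_of_isCharacter hχ
  rw [frobenius_reciprocity' _ _ _ hcl, classInner, sum_bSL]
  have h1 : ∀ a : Fˣ, ∑ x : F, χ (bSL (a, x)) * conj (lam (inSL F) α 1 (bSL (a, x))) = 0 := by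
    intro a
    have h2 := (frameSL F).coset_sum_eq_zero hχ h0 (bSL (a, 0) : SpecialLinearGroup (Fin 2) F)
    simp only [lam_bSL]
    rw [← Finset.sum_mul]
    have h3 : ∑ x : F, χ (bSL (a, x)) = ∑ x : F, χ ((bSL (a, 0) : SpecialLinearGroup (Fin 2) F) * uSL x) := by
      rw [← Equiv.sum_comp (Equiv.mulLeft₀ (a : F) a.ne_zero) (fun x => χ (bSL (a, x)))]
      refine Finset.sum_congr rfl fun x _ => ?_
      congr 1
      apply (frameSL F).ext
      rw [mt_mul, mt_bSL, mt_bSL, (frameSL F).hu]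
      ext i j
      fin_cases i <;> fin_cases j <;> simp [Matrix.mul_apply, Fin.sum_univ_two]
    rw [h3, h2, zero_mul]
  simp only [h1, Finset.sum_const_zero, mul_zero]

/-- Fourier coefficients of `pSL`. -/
theorem hat_pSL {ψ : AddChar F ℂ} (hψ : ψ.IsPrimitive) (α : MulChar F ℂ) (a : F) :
    hatC ψ (fun x => pSL α (uSL x)) a = if a = 0 then 2 else 1 := by
  have hq := card_ne F
  have h1 : ∀ x : F, pSL α (uSL x) * conj (ψ (a * x)) = conj (ψ (x * a)) + (if x = 0 then (Fintype.card F : ℂ) else 0) := by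
    intro x
    by_cases hx : x = 0
    · subst hx
      rw [show uSL (0 : F) = 1 from (frameSL F).u_zero, pSL_one]
      simp
      ring
    · rw [pSL_u α hx, if_neg hx, mul_comm a x]
      ring
  rw [hatC, Finset.sum_congr rfl (fun x _ => h1 x), Finset.sum_add_distrib, Finset.sum_ite_eq' Finset.univ (0 : F)]
  have h2 : ∑ x : F, conj (ψ (x * a)) = if a = 0 then (Fintype.card F : ℂ) else 0 := by
    rw [← map_sum, AddChar.sum_mulShift _ hψ]
    split_ifs <;> simp
  rw [h2, if_pos (Finset.mem_univ _)]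
  by_cases ha : a = 0
  · rw [if_pos ha, if_pos ha, ← two_mul, mul_comm (2 : ℂ), inv_mul_cancel_left₀ hq]
  · rw [if_neg ha, if_neg ha, zero_add, inv_mul_cancel₀ hq]

/-- The two halves of the principal series character at the quadratic character. -/
theorem halves {α : MulChar F ℂ} (hα1 : α ≠ 1) {χ₁ χ₂ : IrrCharacter (SpecialLinearGroup (Fin 2) F)}
    (hne : χ₁ ≠ χ₂) (hadd : pSL α = (χ₁ : SpecialLinearGroup (Fin 2) F → ℂ) + (χ₂ : SpecialLinearGroup (Fin 2) F → ℂ)) :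
    ∃ c : Fˣ, ∀ g, (χ₂ : SpecialLinearGroup (Fin 2) F → ℂ) g = (χ₁ : SpecialLinearGroup (Fin 2) F → ℂ) (sgm c g) := by
  classical
  have hin : ∀ χ : IrrCharacter (SpecialLinearGroup (Fin 2) F), (χ = χ₁ ∨ χ = χ₂) →
      classInner (χ : SpecialLinearGroup (Fin 2) F → ℂ) (pSL α) = 1 := by
    intro χ hχ
    rw [hadd, classInner_add_right, classInner_irr, classInner_irr]
    rcases hχ with rfl | rfl
    · rw [if_pos rfl, if_neg hne, add_zero]
    · rw [if_neg hne.symm, if_pos rfl, zero_add]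
  by_contra hcon
  push Not at hcon
  -- then every twist fixes `χ₁`
  have hfix1 : ∀ (c : Fˣ) g, (χ₁ : SpecialLinearGroup (Fin 2) F → ℂ) (sgm c g) = (χ₁ : SpecialLinearGroup (Fin 2) F → ℂ) g := by
    intro c
    have hirr : IsIrrCharacter (SpecialLinearGroup (Fin 2) F) (fun g => (χ₁ : SpecialLinearGroup (Fin 2) F → ℂ) (sgm c g)) :=
      isIrrCharacter_comp_surjective χ₁.2 (sgm c) (sgm_surjective c)
    have h1 : classInner (fun g => (χ₁ : SpecialLinearGroup (Fin 2) F → ℂ) (sgm c g))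
        ((χ₁ : SpecialLinearGroup (Fin 2) F → ℂ) + (χ₂ : SpecialLinearGroup (Fin 2) F → ℂ)) ≠ 0 := by
      rw [← hadd]
      have h2 : classInner (fun g => (χ₁ : SpecialLinearGroup (Fin 2) F → ℂ) (sgm c g)) (pSL α) =
          classInner (χ₁ : SpecialLinearGroup (Fin 2) F → ℂ) (pSL α) := by
        simp only [classInner]
        congr 1
        have hbij : Function.Bijective (sgm c : SpecialLinearGroup (Fin 2) F → _) :=
          (Finite.surjective_iff_bijective).1 (sgm_surjective c)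
        rw [← Function.Bijective.sum_comp hbij (fun g => (χ₁ : SpecialLinearGroup (Fin 2) F → ℂ) g * conj (pSL α g))]
        refine Finset.sum_congr rfl fun g _ => ?_
        rw [pSL_sgm]
      rw [h2, hin χ₁ (Or.inl rfl)]
      exact one_ne_zero
    rcases eq_or_eq_of_add hirr h1 with h2 | h2
    · intro g
      exact congrFun h2 g
    · exfalso
      obtain ⟨g, hg⟩ := hcon c
      exact hg (congrFun h2 g).symm
  have hfix2 : ∀ (c : Fˣ) g, (χ₂ : SpecialLinearGroup (Fin 2) F → ℂ) (sgm c g) = (χ₂ : SpecialLinearGroup (Fin 2) F → ℂ) g := by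
    intro c g
    have h1 := pSL_sgm α c g
    rw [hadd] at h1
    simp only [Pi.add_apply] at h1
    rw [hfix1] at h1
    exact add_left_cancel h1
  obtain ⟨ψ, hψ⟩ := exists_primitive F
  have hch1 := irr_isCharacter χ₁
  have hch2 := irr_isCharacter χ₂
  choose m₁ hm₁ using (frameSL F).hat_nat hch1 ψ
  choose m₂ hm₂ using (frameSL F).hat_nat hch2 ψ
  have hsum : ∀ a, m₁ a + m₂ a = if a = 0 then 2 else 1 := by
    intro a
    have h1 := hat_pSL hψ α a
    rw [hadd] at h1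
    have h2 : hatC ψ (fun x => ((χ₁ : SpecialLinearGroup (Fin 2) F → ℂ) + (χ₂ : SpecialLinearGroup (Fin 2) F → ℂ)) (uSL x)) a =
        hatC ψ (fun x => (χ₁ : SpecialLinearGroup (Fin 2) F → ℂ) (uSL x)) a + hatC ψ (fun x => (χ₂ : SpecialLinearGroup (Fin 2) F → ℂ) (uSL x)) a := by
      simp only [hatC, Pi.add_apply, add_mul, Finset.sum_add_distrib, mul_add]
    rw [h2, hm₁, hm₂] at h1
    split_ifs at h1 ⊢ <;> exact_mod_cast h1
  have hpos : ∀ (χ : IrrCharacter (SpecialLinearGroup (Fin 2) F)) (m : F → ℕ) (hm : ∀ a, hatC ψ (fun x => (χ : SpecialLinearGroup (Fin 2) F → ℂ) (uSL x)) a = m a),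
      (χ = χ₁ ∨ χ = χ₂) → 1 ≤ m 0 := by
    intro χ m hm hχ
    by_contra hc
    have h0 : m 0 = 0 := by omega
    have h1 := hm 0
    rw [h0] at h1
    simp only [hatC, zero_mul, AddChar.map_zero_eq_one, map_one, mul_one, Nat.cast_zero, mul_eq_zero, inv_eq_zero] at h1
    have h2 := h1.resolve_left (card_ne F)
    refine sum_ne_zero_of_pSL (irr_isCharacter χ) (α := α) ?_ h2
    rw [hin χ hχ]
    exact one_ne_zero
  have hconst : ∀ (χ : IrrCharacter (SpecialLinearGroup (Fin 2) F)) (m : F → ℕ) (hm : ∀ a, hatC ψ (fun x => (χ : SpecialLinearGroup (Fin 2) F → ℂ) (uSL x)) a = m a)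
      (hfix : ∀ (c : Fˣ) g, (χ : SpecialLinearGroup (Fin 2) F → ℂ) (sgm c g) = (χ : SpecialLinearGroup (Fin 2) F → ℂ) g), ∀ a, a ≠ 0 → m a = m 1 := by
    intro χ m hm hfix a ha
    have h1 := hat_scale ψ (fun x => (χ : SpecialLinearGroup (Fin 2) F → ℂ) (uSL x)) ha (fun x => by
      rw [← Units.val_mk0 ha, ← sgm_u]
      exact hfix _ _) 1
    rw [mul_one] at h1
    have h2 : (m a : ℂ) = m 1 := by rw [← hm, ← hm]; exact h1
    exact_mod_cast h2
  -- a half with no other multiplicity is trivial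
  have htriv : ∀ (χ : IrrCharacter (SpecialLinearGroup (Fin 2) F)) (m : F → ℕ) (hm : ∀ a, hatC ψ (fun x => (χ : SpecialLinearGroup (Fin 2) F → ℂ) (uSL x)) a = m a),
      (χ = χ₁ ∨ χ = χ₂) → m 0 = 1 → (∀ a, a ≠ 0 → m a = 0) → False := by
    intro χ m hm hχ h0 ha
    have hval : ∀ x, (χ : SpecialLinearGroup (Fin 2) F → ℂ) (uSL x) = 1 := by
      intro x
      have h1 : (χ : SpecialLinearGroup (Fin 2) F → ℂ) (uSL x) =
        ∑ a, hatC ψ (fun x => (χ : SpecialLinearGroup (Fin 2) F → ℂ) (uSL x)) a * ψ (a * x) :=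
        hat_inv hψ (fun x => (χ : SpecialLinearGroup (Fin 2) F → ℂ) (uSL x)) x
      rw [h1, Finset.sum_eq_single (0 : F)]
      · rw [hm, h0]; simp
      · intro a _ hane
        rw [hm, ha a hane]; simp
      · simp
    have hone : (χ : SpecialLinearGroup (Fin 2) F → ℂ) 1 = 1 := by
      have := hval 0
      rwa [show uSL (0 : F) = 1 from (frameSL F).u_zero] at this
    have h1 := lin_trivial (linHom (irr_isCharacter χ) hone) hval
    -- hence the inner product with `pSL α` vanishes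
    haveI : Fintype (B2 (inSL F)) := Fintype.ofFinite _
    have h2 := hin χ hχ
    rw [frobenius_reciprocity' _ _ _ (irr_isClassFunction χ)] at h2
    have h3 : (fun h : B2 (inSL F) => (χ : SpecialLinearGroup (Fin 2) F → ℂ) h) = fun _ => 1 := by
      funext b
      exact h1 b
    rw [h3] at h2
    have h4 := classInner_one_pSL α hα1
    rw [frobenius_reciprocity' _ _ _ (isClassFunction_of_isCharacter isCharacter_one)] at h4
    rw [h2] at h4
    exact one_ne_zero h4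
  have s0 := hsum 0
  have s1 := hsum 1
  rw [if_pos rfl] at s0
  rw [if_neg one_ne_zero] at s1
  have p1 := hpos χ₁ m₁ hm₁ (Or.inl rfl)
  have p2 := hpos χ₂ m₂ hm₂ (Or.inr rfl)
  by_cases hm1 : m₁ 1 = 0
  · refine htriv χ₁ m₁ hm₁ (Or.inl rfl) (by omega) (fun a ha => ?_)
    rw [hconst χ₁ m₁ hm₁ hfix1 a ha, hm1]
  · refine htriv χ₂ m₂ hm₂ (Or.inr rfl) (by omega) (fun a ha => ?_)
    rw [hconst χ₂ m₂ hm₂ hfix2 a ha]
    omega

theorem halves_degree {α : MulChar F ℂ} (hα1 : α ≠ 1) {χ₁ χ₂ : IrrCharacter (SpecialLinearGroup (Fin 2) F)}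
    (hne : χ₁ ≠ χ₂) (hadd : pSL α = (χ₁ : SpecialLinearGroup (Fin 2) F → ℂ) + (χ₂ : SpecialLinearGroup (Fin 2) F → ℂ)) :
    2 * (χ₁ : SpecialLinearGroup (Fin 2) F → ℂ) 1 = (Fintype.card F : ℂ) + 1 ∧
    2 * (χ₂ : SpecialLinearGroup (Fin 2) F → ℂ) 1 = (Fintype.card F : ℂ) + 1 := by
  obtain ⟨c, hc⟩ := halves hα1 hne hadd
  have h1 := hc 1
  rw [map_one] at h1
  have h2 := pSL_one α
  rw [hadd, Pi.add_apply, h1] at h2
  constructor
  · linear_combination h2
  · rw [h1]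
    linear_combination h2

/-- The constituents of the principal series of `SL₂(q)`. -/
theorem prinSL_cases {χ : SpecialLinearGroup (Fin 2) F → ℂ} (hχ : IsIrrCharacter (SpecialLinearGroup (Fin 2) F) χ)
    (h0 : ∑ x : F, χ (uSL x) ≠ 0) :
    (∃ α : MulChar F ℂ, χ = pSL α) ∨ (χ = fun _ => 1) ∨ (χ = pSL 1 - (fun _ => (1 : ℂ))) ∨
      (∃ (α : MulChar F ℂ) (χ₁ χ₂ : IrrCharacter (SpecialLinearGroup (Fin 2) F)), α * α = 1 ∧ α ≠ 1 ∧ χ₁ ≠ χ₂ ∧
        pSL α = (χ₁ : SpecialLinearGroup (Fin 2) F → ℂ) + (χ₂ : SpecialLinearGroup (Fin 2) F → ℂ) ∧ χ = χ₁) := by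
  classical
  obtain ⟨α, h1⟩ := exists_prinSL hχ h0
  by_cases hα : α * α = 1
  · have h2 : classInner (pSL α) (pSL α) = 2 := by
      rw [classInner_prinSL, if_pos rfl, if_pos hα]
      norm_num
    right
    by_cases hα1 : α = 1
    · subst hα1
      rcases eq_or_eq_sub (isCharacter_pSL 1) h2 Char.isIrrCharacter_one
        (by rw [classInner_one_pSL_one]; exact one_ne_zero) hχ h1 with h3 | h3
      · exact Or.inl h3
      · exact Or.inr (Or.inl h3)
    · right; right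
      obtain ⟨χ₁, χ₂, hne, hadd⟩ := exists_add_of_norm_two (isCharacter_pSL α) h2
      rw [hadd] at h1
      rcases eq_or_eq_of_add hχ h1 with h3 | h3
      · exact ⟨α, χ₁, χ₂, hα, hα1, hne, hadd, h3⟩
      · exact ⟨α, χ₂, χ₁, hα, hα1, hne.symm, by rw [hadd, add_comm], h3⟩
  · left
    refine ⟨α, eq_of_classInner_ne_zero hχ ?_ h1⟩
    rw [isIrrCharacter_iff (isCharacter_pSL α), classInner_prinSL, if_pos rfl, if_neg hα, add_zero]

end sl

end Cfsg.Agent.H39
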