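import Cfsg.Agent.H39.PrinSL

/-!
Restriction of irreducible characters of `SL₂(q)` to the unipotent subgroup: the multiplicities.
-/

set_option autoImplicit false
set_option linter.unusedSectionVars false
set_option linter.unusedSimpArgs false

namespace Cfsg.Agent.H39

open Cfsg Cfsg.Agent.Char Cfsg.Agent.CharBase Matrix
open scoped ComplexConjugate

section sl
variable {F : Type*} [Field F] [Fintype F] [DecidableEq F]

theorem bSL_conj (c : Fˣ) (x : F) : (bSL (c, 0) : SpecialLinearGroup (Fin 2) F) * uSL x *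
    (bSL (c, 0) : SpecialLinearGroup (Fin 2) F)⁻¹ = uSL ((c : F) * c * x) := by
  rw [mul_inv_eq_iff_eq_mul]
  apply (frameSL F).ext
  rw [mt_mul, mt_mul, (frameSL F).hu, (frameSL F).hu, mt_bSL]
  ext i j
  fin_cases i <;> fin_cases j <;> simp [Matrix.mul_apply, Fin.sum_univ_two]
  field_simp

theorem mult_sq {χ : SpecialLinearGroup (Fin 2) F → ℂ} (hcl : IsClassFunction (SpecialLinearGroup (Fin 2) F) χ)
    {ψ : AddChar F ℂ} {m : F → ℕ} (hm : ∀ a, hatC ψ (fun x => χ (uSL x)) a = m a) {c : F} (hc : c ≠ 0) (a : F) :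
    m (c * c * a) = m a := by
  have h1 := hat_scale ψ (fun x => χ (uSL x)) (mul_ne_zero hc hc) (fun x => by
    have h2 := bSL_conj (Units.mk0 c hc) x
    rw [Units.val_mk0] at h2
    rw [← h2]
    exact hcl _ _) a
  have h2 : (m (c * c * a) : ℂ) = m a := by rw [← hm, ← hm]; exact h1
  exact_mod_cast h2

theorem mult_zero {χ : SpecialLinearGroup (Fin 2) F → ℂ}
    {ψ : AddChar F ℂ} {m : F → ℕ} (hm : ∀ a, hatC ψ (fun x => χ (uSL x)) a = m a) :
    ∑ x : F, χ (uSL x) = Fintype.card F * (m 0 : ℂ) := by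
  rw [← hm, hatC, mul_inv_cancel_left₀ (card_ne F)]
  refine Finset.sum_congr rfl fun x _ => ?_
  simp

theorem card_SL : Nat.card (SpecialLinearGroup (Fin 2) F) = (Fintype.card F + 1) * ((Fintype.card F - 1) * Fintype.card F) := by
  rw [card_brMap _ _ _ (frameSL F).bij, card_bSL]

/-- sum over nonzero elements in even characteristic -/
theorem even_data (h2 : (2 : F) = 0) {χ : SpecialLinearGroup (Fin 2) F → ℂ}
    (hχ : IsIrrCharacter (SpecialLinearGroup (Fin 2) F) χ) (h0 : ∑ x : F, χ (uSL x) = 0) :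
    ∃ e : ℕ, χ 1 = e * ((Fintype.card F : ℂ) - 1) ∧ χ (uSL 1) = -e ∧ 2 * e ^ 2 ≤ Fintype.card F + 1 := by
  classical
  obtain ⟨ψ, hψ⟩ := exists_primitive F
  have hq : 1 < Fintype.card F := Fintype.one_lt_card
  have hch := isCharacter_of_isIrr hχ
  have hcl := isClassFunction_of_isCharacter hch
  choose m hm using (frameSL F).hat_nat hch ψ
  have hm0 : m 0 = 0 := by
    have h1 := mult_zero hm
    rw [h0] at h1
    have h3 := (mul_eq_zero.1 h1.symm).resolve_left (card_ne F)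
    exact_mod_cast h3
  have hme : ∀ a : F, a ≠ 0 → m a = m 1 := by
    intro a ha
    obtain ⟨c, hc⟩ : ∃ c : F, c * c = a := by
      haveI : CharP F 2 := CharTwo.of_one_ne_zero_of_two_eq_zero one_ne_zero h2
      haveI : Fact (Nat.Prime 2) := ⟨Nat.prime_two⟩
      have hinj : Function.Injective (frobenius F 2) := frobenius_inj F 2
      obtain ⟨s, hs⟩ := (Finite.injective_iff_surjective.1 hinj) a
      exact ⟨s, by rw [← hs, frobenius_def, sq]⟩
    have hc0 : c ≠ 0 := by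
      rintro rfl
      apply ha
      rw [← hc, mul_zero]
    have h1 := mult_sq hcl hm hc0 1
    rw [hc, mul_one] at h1
    exact h1
  have hval : ∀ x : F, χ (uSL x) = (m 1 : ℂ) * (∑ a : F, ψ (a * x)) - m 1 := by
    intro x
    have h1 : χ (uSL x) = ∑ a, hatC ψ (fun x => χ (uSL x)) a * ψ (a * x) := hat_inv hψ (fun x => χ (uSL x)) x
    rw [h1]
    have h2 : ∀ a : F, hatC ψ (fun x => χ (uSL x)) a * ψ (a * x) = (m a : ℂ) * ψ (a * x) := by
      intro a
      rw [← hm]
    rw [Finset.sum_congr rfl (fun a _ => h2 a), ← Finset.add_sum_erase Finset.univ _ (Finset.mem_univ (0 : F)),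
      ← Finset.add_sum_erase Finset.univ (fun a => ψ (a * x)) (Finset.mem_univ (0 : F)), hm0, mul_add, Finset.mul_sum]
    have h3 : ∑ a ∈ Finset.univ.erase (0 : F), (m a : ℂ) * ψ (a * x) = ∑ a ∈ Finset.univ.erase (0 : F), (m 1 : ℂ) * ψ (a * x) := by
      refine Finset.sum_congr rfl fun a ha => ?_
      rw [hme a (Finset.mem_erase.1 ha).1]
    rw [h3]
    simp
  refine ⟨m 1, ?_, ?_, ?_⟩
  · have h1 := hval 0
    rw [show uSL (0 : F) = 1 from (frameSL F).u_zero] at h1
    rw [h1]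
    simp
    ring
  · rw [hval 1, AddChar.sum_mulShift _ hψ]
    simp
  · have hd : χ 1 = ((m 1 * (Fintype.card F - 1) : ℕ) : ℂ) := by
      have h1 := hval 0
      rw [show uSL (0 : F) = 1 from (frameSL F).u_zero] at h1
      rw [h1]
      push_cast [Nat.cast_sub hq.le]
      simp
      ring
    have hb := (frameSL F).bound hχ (fun _ : Unit => (1 : SpecialLinearGroup (Fin 2) F)) (fun _ => (1 : F))
      (fun a b _ => rfl) (fun c => one_ne_zero) (fun c => by rw [mt_one, one_smul]) hψ m hm _ hd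
    have hsum : ∑ a : F, m a ^ 2 = (Fintype.card F - 1) * m 1 ^ 2 := by
      rw [← Finset.add_sum_erase Finset.univ _ (Finset.mem_univ (0 : F)), hm0]
      have h3 : ∑ a ∈ Finset.univ.erase (0 : F), m a ^ 2 = ∑ a ∈ Finset.univ.erase (0 : F), m 1 ^ 2 := by
        refine Finset.sum_congr rfl fun a ha => ?_
        rw [hme a (Finset.mem_erase.1 ha).1]
      rw [h3, Finset.sum_const, Finset.card_erase_of_mem (Finset.mem_univ _), Finset.card_univ, smul_eq_mul]
      simp
    rw [hsum, card_SL, Fintype.card_unit] at hb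
    obtain ⟨n, hn⟩ : ∃ n, Fintype.card F = n + 2 := ⟨Fintype.card F - 2, by omega⟩
    rw [hn] at hb ⊢
    have e1 : n + 2 - 1 = n + 1 := by omega
    rw [e1] at hb
    have hpos : 0 < (n + 1) * (n + 2) := by positivity
    have hb2 : ((n + 1) * (n + 2)) * ((n + 2 + 1) * m 1 ^ 2) ≤ ((n + 1) * (n + 2)) * ((n + 2 + 1) + (n + 1) * m 1 ^ 2) := by
      calc ((n + 1) * (n + 2)) * ((n + 2 + 1) * m 1 ^ 2) = 1 * ((n + 2) * ((n + 2 + 1) * ((n + 1) * m 1 ^ 2))) := by ring
        _ ≤ _ := hb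
        _ = _ := by ring
    have hb3 := Nat.le_of_mul_le_mul_left hb2 hpos
    nlinarith

/-- the complex quadratic character -/
noncomputable def eta (F : Type*) [Field F] [Fintype F] [DecidableEq F] : MulChar F ℂ :=
  (quadraticChar F).ringHomComp (Int.castRingHom ℂ)

theorem eta_apply (a : F) : eta F a = ((quadraticChar F a : ℤ) : ℂ) := rfl

theorem eta_zero : eta F 0 = 0 := MulChar.map_zero _

theorem eta_sq_one {a : F} (ha : a ≠ 0) : eta F a * eta F a = 1 := by
  rw [eta_apply]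
  have := quadraticChar_sq_one ha
  rw [sq] at this
  exact_mod_cast this

theorem eta_ne_one (hF : ringChar F ≠ 2) : eta F ≠ 1 := by
  intro h
  obtain ⟨ν, hν⟩ := FiniteField.exists_nonsquare hF
  have hν0 : ν ≠ 0 := by rintro rfl; exact hν (by simp)
  have h1 : eta F ν = 1 := by rw [h]; exact MulChar.one_apply (IsUnit.mk0 _ hν0)
  rw [eta_apply, quadraticChar_neg_one_iff_not_isSquare.2 hν] at h1
  norm_num at h1

theorem ringChar_ne_two (hodd : Odd (Fintype.card F)) : ringChar F ≠ 2 := by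
  intro h
  have := FiniteField.even_card_iff_char_two.1 h
  rw [Nat.odd_iff] at hodd
  omega

/-- multiplicities in odd characteristic -/
theorem mult_odd {χ : SpecialLinearGroup (Fin 2) F → ℂ} (hcl : IsClassFunction (SpecialLinearGroup (Fin 2) F) χ)
    {ψ : AddChar F ℂ} {m : F → ℕ} (hm : ∀ a, hatC ψ (fun x => χ (uSL x)) a = m a) {ν : F} (hν : ¬ IsSquare ν)
    {a : F} (ha : a ≠ 0) : m a = if IsSquare a then m 1 else m ν := by
  classical
  have hν0 : ν ≠ 0 := by rintro rfl; exact hν (by simp)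
  split_ifs with h
  · obtain ⟨c, rfl⟩ := h
    have hc0 : c ≠ 0 := by rintro rfl; simp at ha
    have := mult_sq hcl hm hc0 1
    rwa [mul_one] at this
  · have h1 : IsSquare (a * ν⁻¹) := by
      have hνi : ¬ IsSquare ν⁻¹ := by rwa [isSquare_inv]
      rw [← quadraticChar_one_iff_isSquare (mul_ne_zero ha (inv_ne_zero hν0)), map_mul,
        quadraticChar_neg_one_iff_not_isSquare.2 h, quadraticChar_neg_one_iff_not_isSquare.2 hνi]
      norm_num
    obtain ⟨c, hc⟩ := h1
    have hc0 : c ≠ 0 := by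
      rintro rfl
      simp [ha, hν0] at hc
    have := mult_sq hcl hm hc0 ν
    rw [← hc, inv_mul_cancel_right₀ hν0] at this
    exact this

theorem mult_odd' {χ : SpecialLinearGroup (Fin 2) F → ℂ} (hcl : IsClassFunction (SpecialLinearGroup (Fin 2) F) χ)
    {ψ : AddChar F ℂ} {m : F → ℕ} (hm : ∀ a, hatC ψ (fun x => χ (uSL x)) a = m a) {ν : F} (hν : ¬ IsSquare ν)
    {a : F} (ha : a ≠ 0) : (m a : ℂ) = ((m 1 : ℂ) + m ν) / 2 + ((m 1 : ℂ) - m ν) / 2 * eta F a := by
  rw [mult_odd hcl hm hν ha, eta_apply]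
  split_ifs with h
  · rw [(quadraticChar_one_iff_isSquare ha).2 h]
    push_cast
    ring
  · rw [quadraticChar_neg_one_iff_not_isSquare.2 h]
    push_cast
    ring

theorem sum_eta_shift {ψ : AddChar F ℂ} {x : F} (hx : x ≠ 0) :
    ∑ a : F, eta F a * ψ (a * x) = eta F x * gaussSum (eta F) ψ := by
  rw [gaussSum, Finset.mul_sum, ← Equiv.sum_comp (Equiv.mulRight₀ x hx) (fun a => eta F x * (eta F a * ψ a))]
  refine Finset.sum_congr rfl fun a _ => ?_
  show _ = eta F x * (eta F (a * x) * ψ (a * x))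
  rw [map_mul (eta F)]
  linear_combination (-(eta F a * ψ (a * x))) * eta_sq_one hx

/-- values at unipotent elements in odd characteristic -/
theorem value_odd (hF : ringChar F ≠ 2) {χ : SpecialLinearGroup (Fin 2) F → ℂ} (hcl : IsClassFunction (SpecialLinearGroup (Fin 2) F) χ)
    {ψ : AddChar F ℂ} (hψ : ψ.IsPrimitive) {m : F → ℕ} (hm : ∀ a, hatC ψ (fun x => χ (uSL x)) a = m a)
    {ν : F} (hν : ¬ IsSquare ν) :
    χ 1 = m 0 + ((m 1 : ℂ) + m ν) / 2 * ((Fintype.card F : ℂ) - 1) ∧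
    ∀ x, x ≠ 0 → χ (uSL x) = m 0 - ((m 1 : ℂ) + m ν) / 2 + ((m 1 : ℂ) - m ν) / 2 * (eta F x * gaussSum (eta F) ψ) := by
  classical
  have key : ∀ x, χ (uSL x) = m 0 - ((m 1 : ℂ) + m ν) / 2 + ((m 1 : ℂ) + m ν) / 2 * (∑ a : F, ψ (a * x)) +
      ((m 1 : ℂ) - m ν) / 2 * (∑ a : F, eta F a * ψ (a * x)) := by
    intro x
    have h1 : χ (uSL x) = ∑ a, hatC ψ (fun x => χ (uSL x)) a * ψ (a * x) := hat_inv hψ (fun x => χ (uSL x)) x
    have h2 : ∀ a : F, hatC ψ (fun x => χ (uSL x)) a * ψ (a * x) =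
        (if a = 0 then ((m 0 : ℂ) - ((m 1 : ℂ) + m ν) / 2) else 0) + ((m 1 : ℂ) + m ν) / 2 * ψ (a * x) +
        ((m 1 : ℂ) - m ν) / 2 * (eta F a * ψ (a * x)) := by
      intro a
      rw [hm]
      by_cases ha : a = 0
      · subst ha
        simp [eta_zero]
      · rw [mult_odd' hcl hm hν ha, if_neg ha]
        ring
    rw [h1, Finset.sum_congr rfl (fun a _ => h2 a), Finset.sum_add_distrib, Finset.sum_add_distrib, ← Finset.mul_sum,
      ← Finset.mul_sum, Finset.sum_ite_eq' Finset.univ (0 : F), if_pos (Finset.mem_univ _)]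
  constructor
  · have h1 := key 0
    rw [show uSL (0 : F) = 1 from (frameSL F).u_zero] at h1
    rw [h1]
    have h2 : ∑ a : F, eta F a * ψ (a * 0) = 0 := by
      simp only [mul_zero, AddChar.map_zero_eq_one, mul_one]
      exact MulChar.sum_eq_zero_of_ne_one (eta_ne_one hF)
    rw [h2]
    simp
    ring
  · intro x hx
    rw [key x, sum_eta_shift hx, AddChar.sum_mulShift _ hψ, if_neg hx]
    push_cast
    ring

theorem sum_sq_odd (hF : ringChar F ≠ 2) {χ : SpecialLinearGroup (Fin 2) F → ℂ} (hcl : IsClassFunction (SpecialLinearGroup (Fin 2) F) χ)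
    {ψ : AddChar F ℂ} {m : F → ℕ} (hm : ∀ a, hatC ψ (fun x => χ (uSL x)) a = m a)
    {ν : F} (hν : ¬ IsSquare ν) {k : ℕ} (hk : Fintype.card F = 2 * k + 1) :
    ∑ a, m a ^ 2 = m 0 ^ 2 + k * (m 1 ^ 2 + m ν ^ 2) := by
  have h1 : ((∑ a, m a ^ 2 : ℕ) : ℂ) = ((m 0 ^ 2 + k * (m 1 ^ 2 + m ν ^ 2) : ℕ) : ℂ) := by
    push_cast
    have h2 : ∀ a : F, (m a : ℂ) ^ 2 = (if a = 0 then ((m 0 : ℂ) ^ 2 - ((m 1 : ℂ) ^ 2 + (m ν : ℂ) ^ 2) / 2) else 0) +
        (((m 1 : ℂ) ^ 2 + (m ν : ℂ) ^ 2) / 2) + ((m 1 : ℂ) ^ 2 - (m ν : ℂ) ^ 2) / 2 * eta F a := by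
      intro a
      by_cases ha : a = 0
      · subst ha
        simp [eta_zero]
      · rw [mult_odd' hcl hm hν ha, if_neg ha]
        linear_combination (((m 1 : ℂ) - m ν) / 2) ^ 2 * eta_sq_one ha
    rw [Finset.sum_congr rfl (fun a _ => h2 a), Finset.sum_add_distrib, Finset.sum_add_distrib, ← Finset.mul_sum,
      Finset.sum_ite_eq' Finset.univ (0 : F), if_pos (Finset.mem_univ _), MulChar.sum_eq_zero_of_ne_one (eta_ne_one hF),
      Finset.sum_const, Finset.card_univ, nsmul_eq_mul, hk]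
    push_cast
    ring
  exact_mod_cast h1

/-- `±1`. -/
def zpm (s : Bool) : SpecialLinearGroup (Fin 2) F := if s then 1 else ⟨!![-1, 0; 0, -1], by rw [Matrix.det_fin_two]; simp⟩

/-- signs -/
def cpm (F : Type*) [Field F] (s : Bool) : F := if s then 1 else -1

theorem mt_zpm (s : Bool) : mt (inSL F) (zpm s) = cpm F s • (1 : Matrix (Fin 2) (Fin 2) F) := by
  rcases s with _ | _
  · show !![(-1 : F), 0; 0, -1] = (-1 : F) • (1 : Matrix (Fin 2) (Fin 2) F)
    ext i j
    fin_cases i <;> fin_cases j <;> simp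
  · show mt (inSL F) 1 = (1 : F) • (1 : Matrix (Fin 2) (Fin 2) F)
    rw [mt_one, one_smul]

theorem two_ne_zero_of (hF : ringChar F ≠ 2) : (2 : F) ≠ 0 := Ring.two_ne_zero hF

theorem cpm_injective (hF : ringChar F ≠ 2) : Function.Injective (cpm F) := by
  have h2 := two_ne_zero_of hF
  rintro (_ | _) (_ | _) h <;> simp [cpm] at h ⊢
  · exact h2 (by linear_combination -h)
  · exact h2 (by linear_combination h)

theorem cpm_ne_zero (s : Bool) : cpm F s ≠ 0 := by
  rcases s with _ | _ <;> simp [cpm]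

/-- The norm bound in odd characteristic. -/
theorem bound_odd (hF : ringChar F ≠ 2) {χ : SpecialLinearGroup (Fin 2) F → ℂ}
    (hχ : IsIrrCharacter (SpecialLinearGroup (Fin 2) F) χ)
    {ψ : AddChar F ℂ} (hψ : ψ.IsPrimitive) {m : F → ℕ} (hm : ∀ a, hatC ψ (fun x => χ (uSL x)) a = m a)
    {ν : F} (hν : ¬ IsSquare ν) {k : ℕ} (hk : Fintype.card F = 2 * k + 1) (hk0 : 0 < k) (hm0 : m 0 = 0) :
    χ 1 = ((m 1 + m ν) * k : ℕ) ∧ (k + 2) * (m 1 ^ 2 + m ν ^ 2) ≤ 2 * (k + 1) + 2 * k * (m 1 * m ν) := by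
  have hcl := isClassFunction_of_isCharacter (isCharacter_of_isIrr hχ)
  have hd : χ 1 = ((m 1 + m ν) * k : ℕ) := by
    rw [(value_odd hF hcl hψ hm hν).1, hm0, hk]
    push_cast
    ring
  refine ⟨hd, ?_⟩
  have hb := (frameSL F).bound hχ (zpm (F := F)) (cpm F) (cpm_injective hF) cpm_ne_zero mt_zpm hψ m hm _ hd
  rw [sum_sq_odd hF hcl hm hν hk, hm0, card_SL, hk, Fintype.card_bool] at hb
  have e1 : 2 * k + 1 - 1 = 2 * k := by omega
  rw [e1] at hb
  have hpos : 0 < 2 * k * (2 * k + 1) := by positivity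
  have hb2 : (2 * k * (2 * k + 1)) * (2 * (k + 1) * (m 1 ^ 2 + m ν ^ 2)) ≤
      (2 * k * (2 * k + 1)) * (2 * (k + 1) + k * (m 1 + m ν) ^ 2) := by
    calc (2 * k * (2 * k + 1)) * (2 * (k + 1) * (m 1 ^ 2 + m ν ^ 2)) =
        2 * ((2 * k + 1) * ((2 * k + 1 + 1) * (0 ^ 2 + k * (m 1 ^ 2 + m ν ^ 2)))) := by ring
      _ ≤ _ := hb
      _ = _ := by ring
  have hb3 := Nat.le_of_mul_le_mul_left hb2 hpos
  nlinarith

/-- numerical consequences of the norm bound -/
theorem num_odd {k a b : ℕ} (hk : 0 < k) (h : (k + 2) * (a ^ 2 + b ^ 2) ≤ 2 * (k + 1) + 2 * k * (a * b)) :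
    (a + b) * k ≠ 2 * k + 1 ∧ (a + b) * k ≠ 2 * k + 2 ∧ ((a + b) * k = k + 1 → k = 1 ∧ a = 1 ∧ b = 1) ∧
    ((a + b) * k = 2 * k → a = 1 ∧ b = 1) ∧ ((a + b) * k = k → (a = 1 ∧ b = 0) ∨ (a = 0 ∧ b = 1)) := by
  refine ⟨?_, ?_, ?_, ?_, ?_⟩
  · intro hs
    have h3 : 3 ≤ a + b := by
      by_contra hc
      have : (a + b) * k ≤ 2 * k := Nat.mul_le_mul_right k (by omega)
      omega
    have h4 : 3 * k ≤ (a + b) * k := Nat.mul_le_mul_right k h3
    have hk1 : k = 1 := by omega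
    subst hk1
    have h5 : a + b = 3 := by omega
    have h6 : b = 3 - a := by omega
    have h7 : a ≤ 3 := by omega
    subst h6
    interval_cases a <;> omega
  · intro hs
    have h3 : 3 ≤ a + b := by
      by_contra hc
      have : (a + b) * k ≤ 2 * k := Nat.mul_le_mul_right k (by omega)
      omega
    have h4 : 3 * k ≤ (a + b) * k := Nat.mul_le_mul_right k h3
    have hk1 : k = 1 ∨ k = 2 := by omega
    rcases hk1 with rfl | rfl
    · have h6 : b = 4 - a := by omega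
      have h7 : a ≤ 4 := by omega
      subst h6
      interval_cases a <;> omega
    · have h6 : b = 3 - a := by omega
      have h7 : a ≤ 3 := by omega
      subst h6
      interval_cases a <;> omega
  · intro hs
    have h3 : 2 ≤ a + b := by
      by_contra hc
      have : (a + b) * k ≤ 1 * k := Nat.mul_le_mul_right k (by omega)
      omega
    have h4 : 2 * k ≤ (a + b) * k := Nat.mul_le_mul_right k h3
    have hk1 : k = 1 := by omega
    subst hk1
    have h6 : b = 2 - a := by omega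
    have h7 : a ≤ 2 := by omega
    subst h6
    interval_cases a <;> omega
  · intro hs
    have h5 : a + b = 2 := Nat.eq_of_mul_eq_mul_right hk hs
    have h6 : b = 2 - a := by omega
    have h7 : a ≤ 2 := by omega
    subst h6
    interval_cases a <;> omega
  · intro hs
    have h5 : (a + b) * k = 1 * k := by omega
    have h6 := Nat.eq_of_mul_eq_mul_right hk h5
    omega

end sl

end Cfsg.Agent.H39
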