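import Mathlib

/-!
Conjugacy classes of `GL₂` and `SL₂` over a field: companion forms.
-/

set_option autoImplicit false
set_option linter.unusedSectionVars false
set_option linter.unusedSimpArgs false

namespace Cfsg.Agent.H39

open Matrix

section
variable {F : Type*} [Field F]

/-- companion matrix of `x² - t x + d`. -/
def comp2 (t d : F) : Matrix (Fin 2) (Fin 2) F := !![0, -d; 1, t]

/-- scalar 2 × 2 matrices -/
def Scal2 (g : Matrix (Fin 2) (Fin 2) F) : Prop := g 0 1 = 0 ∧ g 1 0 = 0 ∧ g 0 0 = g 1 1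

/-- the quadratic form `v ↦ det (v, g v)`. -/
def qf2 (g : Matrix (Fin 2) (Fin 2) F) (x y : F) : F := g 1 0 * x ^ 2 + (g 1 1 - g 0 0) * x * y - g 0 1 * y ^ 2

/-- The matrix `(v, g v)`. -/
def kry2 (g : Matrix (Fin 2) (Fin 2) F) (x y : F) : Matrix (Fin 2) (Fin 2) F :=
  !![x, g 0 0 * x + g 0 1 * y; y, g 1 0 * x + g 1 1 * y]

theorem det_kry2 (g : Matrix (Fin 2) (Fin 2) F) (x y : F) : (kry2 g x y).det = qf2 g x y := by
  rw [Matrix.det_fin_two]
  simp [kry2, qf2]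
  ring

theorem mul_kry2 (g : Matrix (Fin 2) (Fin 2) F) (x y : F) :
    g * kry2 g x y = kry2 g x y * comp2 g.trace g.det := by
  rw [Matrix.det_fin_two, Matrix.trace_fin_two]
  ext i j
  fin_cases i <;> fin_cases j <;> simp [kry2, comp2, Matrix.mul_apply, Fin.sum_univ_two] <;> ring

theorem exists_qf2_ne_zero {g : Matrix (Fin 2) (Fin 2) F} (hg : ¬ Scal2 g) : ∃ x y, qf2 g x y ≠ 0 := by
  by_cases h1 : g 1 0 = 0
  · by_cases h2 : g 0 1 = 0
    · refine ⟨1, 1, ?_⟩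
      intro h3
      apply hg
      refine ⟨h2, h1, ?_⟩
      simp only [qf2, h1, h2] at h3
      linear_combination -h3
    · exact ⟨0, 1, by simpa [qf2] using h2⟩
  · exact ⟨1, 0, by simpa [qf2] using h1⟩

theorem scal2_eq {g : Matrix (Fin 2) (Fin 2) F} (hg : Scal2 g) : g = Matrix.scalar (Fin 2) (g 0 0) := by
  ext i j
  obtain ⟨h1, h2, h3⟩ := hg
  fin_cases i <;> fin_cases j <;> simp [h1, h2, h3]

theorem scal2_scalar (a : F) : Scal2 (Matrix.scalar (Fin 2) a) := by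
  refine ⟨?_, ?_, ?_⟩ <;> simp

theorem not_scal2_comp2 (t d : F) : ¬ Scal2 (comp2 t d) := by
  rintro ⟨-, h, -⟩
  simp [comp2] at h

theorem scal2_of_mul {P g h : Matrix (Fin 2) (Fin 2) F} (hP : P.det ≠ 0) (hh : P * g = h * P) (hg : Scal2 g) : h = g := by
  have hP' : IsUnit P.det := IsUnit.mk0 _ hP
  have h1 : P * g = g * P := by
    rw [scal2_eq hg]
    exact (Matrix.scalar_commute (g 0 0) (fun r => mul_comm _ _) P).symm
  rw [h1] at hh
  have h2 : g * P * P⁻¹ = h * P * P⁻¹ := by rw [hh]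
  rw [Matrix.mul_assoc, Matrix.mul_nonsing_inv _ hP', Matrix.mul_assoc, Matrix.mul_nonsing_inv _ hP',
    Matrix.mul_one, Matrix.mul_one] at h2
  exact h2.symm

theorem isConj_gl_iff {g h : GL (Fin 2) F} : IsConj g h ↔ ∃ P : Matrix (Fin 2) (Fin 2) F, P.det ≠ 0 ∧
    P * (g : Matrix (Fin 2) (Fin 2) F) = (h : Matrix (Fin 2) (Fin 2) F) * P := by
  rw [isConj_iff]
  constructor
  · rintro ⟨c, hc⟩
    refine ⟨(c : Matrix (Fin 2) (Fin 2) F), ?_, ?_⟩
    · exact (Matrix.isUnits_det_units c).ne_zero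
    · exact congrArg Units.val (mul_inv_eq_iff_eq_mul.1 hc)
  · rintro ⟨P, hP, hh⟩
    refine ⟨Matrix.GeneralLinearGroup.mkOfDetNeZero P hP, ?_⟩
    rw [mul_inv_eq_iff_eq_mul]
    apply Units.ext
    exact hh

theorem isConj_gl_comp2 (g : GL (Fin 2) F) (hg : ¬ Scal2 (g : Matrix (Fin 2) (Fin 2) F)) (c : GL (Fin 2) F)
    (hc : (c : Matrix (Fin 2) (Fin 2) F) = comp2 (g : Matrix (Fin 2) (Fin 2) F).trace (g : Matrix (Fin 2) (Fin 2) F).det) :
    IsConj c g := by
  obtain ⟨x, y, hxy⟩ := exists_qf2_ne_zero hg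
  rw [isConj_gl_iff]
  refine ⟨kry2 (g : Matrix (Fin 2) (Fin 2) F) x y, by rwa [det_kry2], ?_⟩
  rw [hc, mul_kry2]

theorem isConj_gl_of_eq (g h : GL (Fin 2) F) (hg : ¬ Scal2 (g : Matrix (Fin 2) (Fin 2) F))
    (hh : ¬ Scal2 (h : Matrix (Fin 2) (Fin 2) F))
    (ht : (g : Matrix (Fin 2) (Fin 2) F).trace = (h : Matrix (Fin 2) (Fin 2) F).trace)
    (hd : (g : Matrix (Fin 2) (Fin 2) F).det = (h : Matrix (Fin 2) (Fin 2) F).det) : IsConj g h := by
  obtain ⟨x, y, hxy⟩ := exists_qf2_ne_zero hg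
  have hdet : (comp2 (g : Matrix (Fin 2) (Fin 2) F).trace (g : Matrix (Fin 2) (Fin 2) F).det).det ≠ 0 := by
    have h1 := (Matrix.isUnits_det_units g).ne_zero
    rw [Matrix.det_fin_two (comp2 _ _)]
    simpa [comp2] using h1
  let c : GL (Fin 2) F := Matrix.GeneralLinearGroup.mkOfDetNeZero _ hdet
  have h1 : IsConj c g := isConj_gl_comp2 g hg c rfl
  have h2 : IsConj c h := by
    apply isConj_gl_comp2 h hh c
    rw [← ht, ← hd]
    rfl
  exact h1.symm.trans h2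

/-- trace is a conjugacy invariant -/
theorem trace_eq_of_mul {P g h : Matrix (Fin 2) (Fin 2) F} (hP : P.det ≠ 0) (hh : P * g = h * P) :
    g.trace = h.trace ∧ g.det = h.det := by
  have hP' : IsUnit P.det := IsUnit.mk0 _ hP
  constructor
  · have h1 : g = P⁻¹ * (h * P) := by
      rw [← hh, ← Matrix.mul_assoc, Matrix.nonsing_inv_mul _ hP', Matrix.one_mul]
    rw [h1, Matrix.trace_mul_comm, Matrix.mul_assoc, Matrix.mul_nonsing_inv _ hP', Matrix.mul_one]
  · have h1 := congrArg Matrix.det hh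
    rw [Matrix.det_mul, Matrix.det_mul, mul_comm] at h1
    exact mul_right_cancel₀ hP h1

end

end Cfsg.Agent.H39
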