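import Cfsg.Agent.Star.AWDef

/-! S4415, piece 4b: dimension 4 from the structure of `N₀`. -/

set_option autoImplicit false

namespace Cfsg.Agent.H39.AW4

open Cfsg.Agent.Star.AW

universe u v
variable {G : Type u} [Group G] [Finite G] {W : Type v} [AddCommGroup W] [Module (ZMod 3) W]
  [Finite W] {σ : Representation (ZMod 3) G W} {N : Subgroup G} {b x y : G}

/-- rank of `g - 1` -/
noncomputable def rk (σ : Representation (ZMod 3) G W) (g : G) : ℕ :=
  Module.finrank (ZMod 3) (LinearMap.range (σ g - 1))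

theorem rk_conj_le (v g : G) : rk σ (v * g * v⁻¹) ≤ rk σ g := by
  have h1 : σ (v * g * v⁻¹) - 1 = (σ v) ∘ₗ (σ g - 1) ∘ₗ (σ v⁻¹) := by
    ext w
    have h2 : σ v (σ v⁻¹ w) = w := by
      rw [← Module.End.mul_apply, ← map_mul, mul_inv_cancel, map_one, Module.End.one_apply]
    simp only [map_mul, Module.End.mul_apply, LinearMap.sub_apply, Module.End.one_apply,
      LinearMap.comp_apply, map_sub, h2]
  unfold rk
  rw [h1, LinearMap.range_comp]
  refine (Submodule.finrank_map_le _ _).trans ?_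
  exact Submodule.finrank_mono (LinearMap.range_comp_le_range _ _)

theorem rk_conj (v g : G) : rk σ (v * g * v⁻¹) = rk σ g := by
  refine le_antisymm (rk_conj_le v g) ?_
  have := rk_conj_le (σ := σ) v⁻¹ (v * g * v⁻¹)
  rwa [show v⁻¹ * (v * g * v⁻¹) * v⁻¹⁻¹ = g by group] at this

theorem rk_inv_le (g : G) : rk σ g⁻¹ ≤ rk σ g := by
  have h1 : σ g⁻¹ - 1 = (σ g - 1) ∘ₗ (-(σ g⁻¹)) := by
    ext w
    have h2 : σ g (σ g⁻¹ w) = w := by
      rw [← Module.End.mul_apply, ← map_mul, mul_inv_cancel, map_one, Module.End.one_apply]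
    simp only [LinearMap.sub_apply, Module.End.one_apply, LinearMap.comp_apply,
      LinearMap.neg_apply, map_neg, h2]
    abel
  unfold rk
  rw [h1]
  exact Submodule.finrank_mono (LinearMap.range_comp_le_range _ _)

theorem rk_mul_le (g h : G) : rk σ (g * h) ≤ rk σ g + rk σ h := by
  have h1 : LinearMap.range (σ (g * h) - 1) ≤
      LinearMap.range (σ g - 1) ⊔ LinearMap.range (σ h - 1) := by
    rintro _ ⟨w, rfl⟩
    have h2 : (σ (g * h) - 1) w = (σ g - 1) (σ h w) + (σ h - 1) w := by
      simp only [map_mul, Module.End.mul_apply, LinearMap.sub_apply, Module.End.one_apply]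
      abel
    rw [h2]
    exact Submodule.add_mem_sup ⟨_, rfl⟩ ⟨_, rfl⟩
  exact (Submodule.finrank_mono h1).trans (Submodule.finrank_add_le_finrank_add_finrank _ _)

/-- piece 4b; `hrank` is `rank_x`, `hge` follows from `fix_dim` (piece 1) -/
theorem dim_of_N0 (h : QB σ b x y)
    (hrank : ∀ x' y' : G, QB σ b x' y' →
      Module.finrank (ZMod 3) (LinearMap.range (σ x' - 1)) = 2)
    (hge : 3 ≤ Module.finrank (ZMod 3) W)
    (hN : ∃ (N₀ : Subgroup G) (z : G), N₀.Normal ∧ z ∈ N₀ ∧ (∀ g, z * g = g * z) ∧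
      z * z = 1 ∧ σ z = -1 ∧
      (∀ u ∈ N₀, u * u = 1 ∨ u * u = z) ∧
      (∀ u ∈ N₀, u ≠ 1 → u ≠ z → ∃ v ∈ N₀, v * u * v⁻¹ = z * u) ∧
      ∃ s ∈ N₀, s⁻¹ * (b * s * b⁻¹) ≠ 1 ∧ s⁻¹ * (b * s * b⁻¹) ≠ z) :
    Module.finrank (ZMod 3) W = 4 := by
  obtain ⟨N₀, z, hn, hz, hzc, hzz, hσz, hsq, hconj, s, hs, ht1, htz⟩ := hN
  set t : G := s⁻¹ * (b * s * b⁻¹) with ht
  have htN : t ∈ N₀ := N₀.mul_mem (N₀.inv_mem hs) (hn.conj_mem s hs b)
  have hb3 : b * b * b = 1 := by rw [← h.b3, pow_succ, pow_two]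
  -- the product of the three conjugates
  have hprod : t * (b * t * b⁻¹) * (b * (b * t * b⁻¹) * b⁻¹) = 1 := by
    have hb3' : b⁻¹ * b⁻¹ * b⁻¹ = 1 := by
      rw [← mul_inv_rev, ← mul_inv_rev, ← mul_assoc, hb3, inv_one]
    calc t * (b * t * b⁻¹) * (b * (b * t * b⁻¹) * b⁻¹)
        = s⁻¹ * (b * b * b) * s * (b⁻¹ * b⁻¹ * b⁻¹) := by rw [ht]; group
      _ = 1 := by rw [hb3, hb3']; group
  have hrk4 : rk σ t ≤ 4 := by
    have h1 : t = (s⁻¹ * b * s⁻¹⁻¹) * b⁻¹ := by rw [ht]; group
    rw [h1]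
    refine (rk_mul_le _ _).trans ?_
    have h2 := rk_conj_le (σ := σ) s⁻¹ b
    have h3 := rk_inv_le (σ := σ) b
    have h4 : rk σ b ≤ 2 := h.rk
    omega
  have h2 : (2 : ZMod 3) ≠ 0 := by decide
  rcases hsq t htN with htt | htt
  · -- `t` is an involution
    have hA : (b * t * b⁻¹) * (b * t * b⁻¹) = 1 := by
      calc (b * t * b⁻¹) * (b * t * b⁻¹) = b * (t * t) * b⁻¹ := by group
        _ = 1 := by rw [htt]; group
    have hB : (b * (b * t * b⁻¹) * b⁻¹) * (b * (b * t * b⁻¹) * b⁻¹) = 1 := by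
      calc (b * (b * t * b⁻¹) * b⁻¹) * (b * (b * t * b⁻¹) * b⁻¹)
          = b * (b * (t * t) * b⁻¹) * b⁻¹ := by group
        _ = 1 := by rw [htt]; group
    have hC : b * (b * t * b⁻¹) * b⁻¹ = t * (b * t * b⁻¹) := by
      have h3 := eq_inv_of_mul_eq_one_left hprod
      rw [h3]
      exact eq_inv_of_mul_eq_one_left hB
    have hD : t * (b * t * b⁻¹) = (b * t * b⁻¹) * t := by
      rw [hC] at hB
      have h3 := eq_inv_of_mul_eq_one_left hB
      rw [mul_inv_rev] at h3
      rw [← eq_inv_of_mul_eq_one_left hA, ← eq_inv_of_mul_eq_one_left htt] at h3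
      exact h3
    have hQB : QB σ b t (b * t * b⁻¹) :=
      { faith := h.faith
        b3 := h.b3
        rk := h.rk
        x1 := ht1
        x2 := htt
        xy := hD
        bx := rfl
        bby := hC }
    have hr1 : Module.finrank (ZMod 3) (LinearMap.range (σ t - 1)) = 2 := hrank _ _ hQB
    obtain ⟨v, hv, hvt⟩ := hconj t htN ht1 htz
    have hr2 : Module.finrank (ZMod 3) (LinearMap.range (σ (z * t) - 1)) = 2 := by
      have h3 := rk_conj (σ := σ) v t
      rw [hvt] at h3
      exact h3.trans hr1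
    have hσt : ∀ w, σ t (σ t w) = w := by
      intro w
      rw [← Module.End.mul_apply, ← map_mul, htt, map_one, Module.End.one_apply]
    have h3 : LinearMap.ker (σ t - 1) = LinearMap.range (σ (z * t) - 1) := by
      ext w
      rw [LinearMap.mem_ker, LinearMap.mem_range]
      simp only [map_mul, hσz, Module.End.mul_apply, LinearMap.sub_apply, Module.End.one_apply,
        LinearMap.neg_apply]
      constructor
      · intro hw
        refine ⟨w, ?_⟩
        rw [sub_eq_zero.1 hw]
        have h5 : (3 : ZMod 3) • w = 0 := by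
          rw [show (3 : ZMod 3) = 0 by decide, zero_smul]
        have h6 : -w - w - w = -((3 : ZMod 3) • w) := by
          rw [show (3 : ZMod 3) = 1 + 1 + 1 by decide, add_smul, add_smul, one_smul]; abel
        rw [h5, neg_zero] at h6
        exact sub_eq_zero.1 h6
      · rintro ⟨w', rfl⟩
        rw [map_sub, map_neg, hσt]
        abel
    have h4 := LinearMap.finrank_range_add_finrank_ker (σ t - 1)
    rw [h3, hr1, hr2] at h4
    omega
  · -- `t² = z`
    have hσt : ∀ w, σ t (σ t w) = -w := by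
      intro w
      rw [← Module.End.mul_apply, ← map_mul, htt, hσz, LinearMap.neg_apply, Module.End.one_apply]
    have hsurj : LinearMap.range (σ t - 1) = ⊤ := by
      rw [LinearMap.range_eq_top]
      intro w
      refine ⟨σ t w + w, ?_⟩
      simp only [LinearMap.sub_apply, Module.End.one_apply, map_add, hσt]
      have h5 : (3 : ZMod 3) • w = 0 := by
        rw [show (3 : ZMod 3) = 0 by decide, zero_smul]
      have h6 : -w - w - w = -((3 : ZMod 3) • w) := by
        rw [show (3 : ZMod 3) = 1 + 1 + 1 by decide, add_smul, add_smul, one_smul]; abel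
      rw [h5, neg_zero] at h6
      have h7 := sub_eq_zero.1 h6
      have h8 : -w - σ t w + (σ t w - w) = -w - w := by abel
      rw [h8, h7]
    have hle : Module.finrank (ZMod 3) W ≤ 4 := by
      have h3 : Module.finrank (ZMod 3) (LinearMap.range (σ t - 1)) ≤ 4 := hrk4
      rwa [hsurj, finrank_top] at h3
    have hne : Module.finrank (ZMod 3) W ≠ 3 := by
      intro h3
      have h4 : LinearMap.det (σ t) * LinearMap.det (σ t) = -1 := by
        rw [← map_mul, ← map_mul, htt, hσz]
        have h5 : (-1 : Module.End (ZMod 3) W) = (-1 : ZMod 3) • 1 := by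
          rw [neg_smul, one_smul]
        rw [h5, LinearMap.det_smul, h3, map_one]
        decide
      generalize LinearMap.det (σ t) = d at h4
      revert h4
      revert d
      decide
    omega

end Cfsg.Agent.H39.AW4
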