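import Cfsg.Agent.H39.RankOne
import Cfsg.Prelude.Def_ParabolicCharacters

/-!
The Borel subgroup of `GL₂` and `SL₂` over a finite field and the principal series.
-/

set_option autoImplicit false
set_option linter.unusedSectionVars false
set_option linter.unusedSimpArgs false

namespace Cfsg.Agent.H39

open Cfsg Cfsg.Agent.Char Cfsg.Agent.CharBase Matrix
open scoped ComplexConjugate

section
variable {F : Type*} [Field F]

theorem mem_upper2 {g : GL (Fin 2) F} : g ∈ upperTriangularGL 2 F ↔ (g : Matrix (Fin 2) (Fin 2) F) 1 0 = 0 := by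
  constructor
  · intro h
    exact h (show id (0 : Fin 2) < id 1 by decide)
  · intro h i j hij
    fin_cases i <;> fin_cases j <;> simp_all

variable {G : Type*} [Group G] (ι : G →* GL (Fin 2) F)

/-- the matrix of an element -/
abbrev mt (g : G) : Matrix (Fin 2) (Fin 2) F := (ι g : Matrix (Fin 2) (Fin 2) F)

theorem mt_mul (g h : G) : mt ι (g * h) = mt ι g * mt ι h := by
  simp [mt]

theorem mt_one : mt ι 1 = 1 := by
  simp [mt]

/-- The Borel subgroup. -/
abbrev B2 : Subgroup G := (upperTriangularGL 2 F).comap ι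

theorem mem_B2 {g : G} : g ∈ B2 ι ↔ mt ι g 1 0 = 0 := mem_upper2

/-- A Bruhat frame: the map `ι` is injective, with elements over the standard unipotent elements and the standard
Weyl element. -/
structure Frame (u : F → G) (w : G) : Prop where
  inj : Function.Injective ι
  hu : ∀ x, mt ι (u x) = !![1, x; 0, 1]
  hw : mt ι w = !![0, 1; -1, 0]

variable {ι} {u : F → G} {w : G}

theorem Frame.ext (h : Frame ι u w) {g g' : G} (hh : mt ι g = mt ι g') : g = g' :=
  h.inj (Units.ext hh)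

theorem Frame.u_add (h : Frame ι u w) (x y : F) : u (x + y) = u x * u y := by
  apply h.ext
  rw [mt_mul, h.hu, h.hu, h.hu]
  ext i j
  fin_cases i <;> fin_cases j <;> simp [Matrix.mul_apply, Fin.sum_univ_two, add_comm]

theorem Frame.u_zero (h : Frame ι u w) : u 0 = 1 := by
  apply h.ext
  rw [h.hu, mt_one]
  ext i j
  fin_cases i <;> fin_cases j <;> simp

theorem Frame.u_neg (h : Frame ι u w) (x : F) : (u x)⁻¹ = u (-x) := by
  rw [inv_eq_iff_mul_eq_one, ← h.u_add, add_neg_cancel, h.u_zero]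

theorem Frame.u_mem (h : Frame ι u w) (x : F) : u x ∈ B2 ι := by
  rw [mem_B2, h.hu]; simp

theorem Frame.mt_inv_w (h : Frame ι u w) : mt ι w⁻¹ = !![0, -1; 1, 0] := by
  have h1 : mt ι w⁻¹ * mt ι w = 1 := by rw [← mt_mul, inv_mul_cancel, mt_one]
  have h2 : !![0, -1; 1, 0] * mt ι w = 1 := by
    rw [h.hw]
    ext i j
    fin_cases i <;> fin_cases j <;> simp [Matrix.mul_apply, Fin.sum_univ_two]
  have h3 : mt ι w * mt ι w⁻¹ = 1 := by rw [← mt_mul, mul_inv_cancel, mt_one]
  calc mt ι w⁻¹ = 1 * mt ι w⁻¹ := (one_mul _).symm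
    _ = (!![0, -1; 1, 0] * mt ι w) * mt ι w⁻¹ := by rw [h2]
    _ = _ := by rw [Matrix.mul_assoc, h3, Matrix.mul_one]

theorem Frame.uw (h : Frame ι u w) (x : F) : mt ι (u x * w) = !![-x, 1; -1, 0] := by
  rw [mt_mul, h.hu, h.hw]
  ext i j
  fin_cases i <;> fin_cases j <;> simp [Matrix.mul_apply, Fin.sum_univ_two]

theorem Frame.uw_inv (h : Frame ι u w) (x : F) : mt ι (u x * w)⁻¹ = !![0, -1; 1, -x] := by
  rw [_root_.mul_inv_rev, mt_mul, h.u_neg, h.hu, h.mt_inv_w]
  ext i j
  fin_cases i <;> fin_cases j <;> simp [Matrix.mul_apply, Fin.sum_univ_two]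

theorem mt_diag_ne_zero {b : G} (hb : b ∈ B2 ι) : mt ι b 0 0 ≠ 0 ∧ mt ι b 1 1 ≠ 0 := by
  have h1 := (Matrix.isUnits_det_units (ι b)).ne_zero
  rw [Matrix.det_fin_two] at h1
  rw [mem_B2] at hb
  change mt ι b 0 0 * mt ι b 1 1 - mt ι b 0 1 * mt ι b 1 0 ≠ 0 at h1
  rw [hb, mul_zero, sub_zero] at h1
  exact ⟨left_ne_zero_of_mul h1, right_ne_zero_of_mul h1⟩

theorem Frame.bij (h : Frame ι u w) : Function.Bijective (brMap (B2 ι) u w) := by
  constructor
  · rintro ⟨o, b⟩ ⟨o', b'⟩ hh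
    have key : ∀ (x : F) (b : B2 ι), mt ι (u x * w * b) 1 0 = - mt ι b 0 0 ∧ mt ι (u x * w * b) 0 0 = -x * mt ι b 0 0 := by
      intro x b
      have hb := b.2
      rw [mem_B2] at hb
      rw [mt_mul, h.uw]
      constructor
      · simp [Matrix.mul_apply, Fin.sum_univ_two]
      · simp [Matrix.mul_apply, Fin.sum_univ_two, hb]
    have hb0 := (mt_diag_ne_zero b.2).1
    have hb0' := (mt_diag_ne_zero b'.2).1
    rcases o with _ | x <;> rcases o' with _ | x'
    · have : (b : G) = b' := hh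
      rw [Subtype.ext this]
    · exfalso
      have h1 : (b : G) = u x' * w * b' := hh
      have h2 := b.2
      rw [mem_B2, h1, (key x' b').1, neg_eq_zero] at h2
      exact hb0' h2
    · exfalso
      have h1 : u x * w * b = (b' : G) := hh
      have h2 := b'.2
      rw [mem_B2, ← h1, (key x b).1, neg_eq_zero] at h2
      exact hb0 h2
    · have h1 : u x * w * b = u x' * w * (b' : G) := hh
      have h2 := congrArg (fun g => mt ι g 1 0) h1
      have h3 := congrArg (fun g => mt ι g 0 0) h1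
      simp only [(key x b).1, (key x' b').1] at h2
      simp only [(key x b).2, (key x' b').2] at h3
      have h4 : mt ι b 0 0 = mt ι b' 0 0 := neg_inj.1 h2
      rw [h4] at h3
      have h5 : x = x' := by
        have := mul_right_cancel₀ hb0' h3
        exact neg_inj.1 this
      subst h5
      have h6 : (b : G) = b' := mul_left_cancel h1
      rw [Subtype.ext h6]
  · intro g
    by_cases hg : g ∈ B2 ι
    · exact ⟨(none, ⟨g, hg⟩), rfl⟩
    · rw [mem_B2] at hg
      obtain ⟨x, hx⟩ : ∃ x, x * mt ι g 1 0 = mt ι g 0 0 := ⟨mt ι g 0 0 / mt ι g 1 0, by field_simp⟩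
      have hb : (u x * w)⁻¹ * g ∈ B2 ι := by
        rw [mem_B2, mt_mul, h.uw_inv]
        simp [Matrix.mul_apply, Fin.sum_univ_two]
        linear_combination -hx
      refine ⟨(some x, ⟨_, hb⟩), ?_⟩
      show u x * w * ((u x * w)⁻¹ * g) = g
      rw [mul_inv_cancel_left]

/-- The function `b ↦ α(b₀₀) β(b₁₁)` on the Borel subgroup. -/
noncomputable def lam (ι : G →* GL (Fin 2) F) (α β : MulChar F ℂ) : B2 ι → ℂ :=
  fun b => α (mt ι b 0 0) * β (mt ι b 1 1)

theorem mt_mul_diag (b b' : B2 ι) : mt ι ((b * b' : B2 ι) : G) 0 0 = mt ι b 0 0 * mt ι b' 0 0 ∧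
    mt ι ((b * b' : B2 ι) : G) 1 1 = mt ι b 1 1 * mt ι b' 1 1 := by
  have h1 := b.2
  have h2 := b'.2
  rw [mem_B2] at h1 h2
  rw [Subgroup.coe_mul, mt_mul]
  constructor
  · simp [Matrix.mul_apply, Fin.sum_univ_two, h2]
  · simp [Matrix.mul_apply, Fin.sum_univ_two, h1]

/-- as a homomorphism -/
noncomputable def lamHom (ι : G →* GL (Fin 2) F) (α β : MulChar F ℂ) : B2 ι →* ℂ where
  toFun := lam ι α β
  map_one' := by
    simp [lam, mt_one]
  map_mul' b b' := by
    simp only [lam]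
    rw [(mt_mul_diag b b').1, (mt_mul_diag b b').2, map_mul, map_mul]
    ring

theorem isCharacter_lam (α β : MulChar F ℂ) : IsCharacter (B2 ι) (lam ι α β) :=
  isCharacter_of_hom (lamHom ι α β)

theorem isIrr_lam (α β : MulChar F ℂ) : IsIrrCharacter (B2 ι) (lam ι α β) :=
  isIrrCharacter_of_hom (lamHom ι α β)

theorem isClassFunction_lam (α β : MulChar F ℂ) : IsClassFunction (B2 ι) (lam ι α β) :=
  isClassFunction_of_isCharacter (isCharacter_lam α β)

variable [Fintype F]

theorem sum_mulChar (χ : MulChar F ℂ) [DecidableEq F] : ∑ a : Fˣ, χ a = if χ = 1 then ((Fintype.card F : ℂ) - 1) else 0 := by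
  classical
  split_ifs with h
  · subst h
    simp only [MulChar.one_apply_coe]
    rw [Finset.sum_const, Finset.card_univ, Fintype.card_units, nsmul_eq_mul, mul_one, Nat.cast_sub Fintype.card_pos]
    simp
  · obtain ⟨b, hb⟩ := MulChar.ne_one_iff.1 h
    have h1 : χ b * ∑ a : Fˣ, χ a = ∑ a : Fˣ, χ a := by
      rw [Finset.mul_sum, ← Equiv.sum_comp (Equiv.mulLeft b) (fun a : Fˣ => χ a)]
      refine Finset.sum_congr rfl fun a _ => ?_
      rw [← map_mul]; rfl
    have h2 : (χ b - 1) * ∑ a : Fˣ, χ a = 0 := by rw [sub_mul, h1, one_mul, sub_self]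
    exact (mul_eq_zero.1 h2).resolve_left (sub_ne_zero.2 hb)

theorem conj_mulChar (χ : MulChar F ℂ) (a : F) : conj (χ a) = χ⁻¹ a := MulChar.star_apply' χ a

theorem norm_mulChar (χ : MulChar F ℂ) {a : F} (ha : a ≠ 0) : ‖χ a‖ = 1 := by
  have h1 : χ a * conj (χ a) = 1 := by
    rw [conj_mulChar, ← MulChar.mul_apply, mul_inv_cancel]
    exact MulChar.one_apply (IsUnit.mk0 a ha)
  rw [Complex.mul_conj, Complex.normSq_eq_norm_sq] at h1
  have h2 : ‖χ a‖ ^ 2 = 1 := by exact_mod_cast h1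
  exact (pow_eq_one_iff_of_nonneg (norm_nonneg _) two_ne_zero).1 h2

theorem orth_mulChar (χ χ' : MulChar F ℂ) [DecidableEq F] [DecidableEq (MulChar F ℂ)] :
    ∑ a : Fˣ, χ a * conj (χ' a) = if χ = χ' then ((Fintype.card F : ℂ) - 1) else 0 := by
  have h1 : ∀ a : Fˣ, χ a * conj (χ' a) = (χ * χ'⁻¹) a := by
    intro a
    rw [conj_mulChar, MulChar.mul_apply]
  rw [Finset.sum_congr rfl (fun a _ => h1 a), sum_mulChar]
  simp only [mul_inv_eq_one]

end

end Cfsg.Agent.H39
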