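import Mathlib
import Cfsg.Agent.H42.SpTori

/-!
Isometries of nondegenerate symmetric and alternating forms: the passage from one kind to the other.
-/

set_option autoImplicit false

namespace Cfsg.Agent.H39.EForm

open Module

/-- there is an isometry of order `N` of a nondegenerate `ε`-symmetric form in dimension `d` -/
def EOrd.{u, v} {F : Type u} [Field F] (ε : F) (d N : ℕ) : Prop :=
  ∃ (V : Type v) (_ : AddCommGroup V) (_ : Module F V) (_ : Module.Finite F V) (B : LinearMap.BilinForm F V)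
    (T : V →ₗ[F] V), finrank F V = d ∧ (∀ u v, B u v = ε * B v u) ∧ B.Nondegenerate ∧
      (∀ u v, B (T u) (T v) = B u v) ∧ orderOf T = N

variable {F : Type*} [Field F]

theorem nondeg_of {V : Type*} [AddCommGroup V] [Module F V] {B : LinearMap.BilinForm F V} {ε : F}
    (hε : ∀ u v, B u v = ε * B v u) (h : ∀ u, (∀ v, B u v = 0) → u = 0) : B.Nondegenerate :=
  ⟨h, fun u hu => h u fun v => by rw [hε, hu v, mul_zero]⟩

theorem EOrd.add.{u, v, w} {F : Type u} [Field F] {ε : F} {a b s t : ℕ} (h1 : EOrd.{u, v} ε a s)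
    (h2 : EOrd.{u, w} ε b t) : EOrd.{u, max v w} ε (a + b) (Nat.lcm s t) := by
  obtain ⟨V, i1, i2, i3, B, T, hV, hA, hB, hT, hTs⟩ := h1
  obtain ⟨W, j1, j2, j3, C, S, hW, hC1, hC2, hS, hSt⟩ := h2
  let D : LinearMap.BilinForm F (V × W) := LinearMap.mk₂ F (fun x y => B x.1 y.1 + C x.2 y.2)
    (fun a b c => by simp only [Prod.fst_add, Prod.snd_add, map_add, LinearMap.add_apply]; ring)
    (fun a b c => by
      simp only [Prod.smul_fst, Prod.smul_snd, map_smul, LinearMap.smul_apply, smul_eq_mul]; ring)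
    (fun a b c => by simp only [Prod.fst_add, Prod.snd_add, map_add]; ring)
    (fun a b c => by
      simp only [Prod.smul_fst, Prod.smul_snd, map_smul, smul_eq_mul]; ring)
  have hDa : ∀ x y, D x y = B x.1 y.1 + C x.2 y.2 := fun x y => rfl
  have hsym : ∀ u v, D u v = ε * D v u := by
    intro u v
    rw [hDa, hDa, hA, hC1]
    ring
  refine ⟨V × W, inferInstance, inferInstance, inferInstance, D, LinearMap.prodMap T S, ?_, hsym,
    nondeg_of hsym ?_, ?_, ?_⟩
  · rw [Module.finrank_prod, hV, hW]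
  · rintro ⟨u1, u2⟩ hu
    have h1 : u1 = 0 := hB.1 u1 fun v => by
      have := hu (v, 0)
      rw [hDa] at this
      simpa using this
    have h2 : u2 = 0 := hC2.1 u2 fun v => by
      have := hu (0, v)
      rw [hDa] at this
      simpa using this
    rw [h1, h2]
    rfl
  · rintro ⟨u1, u2⟩ ⟨v1, v2⟩
    rw [hDa, hDa]
    simp only [LinearMap.prodMap_apply]
    rw [hT, hS]
  · have hpow : ∀ m : ℕ, (LinearMap.prodMap T S) ^ m = LinearMap.prodMap (T ^ m) (S ^ m) := by
      intro m
      induction m with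
      | zero => rw [pow_zero, pow_zero, pow_zero]; rfl
      | succ m ih => rw [pow_succ, ih, pow_succ, pow_succ]; rfl
    have hone : ∀ m : ℕ, (LinearMap.prodMap T S) ^ m = 1 ↔ T ^ m = 1 ∧ S ^ m = 1 := by
      intro m
      rw [hpow]
      constructor
      · intro h
        constructor
        · apply LinearMap.ext
          intro x
          have := LinearMap.congr_fun h (x, 0)
          exact congrArg Prod.fst this
        · apply LinearMap.ext
          intro x
          have := LinearMap.congr_fun h (0, x)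
          exact congrArg Prod.snd this
      · rintro ⟨h1, h2⟩
        rw [h1, h2]
        rfl
    rw [← hTs, ← hSt]
    apply Nat.dvd_antisymm
    · rw [orderOf_dvd_iff_pow_eq_one, hone]
      exact ⟨orderOf_dvd_iff_pow_eq_one.1 (Nat.dvd_lcm_left _ _), orderOf_dvd_iff_pow_eq_one.1 (Nat.dvd_lcm_right _ _)⟩
    · have := (hone (orderOf (LinearMap.prodMap T S))).1 (pow_orderOf_eq_one _)
      exact Nat.lcm_dvd (orderOf_dvd_of_pow_eq_one this.1) (orderOf_dvd_of_pow_eq_one this.2)

section twist

variable {V : Type*} [AddCommGroup V] [Module F V]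

theorem restrict_pow_apply {T : V →ₗ[F] V} {X : Submodule F V} (hX : ∀ x ∈ X, T x ∈ X) (i : ℕ) (x : X) :
    (((T.restrict hX) ^ i : Module.End F X) x : V) = (T ^ i : Module.End F V) (x : V) := by
  induction i generalizing x with
  | zero => rfl
  | succ i ih =>
    rw [pow_succ, Module.End.mul_apply, ih, pow_succ, Module.End.mul_apply]
    rfl

theorem restrict_pow_eq_one_iff {T : V →ₗ[F] V} {X : Submodule F V} (hX : ∀ x ∈ X, T x ∈ X) (i : ℕ) :
    (T.restrict hX) ^ i = 1 ↔ ∀ x ∈ X, (T ^ i : Module.End F V) x = x := by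
  constructor
  · intro h x hx
    rw [← restrict_pow_apply hX i ⟨x, hx⟩, h]
    rfl
  · intro h
    apply LinearMap.ext
    intro x
    apply Subtype.ext
    rw [restrict_pow_apply, h x x.2]
    rfl

theorem pow_mem' {T : V →ₗ[F] V} {X : Submodule F V} (hX : ∀ x ∈ X, T x ∈ X) (i : ℕ) :
    ∀ x ∈ X, (T ^ i : Module.End F V) x ∈ X := by
  intro x hx
  rw [← restrict_pow_apply hX i ⟨x, hx⟩]
  exact Subtype.property _

theorem pow_fix {T : V →ₗ[F] V} {x : V} (h : T x = x) (i : ℕ) : (T ^ i : Module.End F V) x = x := by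
  induction i with
  | zero => rfl
  | succ i ih => rw [pow_succ, Module.End.mul_apply, h, ih]

theorem pow_isom {B : LinearMap.BilinForm F V} {T : V →ₗ[F] V} (hT : ∀ u v, B (T u) (T v) = B u v) (i : ℕ) :
    ∀ u v, B ((T ^ i : Module.End F V) u) ((T ^ i : Module.End F V) v) = B u v := by
  induction i with
  | zero => intro u v; rfl
  | succ i ih => intro u v; rw [pow_succ, Module.End.mul_apply, Module.End.mul_apply, ih, hT]

/-- restriction to an invariant nondegenerate subspace -/
theorem eOrd_restrict.{u, v} {F : Type u} [Field F] {V : Type v} [AddCommGroup V] [Module F V]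
    [Module.Finite F V] {ε : F} {B : LinearMap.BilinForm F V} (hε : ∀ u v, B u v = ε * B v u)
    {X : Submodule F V} {T : V →ₗ[F] V} (hT : ∀ u v, B (T u) (T v) = B u v) (hTX : ∀ x ∈ X, T x ∈ X)
    (hX : ∀ x ∈ X, (∀ x' ∈ X, B x x' = 0) → x = 0) :
    EOrd.{u, v} ε (finrank F X) (orderOf (T.restrict hTX)) :=
  ⟨X, inferInstance, inferInstance, inferInstance, B.restrict X, T.restrict hTX, rfl, fun u v => hε u v,
    nondeg_of (B := B.restrict X) (fun u v => hε u v) (fun u hu => Subtype.ext (hX u u.2 fun x' hx' => hu ⟨x', hx'⟩)),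
    fun u v => hT u v, rfl⟩

/-- the twist by a fixed point free isometry of odd order -/
theorem eOrd_twist.{u, v} {F : Type u} [Field F] {V : Type v} [AddCommGroup V] [Module F V]
    [Module.Finite F V] {ε : F} {B : LinearMap.BilinForm F V} (hε : ∀ u v, B u v = ε * B v u)
    {X : Submodule F V} {T y : V →ₗ[F] V} (hT : ∀ u v, B (T u) (T v) = B u v) (hy : ∀ u v, B (y u) (y v) = B u v)
    (hc : ∀ v, T (y v) = y (T v)) (hTX : ∀ x ∈ X, T x ∈ X) (hyX : ∀ x ∈ X, y x ∈ X)
    (hX : ∀ x ∈ X, (∀ x' ∈ X, B x x' = 0) → x = 0) {t : ℕ} (hyt : y ^ (2 * t + 1) = 1)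
    (hfix : ∀ x ∈ X, y x = x → x = 0) :
    EOrd.{u, v} (-ε) (finrank F X) (orderOf (T.restrict hTX)) := by
  let B' : LinearMap.BilinForm F V := LinearMap.comp B y - LinearMap.compl₂ B y
  have hB' : ∀ u v, B' u v = B (y u) v - B u (y v) := fun u v => rfl
  have hε' : ∀ u v, B' u v = -ε * B' v u := by
    intro u v
    rw [hB', hB', hε (y u) v, hε u (y v)]
    ring
  refine ⟨X, inferInstance, inferInstance, inferInstance, B'.restrict X, T.restrict hTX, rfl,
    fun u v => hε' u v, nondeg_of (B := B'.restrict X) (fun u v => hε' u v) ?_, ?_, rfl⟩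
  · intro u hu
    have h1 : ∀ v ∈ X, B (y u) v - B u (y v) = 0 := fun v hv => hu ⟨v, hv⟩
    have h2 : y (y (u : V)) - u = 0 := by
      refine hX _ (X.sub_mem (hyX _ (hyX u u.2)) u.2) fun v hv => ?_
      have h3 := h1 _ (pow_mem' hyX (2 * t) v hv)
      have h4 : y ((y ^ (2 * t) : Module.End F V) v) = v := by
        have h5 : (y ^ (2 * t + 1) : Module.End F V) v = v := by rw [hyt]; rfl
        rw [pow_succ', Module.End.mul_apply] at h5
        exact h5
      rw [h4, ← hy (y u), h4] at h3
      rw [map_sub, LinearMap.sub_apply]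
      exact h3
    rw [sub_eq_zero] at h2
    have h6 : (y ^ (2 * t) : Module.End F V) u = u := by
      rw [pow_mul]
      apply pow_fix
      rw [pow_two, Module.End.mul_apply, h2]
    have h7 : y (u : V) = u := by
      have h5 : (y ^ (2 * t + 1) : Module.End F V) u = u := by rw [hyt]; rfl
      rw [pow_succ', Module.End.mul_apply, h6] at h5
      exact h5
    exact Subtype.ext (hfix u u.2 h7)
  · intro u v
    change B (y (T u)) (T v) - B (T u) (y (T v)) = B (y u) v - B u (y v)
    rw [← hc, ← hc, hT, hT]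

/-! ### decomposition -/

theorem orth_ker_range {B : LinearMap.BilinForm F V} {y : V →ₗ[F] V} (hy : ∀ u v, B (y u) (y v) = B u v)
    {k x : V} (hk : k ∈ LinearMap.ker (y - 1)) (hx : x ∈ LinearMap.range (y - 1)) : B k x = 0 := by
  obtain ⟨v, rfl⟩ := hx
  rw [LinearMap.mem_ker, LinearMap.sub_apply, Module.End.one_apply, sub_eq_zero] at hk
  rw [LinearMap.sub_apply, Module.End.one_apply, map_sub]
  nth_rewrite 1 [← hk]
  rw [hy, sub_self]

theorem ker_inf_range {y : V →ₗ[F] V} {m : ℕ} (hy : y ^ m = 1) (hm : (m : F) ≠ 0) :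
    LinearMap.ker (y - 1) ⊓ LinearMap.range (y - 1) = ⊥ := by
  rw [eq_bot_iff]
  rintro x ⟨hk, ⟨v, hv⟩⟩
  rw [SetLike.mem_coe, LinearMap.mem_ker, LinearMap.sub_apply, Module.End.one_apply, sub_eq_zero] at hk
  rw [Submodule.mem_bot]
  have h1 : ∑ i ∈ Finset.range m, (y ^ i : Module.End F V) x = (m : F) • x := by
    rw [Finset.sum_congr rfl (fun i _ => pow_fix hk i), Finset.sum_const, Finset.card_range, Nat.cast_smul_eq_nsmul]
  have h2 : ∑ i ∈ Finset.range m, (y ^ i : Module.End F V) x = 0 := by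
    have h3 : ∀ i ∈ Finset.range m, (y ^ i : Module.End F V) x =
        (y ^ (i + 1) : Module.End F V) v - (y ^ i : Module.End F V) v := by
      intro i _
      rw [← hv, LinearMap.sub_apply, Module.End.one_apply, map_sub, pow_succ, Module.End.mul_apply]
    rw [Finset.sum_congr rfl h3, Finset.sum_range_sub (fun i => (y ^ i : Module.End F V) v), hy, pow_zero, sub_self]
  rw [h1] at h2
  exact (smul_eq_zero.1 h2).resolve_left hm

theorem ker_sup_range [Module.Finite F V] {y : V →ₗ[F] V} {m : ℕ} (hy : y ^ m = 1) (hm : (m : F) ≠ 0) :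
    LinearMap.ker (y - 1) ⊔ LinearMap.range (y - 1) = ⊤ := by
  apply Submodule.eq_top_of_finrank_eq
  have h1 := Submodule.finrank_sup_add_finrank_inf_eq (LinearMap.ker (y - 1)) (LinearMap.range (y - 1))
  rw [ker_inf_range hy hm, finrank_bot] at h1
  have h2 := LinearMap.finrank_range_add_finrank_ker (y - 1)
  omega

theorem range_inv {T y : V →ₗ[F] V} (hc : ∀ v, T (y v) = y (T v)) :
    ∀ x ∈ LinearMap.range (y - 1), T x ∈ LinearMap.range (y - 1) := by
  rintro _ ⟨v, rfl⟩
  refine ⟨T v, ?_⟩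
  rw [LinearMap.sub_apply, Module.End.one_apply, LinearMap.sub_apply, Module.End.one_apply, map_sub, hc]

theorem ker_inv {T y : V →ₗ[F] V} (hc : ∀ v, T (y v) = y (T v)) :
    ∀ x ∈ LinearMap.ker (y - 1), T x ∈ LinearMap.ker (y - 1) := by
  intro x hx
  rw [LinearMap.mem_ker, LinearMap.sub_apply, Module.End.one_apply, sub_eq_zero] at hx ⊢
  rw [← hc, hx]

theorem range_nondeg [Module.Finite F V] {ε : F} {B : LinearMap.BilinForm F V} (hε : ∀ u v, B u v = ε * B v u)
    (hB : B.Nondegenerate) {y : V →ₗ[F] V} (hyB : ∀ u v, B (y u) (y v) = B u v) {m : ℕ} (hy : y ^ m = 1)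
    (hm : (m : F) ≠ 0) :
    ∀ x ∈ LinearMap.range (y - 1), (∀ x' ∈ LinearMap.range (y - 1), B x x' = 0) → x = 0 := by
  intro x hx h
  refine hB.1 x fun v => ?_
  have hv : v ∈ LinearMap.ker (y - 1) ⊔ LinearMap.range (y - 1) := by
    rw [ker_sup_range hy hm]; exact Submodule.mem_top
  obtain ⟨k, hk, x', hx', rfl⟩ := Submodule.mem_sup.1 hv
  rw [map_add, h x' hx', hε x k, orth_ker_range hyB hk hx, mul_zero, add_zero]

theorem ker_nondeg [Module.Finite F V] {B : LinearMap.BilinForm F V}
    (hB : B.Nondegenerate) {y : V →ₗ[F] V} (hyB : ∀ u v, B (y u) (y v) = B u v) {m : ℕ} (hy : y ^ m = 1)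
    (hm : (m : F) ≠ 0) :
    ∀ x ∈ LinearMap.ker (y - 1), (∀ x' ∈ LinearMap.ker (y - 1), B x x' = 0) → x = 0 := by
  intro x hx h
  refine hB.1 x fun v => ?_
  have hv : v ∈ LinearMap.ker (y - 1) ⊔ LinearMap.range (y - 1) := by
    rw [ker_sup_range hy hm]; exact Submodule.mem_top
  obtain ⟨k, hk, x', hx', rfl⟩ := Submodule.mem_sup.1 hv
  rw [map_add, h k hk, orth_ker_range hyB hx hx', add_zero]

theorem range_fix {y : V →ₗ[F] V} {m : ℕ} (hy : y ^ m = 1)
    (hm : (m : F) ≠ 0) : ∀ x ∈ LinearMap.range (y - 1), y x = x → x = 0 := by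
  intro x hx h
  have h1 : x ∈ LinearMap.ker (y - 1) ⊓ LinearMap.range (y - 1) := by
    refine ⟨?_, hx⟩
    rw [SetLike.mem_coe, LinearMap.mem_ker, LinearMap.sub_apply, Module.End.one_apply, sub_eq_zero, h]
  rw [ker_inf_range hy hm, Submodule.mem_bot] at h1
  exact h1

end twist

/-- one prime -/
theorem EOrd.single.{u, v} {F : Type u} [Field F] {ε : F} {d s : ℕ} (h : EOrd.{u, v} ε d s) (hs : s.Prime)
    (hs2 : s ≠ 2) (hsF : (s : F) ≠ 0) : ∃ w, 1 ≤ w ∧ w ≤ d ∧ EOrd.{u, v} (-ε) w s := by
  obtain ⟨V, i1, i2, i3, B, T, hV, hε, hB, hT, hTs⟩ := h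
  have hTs1 : T ^ s = 1 := by rw [← hTs]; exact pow_orderOf_eq_one T
  obtain ⟨t, ht⟩ := hs.odd_of_ne_two hs2
  have hfix := range_fix hTs1 hsF
  have hX0 : LinearMap.range (T - 1) ≠ ⊥ := by
    intro h0
    rw [LinearMap.range_eq_bot, sub_eq_zero] at h0
    rw [h0, orderOf_one] at hTs
    exact hs.one_lt.ne hTs
  refine ⟨finrank F (LinearMap.range (T - 1)), ?_, ?_, ?_⟩
  · rw [Nat.one_le_iff_ne_zero, Ne, Submodule.finrank_eq_zero]
    exact hX0
  · rw [← hV]; exact Submodule.finrank_le _
  · have h1 := eOrd_twist hε hT hT (fun _ => rfl) (range_inv (T := T) (y := T) fun _ => rfl)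
      (range_inv (T := T) (y := T) fun _ => rfl) (range_nondeg hε hB hT hTs1 hsF) (t := t)
      (by rw [← ht]; exact hTs1) hfix
    have h2 : orderOf (T.restrict (range_inv (T := T) (y := T) fun _ => rfl)) = s := by
      have h3 : orderOf (T.restrict (range_inv (T := T) (y := T) fun _ => rfl)) ∣ s := by
        rw [orderOf_dvd_iff_pow_eq_one, restrict_pow_eq_one_iff]
        intro x _
        rw [hTs1]; rfl
      rcases (Nat.dvd_prime hs).1 h3 with h4 | h4
      · exfalso
        apply hX0
        rw [orderOf_eq_one_iff, ← pow_one (T.restrict _), restrict_pow_eq_one_iff] at h4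
        rw [eq_bot_iff]
        intro x hx
        rw [Submodule.mem_bot]
        refine hfix x hx ?_
        have := h4 x hx
        rwa [pow_one] at this
      · exact h4
    rw [h2] at h1
    exact h1

/-- two primes -/
theorem EOrd.dec.{u, v} {F : Type u} [Field F] {ε : F} {d r s : ℕ} (h : EOrd.{u, v} ε d (r * s)) (hr : r.Prime)
    (hs : s.Prime) (hr2 : r ≠ 2) (hrF : (r : F) ≠ 0) :
    ∃ w, 1 ≤ w ∧ w ≤ d ∧ (EOrd.{u, v} (-ε) w (r * s) ∨
      (EOrd.{u, v} (-ε) w r ∧ EOrd.{u, v} ε (d - w) s)) := by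
  obtain ⟨V, i1, i2, i3, B, T, hV, hε, hB, hT, hTs⟩ := h
  set y : V →ₗ[F] V := T ^ s with hy
  have hyr : y ^ r = 1 := by rw [hy, ← pow_mul, mul_comm, ← hTs]; exact pow_orderOf_eq_one T
  have hc : ∀ v, T (y v) = y (T v) := by
    intro v
    change (T * T ^ s : Module.End F V) v = (T ^ s * T : Module.End F V) v
    rw [← pow_succ', ← pow_succ]
  have hyc : ∀ v, y (y v) = y (y v) := fun _ => rfl
  obtain ⟨t, ht⟩ := hr.odd_of_ne_two hr2
  have hyB : ∀ u v, B (y u) (y v) = B u v := pow_isom hT s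
  have hfix := range_fix hyr hrF
  have hy1 : y ≠ 1 := by
    intro h0
    have h1 := orderOf_dvd_of_pow_eq_one h0
    rw [hTs] at h1
    have h2 := Nat.le_of_dvd hs.pos h1
    have h3 := hr.two_le
    have h4 := hs.pos
    nlinarith
  have hX0 : LinearMap.range (y - 1) ≠ ⊥ := by
    intro h0
    rw [LinearMap.range_eq_bot, sub_eq_zero] at h0
    exact hy1 h0
  have hTX := range_inv (T := T) (y := y) hc
  have hTK := ker_inv (T := T) (y := y) hc
  have h1 := eOrd_twist hε hT hyB hc hTX
    (range_inv (T := y) (y := y) hyc) (range_nondeg hε hB hyB hyr hrF) (t := t)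
    (by rw [← ht]; exact hyr) hfix
  have hns : ¬ orderOf (T.restrict hTX) ∣ s := by
    rw [orderOf_dvd_iff_pow_eq_one, restrict_pow_eq_one_iff]
    intro h2
    apply hX0
    rw [eq_bot_iff]
    intro x hx
    rw [Submodule.mem_bot]
    exact hfix x hx (h2 x hx)
  have hrs : orderOf (T.restrict hTX) ∣ r * s := by
    rw [orderOf_dvd_iff_pow_eq_one, restrict_pow_eq_one_iff]
    intro x _
    rw [← hTs, pow_orderOf_eq_one]; rfl
  have hdim := LinearMap.finrank_range_add_finrank_ker (y - 1)
  rw [hV] at hdim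
  refine ⟨finrank F (LinearMap.range (y - 1)), ?_, by omega, ?_⟩
  · rw [Nat.one_le_iff_ne_zero, Ne, Submodule.finrank_eq_zero]
    exact hX0
  by_cases hnr : orderOf (T.restrict hTX) ∣ r
  · right
    have h2 : orderOf (T.restrict hTX) = r := by
      rcases (Nat.dvd_prime hr).1 hnr with h3 | h3
      · exact absurd (by rw [h3]; exact one_dvd s) hns
      · exact h3
    rw [h2] at h1
    refine ⟨h1, ?_⟩
    have h3 := eOrd_restrict hε hT hTK (ker_nondeg hB hyB hyr hrF)
    have h4 : orderOf (T.restrict hTK) = s := by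
      have h5 : orderOf (T.restrict hTK) ∣ s := by
        rw [orderOf_dvd_iff_pow_eq_one, restrict_pow_eq_one_iff]
        intro x hx
        rw [LinearMap.mem_ker, LinearMap.sub_apply, Module.End.one_apply, sub_eq_zero] at hx
        exact hx
      rcases (Nat.dvd_prime hs).1 h5 with h6 | h6
      · exfalso
        rw [orderOf_eq_one_iff, ← pow_one (T.restrict _), restrict_pow_eq_one_iff] at h6
        rw [orderOf_dvd_iff_pow_eq_one, restrict_pow_eq_one_iff] at hnr
        have h7 : T ^ r = 1 := by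
          apply LinearMap.ext
          intro v
          have hv : v ∈ LinearMap.ker (y - 1) ⊔ LinearMap.range (y - 1) := by
            rw [ker_sup_range hyr hrF]; exact Submodule.mem_top
          obtain ⟨k, hk, x', hx', rfl⟩ := Submodule.mem_sup.1 hv
          rw [map_add, hnr x' hx']
          have h8 : (T ^ r : Module.End F V) k = k := by
            apply pow_fix
            have := h6 k hk
            rwa [pow_one] at this
          rw [h8]
          rfl
        have h9 := orderOf_dvd_of_pow_eq_one h7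
        rw [hTs] at h9
        have h10 := Nat.le_of_dvd hr.pos h9
        have h11 := hs.two_le
        have h12 := hr.pos
        nlinarith
      · exact h6
    rw [h4] at h3
    have h5 : d - finrank F (LinearMap.range (y - 1)) = finrank F (LinearMap.ker (y - 1)) := by omega
    rw [h5]
    exact h3
  · left
    have h2 : orderOf (T.restrict hTX) = r * s := by
      obtain ⟨a, b, ha, hb, hab⟩ := (Nat.dvd_mul).1 hrs
      rcases (Nat.dvd_prime hr).1 ha with rfl | rfl
      · rw [one_mul] at hab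
        rw [← hab] at hns
        exact absurd hb hns
      · rcases (Nat.dvd_prime hs).1 hb with rfl | rfl
        · rw [mul_one] at hab
          rw [← hab] at hnr
          exact absurd dvd_rfl hnr
        · exact hab.symm
    rw [h2] at h1
    exact h1

end Cfsg.Agent.H39.EForm
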