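import Mathlib
import Cfsg.Agent.OCase.Disc
import Cfsg.Agent.OrthCount.Orders
import Cfsg.Agent.Witt.Bases
import Cfsg.Agent.Orth.OrthList
import Cfsg.Agent.Orth.Singer

/-!
Commuting isometries of orders 2, p, r of an orthogonal space of odd dimension (for the spectra of
the groups of types B and C).
-/

set_option autoImplicit false

namespace Cfsg.Agent.H39.SpecBC

open QuadraticMap Module Cfsg.Agent.Orth

variable {F V : Type*} [Field F] [AddCommGroup V] [Module F V]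

/-- an alternating form on a subspace has even rank -/
theorem even_rank [FiniteDimensional F V] (B : LinearMap.BilinForm F V) (X K : Submodule F V) (hKX : K ≤ X)
    (hA : ∀ x ∈ X, B x x = 0) (hK : ∀ x ∈ X, (∀ y ∈ X, B x y = 0) ↔ x ∈ K) :
    ∃ m, finrank F X = 2 * m + finrank F K := by
  have hskew : ∀ x ∈ X, ∀ y ∈ X, B x y = - B y x := by
    intro x hx y hy
    have h := hA (x + y) (X.add_mem hx hy)
    simp only [map_add, LinearMap.add_apply, hA x hx, hA y hy] at h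
    linear_combination h
  obtain ⟨Y0, hY0⟩ := Submodule.exists_isCompl K
  set Y := Y0 ⊓ X with hY
  have h1 : K ⊓ Y = ⊥ := by
    rw [eq_bot_iff]
    exact le_trans (inf_le_inf_left K inf_le_left) hY0.inf_eq_bot.le
  have h2 : K ⊔ Y = X := by
    rw [hY, ← sup_inf_assoc_of_le Y0 hKX, hY0.sup_eq_top, top_inf_eq]
  have h3 := Submodule.finrank_sup_add_finrank_inf_eq K Y
  rw [h1, h2, finrank_bot, add_zero] at h3
  have hYX : Y ≤ X := inf_le_right
  have key : ∀ x : Y, (∀ y : Y, B (x : V) (y : V) = 0) → x = 0 := by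
    intro x hx
    have h4 : (x : V) ∈ K := by
      rw [← hK x (hYX x.2)]
      intro y hy
      rw [← h2] at hy
      obtain ⟨a, ha, b, hb, rfl⟩ := Submodule.mem_sup.1 hy
      rw [map_add, hx ⟨b, hb⟩, add_zero, hskew x (hYX x.2) a (hKX ha),
        ((hK a (hKX ha)).2 ha) x (hYX x.2), neg_zero]
    have h5 : (x : V) ∈ K ⊓ Y := ⟨h4, x.2⟩
    rw [h1] at h5
    exact Subtype.ext ((Submodule.mem_bot F).1 h5)
  obtain ⟨k, -, -, -, -, -, -, hk⟩ := Witt.exists_darboux (B.restrict Y)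
    (fun x => hA x (hYX x.2))
    ⟨fun x hx => key x fun y => hx y, fun x hx => key x fun y => by
      rw [hskew x (hYX x.2) y (hYX y.2)]
      have := hx y
      change B (y : V) (x : V) = 0 at this
      rw [this, neg_zero]⟩
  exact ⟨k, by omega⟩

/-- fixed space -/
def fx {Q : QuadraticForm F V} (g : OGrp Q) : Submodule F V :=
  LinearMap.ker (((g : V ≃ₗ[F] V) : V →ₗ[F] V) - 1)

theorem mem_fx {Q : QuadraticForm F V} {g : OGrp Q} {v : V} : v ∈ fx g ↔ (g : V ≃ₗ[F] V) v = v := by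
  rw [fx, LinearMap.mem_ker, LinearMap.sub_apply, Module.End.one_apply, sub_eq_zero]
  rfl

theorem pow_apply_of_fixed {Q : QuadraticForm F V} {g : OGrp Q} {v : V} (h : (g : V ≃ₗ[F] V) v = v) (i : ℕ) :
    ((g ^ i : OGrp Q) : V ≃ₗ[F] V) v = v := by
  induction i with
  | zero => rw [pow_zero, coe_one_apply]
  | succ i ih => rw [pow_succ, coe_mul_apply, h, ih]

theorem pow_mem {Q : QuadraticForm F V} {g : OGrp Q} {X : Submodule F V}
    (hX : ∀ x ∈ X, (g : V ≃ₗ[F] V) x ∈ X) (i : ℕ) : ∀ x ∈ X, ((g ^ i : OGrp Q) : V ≃ₗ[F] V) x ∈ X := by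
  induction i with
  | zero => intro x hx; rwa [pow_zero, coe_one_apply]
  | succ i ih => intro x hx; rw [pow_succ, coe_mul_apply]; exact ih _ (hX x hx)

theorem sum_fixed {Q : QuadraticForm F V} {g : OGrp Q} {N : ℕ} (hN : g ^ N = 1) (v : V) :
    (g : V ≃ₗ[F] V) (∑ i ∈ Finset.range N, ((g ^ i : OGrp Q) : V ≃ₗ[F] V) v) =
      ∑ i ∈ Finset.range N, ((g ^ i : OGrp Q) : V ≃ₗ[F] V) v := by
  rw [map_sum]
  have h1 : ∀ i ∈ Finset.range N, (g : V ≃ₗ[F] V) (((g ^ i : OGrp Q) : V ≃ₗ[F] V) v) =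
      ((g ^ (i + 1) : OGrp Q) : V ≃ₗ[F] V) v := by
    intro i _
    rw [← coe_mul_apply, ← pow_succ']
  rw [Finset.sum_congr rfl h1]
  have h2 := Finset.sum_range_succ' (fun i => ((g ^ i : OGrp Q) : V ≃ₗ[F] V) v) N
  rw [Finset.sum_range_succ, hN, pow_zero] at h2
  exact (add_right_cancel h2).symm

theorem psum_right (Q : QuadraticForm F V) (v : V) (N : ℕ) (f : ℕ → V) :
    polar Q v (∑ i ∈ Finset.range N, f i) = ∑ i ∈ Finset.range N, polar Q v (f i) := by
  induction N with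
  | zero => rw [Finset.sum_range_zero, Finset.sum_range_zero, polar_zero_right]
  | succ N ih => rw [Finset.sum_range_succ, Finset.sum_range_succ, par, ih]

/-- the fixed space of a coprime element on a nondegenerate subspace is nondegenerate -/
theorem inf_fx_nondeg {Q : QuadraticForm F V} (g : OGrp Q) {N : ℕ} (hN : g ^ N = 1) (hN0 : (N : F) ≠ 0)
    {X : Submodule F V} (hX : ∀ x ∈ X, (g : V ≃ₗ[F] V) x ∈ X) (hnd : X ⊓ perp Q X = ⊥) :
    (X ⊓ fx g) ⊓ perp Q (X ⊓ fx g) = ⊥ := by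
  rw [eq_bot_iff]
  rintro v ⟨⟨hv1, hv2⟩, hv3⟩
  rw [← hnd]
  refine ⟨hv1, fun w hw => ?_⟩
  change polar Q w v = 0
  rw [pc]
  rw [SetLike.mem_coe, mem_fx] at hv2
  have h1 : (N : F) * polar Q v w = 0 := by
    have h2 : polar Q v (∑ i ∈ Finset.range N, ((g ^ i : OGrp Q) : V ≃ₗ[F] V) w) = 0 := by
      have h3 := hv3 (∑ i ∈ Finset.range N, ((g ^ i : OGrp Q) : V ≃ₗ[F] V) w)
        ⟨Submodule.sum_mem _ fun i _ => pow_mem hX i w hw, mem_fx.2 (sum_fixed hN w)⟩
      rw [pc]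
      exact h3
    rw [psum_right] at h2
    rw [← h2, ← nsmul_eq_mul, ← Finset.card_range N, ← Finset.sum_const, Finset.card_range]
    refine Finset.sum_congr rfl fun i _ => ?_
    conv_rhs => rw [← pow_apply_of_fixed hv2 i]
    rw [OGrp_polar]
  exact (mul_eq_zero.1 h1).resolve_left hN0

/-- rank of a quadratic unipotent isometry is even -/
theorem even_of_sq [FiniteDimensional F V] (h2 : (2 : F) ≠ 0) {Q : QuadraticForm F V} (g : OGrp Q)
    {X : Submodule F V} (hX : ∀ x ∈ X, (g : V ≃ₗ[F] V) x ∈ X) (hnd : X ⊓ perp Q X = ⊥)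
    (h : ∀ x ∈ X, (g : V ≃ₗ[F] V) ((g : V ≃ₗ[F] V) x - x) = (g : V ≃ₗ[F] V) x - x) :
    ∃ m, finrank F X = 2 * m + finrank F ↥(X ⊓ fx g) := by
  let B : LinearMap.BilinForm F V :=
    LinearMap.comp (polarBilin Q) (((g : V ≃ₗ[F] V) : V →ₗ[F] V) - 1)
  have hB : ∀ x y, B x y = polar Q ((g : V ≃ₗ[F] V) x - x) y := fun x y => rfl
  refine even_rank B X (X ⊓ fx g) inf_le_left ?_ ?_
  · intro x hx
    rw [hB]
    have h1 : polar Q ((g : V ≃ₗ[F] V) x - x) ((g : V ≃ₗ[F] V) x) = polar Q ((g : V ≃ₗ[F] V) x - x) x := by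
      conv_lhs => rw [← h x hx]
      rw [OGrp_polar]
    have h3 : polar Q ((g : V ≃ₗ[F] V) x) ((g : V ≃ₗ[F] V) x) = polar Q x x := OGrp_polar g x x
    rw [pdl, pdl, h3, pc Q x ((g : V ≃ₗ[F] V) x)] at h1
    have h4 : 2 * polar Q ((g : V ≃ₗ[F] V) x - x) x = 0 := by
      rw [pdl]
      linear_combination -h1
    exact (mul_eq_zero.1 h4).resolve_left h2
  · intro x hx
    constructor
    · intro h1
      refine ⟨hx, mem_fx.2 ?_⟩
      have h3 : (g : V ≃ₗ[F] V) x - x ∈ X ⊓ perp Q X := by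
        refine ⟨X.sub_mem (hX x hx) hx, fun y hy => ?_⟩
        change polar Q y _ = 0
        rw [pc]
        exact h1 y hy
      rw [hnd, Submodule.mem_bot, sub_eq_zero] at h3
      exact h3
    · rintro ⟨-, h1⟩ y -
      rw [SetLike.mem_coe, mem_fx] at h1
      rw [hB, h1, sub_self, polar_zero_left]

/-- an isometry of odd order without fixed vectors acts on a space of even dimension -/
theorem even_of_odd [FiniteDimensional F V] {Q : QuadraticForm F V} (g : OGrp Q) {t : ℕ}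
    (hg : g ^ (2 * t + 1) = 1)
    {X : Submodule F V} (hX : ∀ x ∈ X, (g : V ≃ₗ[F] V) x ∈ X) (hnd : X ⊓ perp Q X = ⊥)
    (h : X ⊓ fx g = ⊥) : ∃ m, finrank F X = 2 * m := by
  let B : LinearMap.BilinForm F V :=
    LinearMap.comp (polarBilin Q) ((g : V ≃ₗ[F] V) : V →ₗ[F] V) -
      LinearMap.compl₂ (polarBilin Q) ((g : V ≃ₗ[F] V) : V →ₗ[F] V)
  have hB : ∀ x y, B x y = polar Q ((g : V ≃ₗ[F] V) x) y - polar Q x ((g : V ≃ₗ[F] V) y) := fun x y => rfl
  obtain ⟨m, hm⟩ := even_rank B X ⊥ bot_le (fun x hx => by rw [hB, pc Q x, sub_self]) (by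
    intro x hx
    constructor
    · intro h1
      have h3 : (g : V ≃ₗ[F] V) ((g : V ≃ₗ[F] V) x) - x ∈ X ⊓ perp Q X := by
        refine ⟨X.sub_mem (hX _ (hX x hx)) hx, fun y hy => ?_⟩
        change polar Q y _ = 0
        rw [pc]
        have h4 := h1 _ (pow_mem hX (2 * t) y hy)
        have h5 : (g : V ≃ₗ[F] V) (((g ^ (2 * t) : OGrp Q) : V ≃ₗ[F] V) y) = y := by
          rw [← coe_mul_apply, ← pow_succ', hg, coe_one_apply]
        rw [hB, h5] at h4
        rw [pdl]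
        rw [← OGrp_polar g ((g : V ≃ₗ[F] V) x), h5] at h4
        exact h4
      rw [hnd, Submodule.mem_bot, sub_eq_zero] at h3
      rw [Submodule.mem_bot]
      have h6 : ((g ^ (2 * t) : OGrp Q) : V ≃ₗ[F] V) x = x := by
        rw [pow_mul]
        apply pow_apply_of_fixed
        rw [pow_two, coe_mul_apply, h3]
      have h7 : (g : V ≃ₗ[F] V) x = x := by
        have h8 : ((g ^ (2 * t + 1) : OGrp Q) : V ≃ₗ[F] V) x = x := by rw [hg, coe_one_apply]
        rw [pow_succ', coe_mul_apply, h6] at h8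
        exact h8
      have h9 : x ∈ X ⊓ fx g := ⟨hx, mem_fx.2 h7⟩
      rw [h, Submodule.mem_bot] at h9
      exact h9
    · intro h1 y _
      rw [(Submodule.mem_bot F).1 h1, map_zero, LinearMap.zero_apply])
  exact ⟨m, by rw [hm, finrank_bot, add_zero]⟩

/-- a p-element has fixed vectors -/
theorem exists_fixed {p : ℕ} [Fact p.Prime] [CharP F p] {Q : QuadraticForm F V} (g : OGrp Q)
    (hg : g ^ p = 1) {X : Submodule F V} (hX : ∀ x ∈ X, (g : V ≃ₗ[F] V) x ∈ X) (hX0 : X ≠ ⊥) :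
    X ⊓ fx g ≠ ⊥ := by
  classical
  obtain ⟨x, hx, hx0⟩ := (Submodule.ne_bot_iff _).1 hX0
  haveI : Nontrivial V := ⟨⟨x, 0, hx0⟩⟩
  haveI : CharP (Module.End F V) p := charP_of_injective_algebraMap (algebraMap F (Module.End F V)).injective p
  set T : Module.End F V := ((g : V ≃ₗ[F] V) : V →ₗ[F] V) with hT
  have hTp : T ^ p = 1 := by
    have h1 : ∀ i : ℕ, T ^ i = (((g ^ i : OGrp Q) : V ≃ₗ[F] V) : V →ₗ[F] V) := by
      intro i
      induction i with
      | zero => rw [pow_zero, pow_zero]; rfl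
      | succ i ih => rw [pow_succ, ih, pow_succ]; rfl
    rw [h1, hg]
    rfl
  have hN : (T - 1) ^ p = 0 := by
    rw [sub_pow_char_of_commute p (Commute.one_right T), hTp, one_pow, sub_self]
  have hmem : ∀ j : ℕ, ((T - 1) ^ j : Module.End F V) x ∈ X := by
    intro j
    induction j with
    | zero => rw [pow_zero]; exact hx
    | succ j ih =>
      rw [pow_succ', Module.End.mul_apply, LinearMap.sub_apply, Module.End.one_apply]
      exact X.sub_mem (hX _ ih) ih
  have hex : ∃ j, ((T - 1) ^ j : Module.End F V) x = 0 := ⟨p, by rw [hN]; rfl⟩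
  have hf := Nat.find_spec hex
  have hpos : Nat.find hex ≠ 0 := by
    intro h0
    rw [h0, pow_zero] at hf
    exact hx0 hf
  obtain ⟨j, hj⟩ := Nat.exists_eq_succ_of_ne_zero hpos
  have hj2 : ((T - 1) ^ j : Module.End F V) x ≠ 0 := Nat.find_min hex (by omega)
  rw [hj, Nat.succ_eq_add_one, pow_succ', Module.End.mul_apply, LinearMap.sub_apply, Module.End.one_apply,
    sub_eq_zero] at hf
  rw [Submodule.ne_bot_iff]
  exact ⟨_, ⟨hmem j, mem_fx.2 hf⟩, hj2⟩

/-- if the fixed space has half the dimension and a minimality property, the element is quadratic -/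
theorem sq_of_half [FiniteDimensional F V] {p : ℕ} [Fact p.Prime] [CharP F p] {Q : QuadraticForm F V} (g : OGrp Q)
    (hg : g ^ p = 1) {X : Submodule F V} (hX : ∀ x ∈ X, (g : V ≃ₗ[F] V) x ∈ X)
    (hd : finrank F X = 2 * finrank F ↥(X ⊓ fx g)) (hX0 : X ≠ ⊥)
    (h : Submodule.map (((g : V ≃ₗ[F] V) : V →ₗ[F] V) - 1) X ⊓ fx g ≠ ⊥ → finrank F ↥(X ⊓ fx g) ≤
      finrank F ↥(Submodule.map (((g : V ≃ₗ[F] V) : V →ₗ[F] V) - 1) X ⊓ fx g)) :
    ∀ x ∈ X, (g : V ≃ₗ[F] V) ((g : V ≃ₗ[F] V) x - x) = (g : V ≃ₗ[F] V) x - x := by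
  set D : V →ₗ[F] V := ((g : V ≃ₗ[F] V) : V →ₗ[F] V) - 1 with hD
  have hDa : ∀ x, D x = (g : V ≃ₗ[F] V) x - x := fun x => rfl
  set R := Submodule.map D X with hR
  have hRX : R ≤ X := by
    rintro _ ⟨x, hx, rfl⟩
    exact X.sub_mem (hX x hx) hx
  have hRinv : ∀ x ∈ R, (g : V ≃ₗ[F] V) x ∈ R := by
    rintro _ ⟨x, hx, rfl⟩
    refine ⟨(g : V ≃ₗ[F] V) x, hX x hx, ?_⟩
    rw [hDa, hDa, map_sub]
  have hrank : finrank F R + finrank F ↥(X ⊓ fx g) = finrank F X := by
    have h1 := LinearMap.finrank_range_add_finrank_ker (D.domRestrict X)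
    have h2 : LinearMap.range (D.domRestrict X) = R := LinearMap.range_domRestrict X D
    have h3 : finrank F (LinearMap.ker (D.domRestrict X)) = finrank F ↥(X ⊓ fx g) := by
      rw [LinearMap.ker_domRestrict]
      have h4 : X ⊓ fx g = Submodule.map X.subtype (Submodule.comap X.subtype (LinearMap.ker D)) := by
        rw [Submodule.map_comap_subtype]
        rfl
      rw [h4]
      exact (LinearEquiv.finrank_eq (Submodule.equivMapOfInjective X.subtype X.injective_subtype _))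
    rw [h2, h3] at h1
    exact h1
  have hR0 : R ≠ ⊥ := by
    intro h0
    have h1 : finrank F R = 0 := by rw [h0, finrank_bot]
    have h2 : finrank F X = 0 := by omega
    exact hX0 (Submodule.finrank_eq_zero.1 h2)
  have h1 := h (exists_fixed g hg hRinv hR0)
  have h2 : R ⊓ fx g = R := by
    apply Submodule.eq_of_le_of_finrank_le inf_le_left
    omega
  intro x hx
  have h3 : D x ∈ R ⊓ fx g := by rw [h2]; exact ⟨x, hx, rfl⟩
  exact mem_fx.1 h3.2

/-- a p-element on a nondegenerate space of dimension at most two is trivial -/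
theorem eq_one_of_small [FiniteDimensional F V] (h2 : (2 : F) ≠ 0) {p : ℕ} [Fact p.Prime] [CharP F p]
    {Q : QuadraticForm F V} (g : OGrp Q)
    (hg : g ^ p = 1) {X : Submodule F V} (hX : ∀ x ∈ X, (g : V ≃ₗ[F] V) x ∈ X) (hnd : X ⊓ perp Q X = ⊥)
    (hd : finrank F X ≤ 2) : ∀ x ∈ X, (g : V ≃ₗ[F] V) x = x := by
  by_cases hX0 : X = ⊥
  · intro x hx
    rw [hX0, Submodule.mem_bot] at hx
    rw [hx, map_zero]
  have h1 := exists_fixed g hg hX hX0
  have h3 : 1 ≤ finrank F ↥(X ⊓ fx g) := by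
    rw [Nat.one_le_iff_ne_zero, Ne, Submodule.finrank_eq_zero]
    exact h1
  have hle : finrank F ↥(X ⊓ fx g) ≤ finrank F X := Submodule.finrank_mono inf_le_left
  have h4 : X ⊓ fx g = X := by
    apply Submodule.eq_of_le_of_finrank_le inf_le_left
    by_contra hlt
    push Not at hlt
    have h5 : finrank F X = 2 * finrank F ↥(X ⊓ fx g) := by omega
    obtain ⟨m, hm⟩ := even_of_sq h2 g hX hnd (sq_of_half g hg hX h5 hX0 (by
      intro h6
      have h7 : finrank F ↥(X ⊓ fx g) = 1 := by omega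
      rw [h7, Nat.one_le_iff_ne_zero, Ne, Submodule.finrank_eq_zero]
      exact h6))
    omega
  intro x hx
  rw [← h4] at hx
  exact mem_fx.1 hx.2

end Cfsg.Agent.H39.SpecBC
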