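import Mathlib
import Cfsg.Agent.H39.SpecBC
import Cfsg.Agent.S2904

/-!
Commuting isometries of orders 2, p, r of an orthogonal space of odd dimension, part 2.
-/

set_option autoImplicit false

namespace Cfsg.Agent.H39.SpecBC

open QuadraticMap Module Cfsg.Agent.Orth

variable {F V : Type*} [Field F] [AddCommGroup V] [Module F V]

theorem coe_pow_lin {Q : QuadraticForm F V} (g : OGrp Q) (i : ℕ) :
    (((g : V ≃ₗ[F] V) : V →ₗ[F] V) : Module.End F V) ^ i = (((g ^ i : OGrp Q) : V ≃ₗ[F] V) : V →ₗ[F] V) := by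
  induction i with
  | zero => rw [pow_zero, pow_zero]; rfl
  | succ i ih => rw [pow_succ, ih, pow_succ]; rfl

theorem dvd_finrank [Finite F] [FiniteDimensional F V] {Q : QuadraticForm F V} {p : ℕ} [Fact p.Prime] [CharP F p]
    {n0 r : ℕ} (hr : r.Prime) (hrp : r ≠ p)
    (hn0 : orderOf ((Nat.card F : ℕ) : ZMod r) = n0) (y : OGrp Q) (hy : y ^ r = 1) {X : Submodule F V}
    (hX : ∀ x ∈ X, (y : V ≃ₗ[F] V) x ∈ X) (h : X ⊓ fx y = ⊥) : n0 ∣ finrank F X := by
  have h1 := dvd_finrank_sub hr hrp hn0 ((y : V ≃ₗ[F] V) : V →ₗ[F] V)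
    (by rw [coe_pow_lin, hy]; rfl) X hX
  have h2 : X ⊓ LinearMap.ker (((y : V ≃ₗ[F] V) : V →ₗ[F] V) - 1) = ⊥ := h
  rw [h2, finrank_bot, Nat.sub_zero] at h1
  exact h1

/-- numerical condition on `n0` -/
def Num (n0 k : ℕ) : Prop := 2 ≤ k ∧ (n0 = 2 * k ∨ (n0 = k ∧ Odd k ∧ 3 ≤ k))

theorem Num.cases {n0 k d : ℕ} (h : Num n0 k) (hd : d ≤ 2 * k + 3) (hdvd : n0 ∣ d) (hev : n0 = k → ∃ m, d = 2 * m) :
    d = 0 ∨ d = 2 * k := by
  obtain ⟨hk, h | ⟨h, ho, hk3⟩⟩ := h
  · obtain ⟨c, rfl⟩ := hdvd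
    subst h
    rcases c with _ | _ | c
    · left; simp
    · right; simp
    · exfalso
      have : 2 * k * (c + 1 + 1) = 2 * k * c + 4 * k := by ring
      omega
  · obtain ⟨m, hm⟩ := hev h
    obtain ⟨c, rfl⟩ := hdvd
    subst h
    obtain ⟨t, ht⟩ := ho
    rcases c with _ | _ | _ | _ | c
    · left; simp
    · omega
    · right; ring
    · omega
    · exfalso
      have : n0 * (c + 1 + 1 + 1 + 1) = n0 * c + 4 * n0 := by ring
      omega

theorem finrank_cases [Finite F] [FiniteDimensional F V] {Q : QuadraticForm F V} {p : ℕ} [Fact p.Prime] [CharP F p]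
    {n0 r k : ℕ} (hn : Num n0 k) (hV : finrank F V = 2 * k + 3) (hr : r.Prime) (hr2 : r ≠ 2) (hrp : r ≠ p)
    (hn0 : orderOf ((Nat.card F : ℕ) : ZMod r) = n0) (y : OGrp Q) (hy : y ^ r = 1) {X : Submodule F V}
    (hX : ∀ x ∈ X, (y : V ≃ₗ[F] V) x ∈ X) (h : X ⊓ fx y = ⊥) (hnd : X ⊓ perp Q X = ⊥) :
    finrank F X = 0 ∨ finrank F X = 2 * k := by
  refine hn.cases (by rw [← hV]; exact Submodule.finrank_le X) (dvd_finrank hr hrp hn0 y hy hX h) fun _ => ?_
  obtain ⟨t, ht⟩ := hr.odd_of_ne_two hr2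
  rw [ht] at hy
  exact even_of_odd y hy hX hnd h

theorem fx_inv {Q : QuadraticForm F V} {y g : OGrp Q} (h : Commute y g) :
    ∀ c ∈ fx y, (g : V ≃ₗ[F] V) c ∈ fx y := by
  intro c hc
  rw [mem_fx] at hc ⊢
  rw [← coe_mul_apply, h.eq, coe_mul_apply, hc]

theorem perp_fx_inv {Q : QuadraticForm F V} {y g : OGrp Q} (h : Commute y g) :
    ∀ c ∈ perp Q (fx y), (g : V ≃ₗ[F] V) c ∈ perp Q (fx y) := by
  intro w hw u hu
  change polar Q u _ = 0
  have h1 := hw _ (fx_inv h.inv_right u hu)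
  change polar Q _ w = 0 at h1
  rw [← OGrp_polar g, coe_apply_inv_self] at h1
  exact h1

/-- minus one -/
def ng (Q : QuadraticForm F V) : OGrp Q :=
  mkIsom Q (-LinearMap.id) (-LinearMap.id) (fun x => by simp) (fun x => by simp) (fun x => by simp)

theorem ng_apply (Q : QuadraticForm F V) (v : V) : (ng Q : V ≃ₗ[F] V) v = - v := rfl

theorem ng_mul_apply {Q : QuadraticForm F V} (g : OGrp Q) (v : V) :
    ((ng Q * g : OGrp Q) : V ≃ₗ[F] V) v = - (g : V ≃ₗ[F] V) v := rfl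

theorem ng_sq {Q : QuadraticForm F V} {z : OGrp Q} (hz : z ^ 2 = 1) : (ng Q * z) ^ 2 = 1 := by
  refine OGrp_ext fun x => ?_
  rw [pow_two, coe_mul_apply, ng_mul_apply, ng_mul_apply, map_neg, neg_neg, ← coe_mul_apply, ← pow_two, hz]

theorem mem_fx_ng {Q : QuadraticForm F V} {z : OGrp Q} {v : V} :
    v ∈ fx (ng Q * z) ↔ (z : V ≃ₗ[F] V) v = - v := by
  rw [mem_fx, ng_mul_apply, neg_eq_iff_eq_neg]

theorem top_nondeg {Q : QuadraticForm F V} (hQ : (polarBilin Q).Nondegenerate) :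
    (⊤ : Submodule F V) ⊓ perp Q ⊤ = ⊥ := by
  rw [eq_bot_iff]
  rintro v ⟨-, hv⟩
  rw [Submodule.mem_bot]
  refine hQ.1 v fun w => ?_
  have := hv w Submodule.mem_top
  change polar Q w v = 0 at this
  rw [pbil, pc]
  exact this

theorem fx_nondeg [FiniteDimensional F V] {Q : QuadraticForm F V} (hQ : (polarBilin Q).Nondegenerate) {y : OGrp Q}
    {r : ℕ} (hy : y ^ r = 1) (hr0 : (r : F) ≠ 0) : fx y ⊓ perp Q (fx y) = ⊥ := by
  have h := inf_fx_nondeg y hy hr0 (X := ⊤) (fun _ _ => Submodule.mem_top) (top_nondeg hQ)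
  rwa [top_inf_eq] at h

theorem sup_perp [FiniteDimensional F V] {Q : QuadraticForm F V} (hQ : (polarBilin Q).Nondegenerate)
    {U : Submodule F V} (hU : U ⊓ perp Q U = ⊥) : U ⊔ perp Q U = ⊤ := by
  apply Submodule.eq_top_of_finrank_eq
  have h1 := Submodule.finrank_sup_add_finrank_inf_eq U (perp Q U)
  rw [hU, finrank_bot] at h1
  have h2 := finrank_perp hQ U
  omega

theorem ext_of_sup {Q : QuadraticForm F V} {U W : Submodule F V} (h : U ⊔ W = ⊤) {a b : OGrp Q}
    (h1 : ∀ x ∈ U, (a : V ≃ₗ[F] V) x = (b : V ≃ₗ[F] V) x) (h2 : ∀ x ∈ W, (a : V ≃ₗ[F] V) x = (b : V ≃ₗ[F] V) x) :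
    a = b := by
  refine OGrp_ext fun x => ?_
  have hx : x ∈ U ⊔ W := by rw [h]; exact Submodule.mem_top
  obtain ⟨u, hu, w, hw, rfl⟩ := Submodule.mem_sup.1 hx
  rw [map_add, map_add, h1 u hu, h2 w hw]

/-- minus one on a nondegenerate subspace as a product of reflections -/
theorem exists_list_sub [Finite F] [FiniteDimensional F V] (h2 : (2 : F) ≠ 0) {Q : QuadraticForm F V}
    {U : Submodule F V} (hU : U ⊓ perp Q U = ⊥) {m : ℕ}
    (hd : finrank F U = m + 1) : ∃ (l : List {v : V // Q v ≠ 0}) (b : Basis (Fin (m + 1)) F U),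
      l.length = m + 1 ∧ (∀ v ∈ U, (reflProd Q l : V ≃ₗ[F] V) v = - v) ∧
      (∀ v ∈ perp Q U, (reflProd Q l : V ≃ₗ[F] V) v = v) ∧
      (gram (Q.restrict U) b).det = 2 ^ (m + 1) * nrm Q l := by
  classical
  obtain ⟨b, d, hd0, hb, -⟩ := exists_diag_basis (nondegenerate_restrict hU) h2 hd
  have hu : IsOrth Q (fun i => ((b i : U) : V)) := ⟨fun i => hb.q i, fun i j hij => hb.p i j hij⟩
  obtain ⟨l, hl1, hl2, hl3⟩ := hu.exists_list Finset.univ
  refine ⟨l, b, by rw [hl1, Finset.card_univ, Fintype.card_fin], ?_, ?_, ?_⟩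
  · have h1 : ((reflProd Q l : V ≃ₗ[F] V) : V →ₗ[F] V) ∘ₗ U.subtype = -U.subtype := by
      refine b.ext fun i => ?_
      rw [LinearMap.comp_apply, LinearEquiv.coe_coe, Submodule.subtype_apply, hl3, Finset.sum_eq_single i]
      · rw [pself, ← mul_assoc, mul_comm _ (2 : F), mul_assoc, inv_mul_cancel₀ (hu.q i), LinearMap.neg_apply,
          Submodule.subtype_apply]
        module
      · intro j _ hj
        rw [hu.p _ _ (Ne.symm hj), mul_zero, zero_smul]
      · intro hi; exact absurd (Finset.mem_univ i) hi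
    intro v hv
    exact LinearMap.congr_fun h1 ⟨v, hv⟩
  · intro v hv
    rw [hl3, Finset.sum_eq_zero, sub_zero]
    intro i _
    have h1 : polar Q v (b i : V) = 0 := by
      rw [pc]
      exact hv _ (b i).2
    rw [h1, mul_zero, zero_smul]
  · rw [gram_diag hb.p, Finset.prod_mul_distrib, hl2, Finset.prod_const, Finset.card_univ, Fintype.card_fin]
    rfl

theorem exists_W [Finite F] [FiniteDimensional F V] (h2 : (2 : F) ≠ 0) {Q : QuadraticForm F V}
    (hQ : (polarBilin Q).Nondegenerate) (hR : RGrp Q = ⊤)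
    {p : ℕ} [Fact p.Prime] [CharP F p]
    {n0 r k : ℕ} (hn : Num n0 k) (hV : finrank F V = 2 * k + 3) (hr : r.Prime) (hr2 : r ≠ 2) (hrp : r ≠ p)
    (hn0 : orderOf ((Nat.card F : ℕ) : ZMod r) = n0) (y u z : OGrp Q)
    (hyu : Commute y u) (hyz : Commute y z) (huz : Commute u z)
    (hy : y ^ r = 1) (hy1 : y ≠ 1) (hu : u ^ p = 1) (hu1 : u ≠ 1) (hz : z ^ 2 = 1) (hz1 : z ≠ 1)
    (hzc : z ∈ commutator (OGrp Q)) :
    ∃ (W : Submodule F V) (b : Basis (Fin (2 * k)) F W), finrank F W = 2 * k ∧ W ⊓ perp Q W = ⊥ ∧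
      (∀ w ∈ W, (y : V ≃ₗ[F] V) w ∈ W) ∧ (W ⊓ fx y = ⊥) ∧ IsSquare (gram (Q.restrict W) b).det := by
  have hk2 : 2 ≤ k := hn.1
  have hr0 : (r : F) ≠ 0 := by
    rw [Ne, CharP.cast_eq_zero_iff F p, Nat.prime_dvd_prime_iff_eq Fact.out hr]
    exact fun h => hrp h.symm
  have h20 : ((2 : ℕ) : F) ≠ 0 := by exact_mod_cast h2
  have hC := fx_nondeg hQ hy hr0
  set C := fx y with hCdef
  set W := perp Q C with hWdef
  have hW : W ⊓ perp Q W = ⊥ := perp_inf_eq_bot hQ hC
  have hWC : W ⊓ C = ⊥ := by rw [inf_comm]; exact hC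
  have hCW : C ⊔ W = ⊤ := sup_perp hQ hC
  have hperpW : perp Q W = C := perp_perp hQ C
  have hWy : ∀ w ∈ W, (y : V ≃ₗ[F] V) w ∈ W := perp_fx_inv (Commute.refl y)
  have hdim : finrank F W + finrank F C = finrank F V := finrank_perp hQ C
  have hW0 : finrank F W ≠ 0 := by
    intro h0
    have h1 : finrank F C = finrank F V := by omega
    have h3 : C = ⊤ := Submodule.eq_top_of_finrank_eq h1
    apply hy1
    refine OGrp_ext fun x => ?_
    have : x ∈ C := by rw [h3]; exact Submodule.mem_top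
    rw [coe_one_apply]
    exact mem_fx.1 this
  have hWd : finrank F W = 2 * k :=
    (finrank_cases hn hV hr hr2 hrp hn0 y hy hWy hWC hW).resolve_left hW0
  have hCd : finrank F C = 3 := by omega
  have hWne : W ≠ ⊥ := by
    intro h0
    rw [h0, finrank_bot] at hW0
    exact hW0 rfl
  -- z on W
  have hWz : ∀ w ∈ W, (z : V ≃ₗ[F] V) w ∈ W := perp_fx_inv hyz
  have hWu : ∀ w ∈ W, (u : V ≃ₗ[F] V) w ∈ W := perp_fx_inv hyu
  have hCz : ∀ w ∈ C, (z : V ≃ₗ[F] V) w ∈ C := fx_inv hyz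
  have hCu : ∀ w ∈ C, (u : V ≃ₗ[F] V) w ∈ C := fx_inv hyu
  have hzz : ∀ v, (z : V ≃ₗ[F] V) ((z : V ≃ₗ[F] V) v) = v := by
    intro v
    rw [← coe_mul_apply, ← pow_two, hz, coe_one_apply]
  have hzW : (∀ w ∈ W, (z : V ≃ₗ[F] V) w = w) ∨ (∀ w ∈ W, (z : V ≃ₗ[F] V) w = -w) := by
    have hinv : ∀ w ∈ W ⊓ fx z, (y : V ≃ₗ[F] V) w ∈ W ⊓ fx z := by
      rintro w ⟨hw1, hw2⟩
      exact ⟨hWy w hw1, fx_inv hyz.symm w hw2⟩
    have hbot : (W ⊓ fx z) ⊓ C = ⊥ := by
      rw [eq_bot_iff, ← hWC]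
      exact inf_le_inf_right C inf_le_left
    rcases finrank_cases hn hV hr hr2 hrp hn0 y hy hinv hbot (inf_fx_nondeg z hz h20 hWz hW) with h | h
    · right
      intro w hw
      have h3 : W ⊓ fx z = ⊥ := Submodule.finrank_eq_zero.1 h
      have h4 : w + (z : V ≃ₗ[F] V) w ∈ W ⊓ fx z := by
        refine ⟨W.add_mem hw (hWz w hw), mem_fx.2 ?_⟩
        rw [map_add, hzz, add_comm]
      rw [h3, Submodule.mem_bot] at h4
      exact (neg_eq_of_add_eq_zero_right h4).symm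
    · left
      have h3 : W ⊓ fx z = W := Submodule.eq_of_le_of_finrank_le inf_le_left (by omega)
      intro w hw
      rw [← h3] at hw
      exact mem_fx.1 hw.2
  -- u on W
  have huW : ∀ w ∈ W, (u : V ≃ₗ[F] V) w = w := by
    have hinv : ∀ w ∈ W ⊓ fx u, (y : V ≃ₗ[F] V) w ∈ W ⊓ fx u := by
      rintro w ⟨hw1, hw2⟩
      exact ⟨hWy w hw1, fx_inv hyu.symm w hw2⟩
    have hbot : (W ⊓ fx u) ⊓ C = ⊥ := by
      rw [eq_bot_iff, ← hWC]
      exact inf_le_inf_right C inf_le_left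
    have hd := dvd_finrank hr hrp hn0 y hy hinv hbot
    have hne := exists_fixed u hu hWu hWne
    have hpos : finrank F ↥(W ⊓ fx u) ≠ 0 := by
      rw [Ne, Submodule.finrank_eq_zero]; exact hne
    have hle : finrank F ↥(W ⊓ fx u) ≤ finrank F W := Submodule.finrank_mono inf_le_left
    have hfin : W ⊓ fx u = W := by
      apply Submodule.eq_of_le_of_finrank_le inf_le_left
      by_contra hlt
      push Not at hlt
      rcases hn.2 with h | ⟨h, ho, hk3⟩
      · rw [h] at hd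
        have := Nat.le_of_dvd (Nat.pos_of_ne_zero hpos) hd
        omega
      · rw [h] at hd
        have hk : finrank F ↥(W ⊓ fx u) = k := by
          obtain ⟨c, hc⟩ := hd
          rcases c with _ | _ | c
          · omega
          · omega
          · have : k * (c + 1 + 1) = k * c + 2 * k := by ring
            omega
        obtain ⟨m, hm⟩ := even_of_sq h2 u hWu hW (sq_of_half u hu hWu (by rw [hk, hWd]) hWne (by
          intro h6
          set R := Submodule.map (((u : V ≃ₗ[F] V) : V →ₗ[F] V) - 1) W ⊓ fx u with hRdef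
          have hRW : R ≤ W := by
            rintro _ ⟨⟨x, hx, rfl⟩, -⟩
            exact W.sub_mem (hWu x hx) hx
          have hRy : ∀ w ∈ R, (y : V ≃ₗ[F] V) w ∈ R := by
            rintro _ ⟨⟨x, hx, rfl⟩, hx2⟩
            refine ⟨⟨(y : V ≃ₗ[F] V) x, hWy x hx, ?_⟩, fx_inv hyu.symm _ hx2⟩
            have e1 : (u : V ≃ₗ[F] V) ((y : V ≃ₗ[F] V) x) = (y : V ≃ₗ[F] V) ((u : V ≃ₗ[F] V) x) := by
              rw [← coe_mul_apply, ← coe_mul_apply, hyu.eq]
            change (u : V ≃ₗ[F] V) ((y : V ≃ₗ[F] V) x) - (y : V ≃ₗ[F] V) x =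
              (y : V ≃ₗ[F] V) ((u : V ≃ₗ[F] V) x - x)
            rw [e1, map_sub]
          have hRbot : R ⊓ fx y = ⊥ := by
            rw [eq_bot_iff, ← hWC]
            exact inf_le_inf_right C hRW
          have hRd := dvd_finrank hr hrp hn0 y hy hRy hRbot
          rw [h] at hRd
          rw [hk]
          apply Nat.le_of_dvd _ hRd
          rw [Nat.pos_iff_ne_zero, Ne, Submodule.finrank_eq_zero]
          exact h6))
        obtain ⟨t, ht⟩ := ho
        omega
    intro w hw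
    rw [← hfin] at hw
    exact mem_fx.1 hw.2
  -- u on C
  have huC : ¬ ∀ c ∈ C, (u : V ≃ₗ[F] V) c = c := by
    intro h
    apply hu1
    refine ext_of_sup hCW (fun x hx => ?_) (fun x hx => ?_)
    · rw [h x hx, coe_one_apply]
    · rw [huW x hx, coe_one_apply]
  -- z on C
  have hzC : (∀ w ∈ C, (z : V ≃ₗ[F] V) w = w) ∨ (∀ w ∈ C, (z : V ≃ₗ[F] V) w = -w) := by
    by_cases hp : finrank F ↥(C ⊓ fx z) ≤ 2
    · by_cases hm : finrank F ↥(C ⊓ fx (ng Q * z)) ≤ 2
      · exfalso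
        apply huC
        have hngz : (ng Q * z) ^ 2 = 1 := ng_sq hz
        have hCz' : ∀ w ∈ C, ((ng Q * z : OGrp Q) : V ≃ₗ[F] V) w ∈ C := by
          intro w hw
          rw [ng_mul_apply]
          exact C.neg_mem (hCz w hw)
        have h3 := eq_one_of_small h2 u hu (X := C ⊓ fx z)
          (by rintro w ⟨hw1, hw2⟩; exact ⟨hCu w hw1, fx_inv huz.symm w hw2⟩)
          (inf_fx_nondeg z hz h20 hCz hC) hp
        have h4 := eq_one_of_small h2 u hu (X := C ⊓ fx (ng Q * z))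
          (by
            rintro w ⟨hw1, hw2⟩
            refine ⟨hCu w hw1, ?_⟩
            rw [SetLike.mem_coe, mem_fx_ng] at hw2 ⊢
            rw [← coe_mul_apply, ← huz.eq, coe_mul_apply, hw2, map_neg])
          (inf_fx_nondeg _ hngz h20 hCz' hC) hm
        intro c hc
        have h5 := h3 (c + (z : V ≃ₗ[F] V) c) ⟨C.add_mem hc (hCz c hc), by
          rw [SetLike.mem_coe, mem_fx, map_add, hzz, add_comm]⟩
        have h6 := h4 (c - (z : V ≃ₗ[F] V) c) ⟨C.sub_mem hc (hCz c hc), by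
          rw [SetLike.mem_coe, mem_fx_ng, map_sub, hzz]; abel⟩
        have h7 : (2 : F) • (u : V ≃ₗ[F] V) c = (2 : F) • c := by
          rw [← map_smul]
          have e : (2 : F) • c = (c + (z : V ≃ₗ[F] V) c) + (c - (z : V ≃ₗ[F] V) c) := by module
          rw [e, map_add, h5, h6]
        exact smul_right_injective V h2 h7
      · right
        have h3 : C ⊓ fx (ng Q * z) = C := Submodule.eq_of_le_of_finrank_le inf_le_left (by omega)
        intro w hw
        rw [← h3] at hw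
        exact mem_fx_ng.1 hw.2
    · left
      have h3 : C ⊓ fx z = C := Submodule.eq_of_le_of_finrank_le inf_le_left (by omega)
      intro w hw
      rw [← h3] at hw
      exact mem_fx.1 hw.2
  -- lists of reflections
  obtain ⟨k', hk'⟩ : ∃ k', 2 * k = k' + 1 := ⟨2 * k - 1, by omega⟩
  obtain ⟨lW, bW, hlW, hlW1, hlW2, hlW3⟩ := exists_list_sub h2 (Q := Q) hW (m := k') (by omega)
  obtain ⟨lC, bC, hlC, hlC1, hlC2, hlC3⟩ := exists_list_sub h2 (Q := Q) hC (m := 2) (by omega)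
  rw [hperpW] at hlW2
  rcases hzC with hzC | hzC
  · rcases hzW with hzW | hzW
    · exfalso
      apply hz1
      refine ext_of_sup hCW (fun x hx => ?_) (fun x hx => ?_)
      · rw [hzC x hx, coe_one_apply]
      · rw [hzW x hx, coe_one_apply]
    · have hzl : z = reflProd Q lW := by
        refine ext_of_sup hCW (fun x hx => ?_) (fun x hx => ?_)
        · rw [hzC x hx, hlW2 x hx]
        · rw [hzW x hx, hlW1 x hx]
      rw [hzl, reflProd_mem_commutator_iff hQ hR] at hzc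
      have hbW : ∃ b : Basis (Fin (2 * k)) F W, IsSquare (gram (Q.restrict W) b).det := by
        rw [hk']
        refine ⟨bW, ?_⟩
        rw [hlW3, ← hk', pow_mul']
        obtain ⟨s, hs⟩ := hzc.2
        exact ⟨2 ^ k * s, by rw [hs]; ring⟩
      obtain ⟨b, hb⟩ := hbW
      exact ⟨W, b, hWd, hW, hWy, hWC, hb⟩
  · exfalso
    rcases hzW with hzW | hzW
    · have hzl : z = reflProd Q lC := by
        refine ext_of_sup hCW (fun x hx => ?_) (fun x hx => ?_)
        · rw [hzC x hx, hlC1 x hx]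
        · rw [hzW x hx, hlC2 x hx]
      rw [hzl, reflProd_mem_commutator_iff hQ hR, hlC] at hzc
      exact absurd hzc.1 (by decide)
    · have hzl : z = reflProd Q (lW ++ lC) := by
        rw [reflProd_append]
        refine ext_of_sup hCW (fun x hx => ?_) (fun x hx => ?_)
        · rw [hzC x hx, coe_mul_apply, hlC1 x hx, map_neg, hlW2 x hx]
        · rw [hzW x hx, coe_mul_apply, hlC2 x hx, hlW1 x hx]
      rw [hzl, reflProd_mem_commutator_iff hQ hR, List.length_append, hlC, hlW, ← hk'] at hzc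
      obtain ⟨t, ht⟩ := hzc.1
      omega

end Cfsg.Agent.H39.SpecBC
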