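import Mathlib
import Cfsg.Agent.H39.EForm
import Cfsg.Agent.H39.SpecBC2
import Cfsg.Agent.AutO.Transp
import Cfsg.Agent.ClassO.Card

/-!
Conversions between isometries of forms and elements of the groups PSp and Omega.
-/

set_option autoImplicit false

namespace Cfsg.Agent.H39.EForm

open Module QuadraticMap Cfsg.Agent.Orth Cfsg.Agent.H42.SpSpec Cfsg.Agent.H39.SpecBC Cfsg.Agent.ClGeo

/-! ### symplectic -/

theorem EOrd.sp.{u, v} {F : Type u} [Field F] (h2 : (2 : F) ≠ 0) {d N : ℕ} (h : EOrd.{u, v} (-1 : F) d N) :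
    ∃ a, d = 2 * a ∧ SpOrd.{u, v} F a N := by
  obtain ⟨V, i1, i2, i3, B, T, hV, hε, hB, hT, hTs⟩ := h
  have hA : B.IsAlt := by
    intro v
    have h1 := hε v v
    have h3 : 2 * B v v = 0 := by linear_combination h1
    exact (mul_eq_zero.1 h3).resolve_left h2
  obtain ⟨k, -, -, -, -, -, -, hk⟩ := Witt.exists_darboux B hA hB
  exact ⟨k, by omega, V, i1, i2, i3, B, T, by omega, hA, hB, hT, hTs⟩

theorem SpOrd.toE.{u, v} {F : Type u} [Field F] {a N : ℕ} (h : SpOrd.{u, v} F a N) :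
    EOrd.{u, v} (-1 : F) (2 * a) N := by
  obtain ⟨V, i1, i2, i3, B, T, hV, hA, hB, hT, hTs⟩ := h
  exact ⟨V, i1, i2, i3, B, T, hV, fun u v => by rw [neg_one_mul, hA.neg_eq], hB, hT, hTs⟩

theorem EOrd.toPSp.{u, v} {F : Type u} [Field F] (h2 : (2 : F) ≠ 0) {d N n : ℕ} (h : EOrd.{u, v} (-1 : F) d N)
    (hd : d ≤ 2 * n + 1) (hN : Odd N) : ∃ x : Cfsg.PSp n F, orderOf x = N := by
  obtain ⟨a, rfl, -⟩ := h.sp h2
  have h1 : EOrd.{u, u} (-1 : F) (2 * (n - a)) 1 := SpOrd.toE (spOrd_one F (n - a))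
  have h3 := h.add h1
  rw [Nat.lcm_one_right] at h3
  obtain ⟨b, hb, h4⟩ := h3.sp h2
  obtain rfl : b = n := by omega
  exact h4.exists_psp hN

theorem ofPSp.{u} {F : Type u} [Field F] {n N : ℕ} (x : Cfsg.PSp n F) (hx : orderOf x = N)
    (hN : Odd N) : EOrd.{u, u} (-1 : F) (2 * n) N := by
  obtain ⟨T, hT, hTo⟩ := exists_odd_end x hx hN
  apply SpOrd.toE
  exact ⟨Fin n ⊕ Fin n → F, inferInstance, inferInstance, inferInstance, sfB F (Fin n), T, by
    rw [Module.finrank_fintype_fun_eq_card, Fintype.card_sum, Fintype.card_fin]; ring, sfB_isAlt,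
    sfB_nondegenerate, hT, hTo⟩

/-! ### orthogonal -/

theorem eOrd_one.{u} (F : Type u) [Field F] (c : ℕ) : EOrd.{u, u} (1 : F) c 1 := by
  induction c with
  | zero =>
    refine ⟨PUnit, inferInstance, inferInstance, inferInstance, 0, 1, finrank_zero_of_subsingleton,
      fun u v => by simp, ⟨fun u _ => rfl, fun u _ => rfl⟩, fun u v => rfl, orderOf_one⟩
  | succ c ih =>
    have h1 : EOrd.{u, u} (1 : F) 1 1 := by
      refine ⟨F, inferInstance, inferInstance, inferInstance, LinearMap.mul F F, 1, finrank_self F,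
        fun u v => by rw [one_mul, LinearMap.mul_apply', LinearMap.mul_apply', mul_comm],
        ?_, fun u v => rfl, orderOf_one⟩
      refine nondeg_of (ε := 1) (fun u v => by rw [one_mul, LinearMap.mul_apply', LinearMap.mul_apply', mul_comm]) ?_
      intro u hu
      have := hu 1
      rwa [LinearMap.mul_apply', mul_one] at this
    exact ih.add h1

theorem EOrd.pad.{u, v} {F : Type u} [Field F] {d N e : ℕ} (h : EOrd.{u, v} (1 : F) d N) (hd : d ≤ e) :
    EOrd.{u, max v u} (1 : F) e N := by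
  have h1 := h.add (eOrd_one F (e - d))
  rw [Nat.lcm_one_right] at h1
  have h2 : d + (e - d) = e := by omega
  rwa [h2] at h1

theorem lin_orderOf {F V : Type*} [Field F] [AddCommGroup V] [Module F V] {Q : QuadraticForm F V} (g : OGrp Q) :
    orderOf (((g : V ≃ₗ[F] V) : V →ₗ[F] V) : Module.End F V) = orderOf g := by
  have h : ∀ i : ℕ, (((g : V ≃ₗ[F] V) : V →ₗ[F] V) : Module.End F V) ^ i = 1 ↔ g ^ i = 1 := by
    intro i
    rw [coe_pow_lin]
    constructor
    · intro h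
      refine OGrp_ext fun x => ?_
      exact LinearMap.congr_fun h x
    · intro h
      rw [h]
      rfl
  apply Nat.dvd_antisymm
  · rw [orderOf_dvd_iff_pow_eq_one, h, pow_orderOf_eq_one]
  · rw [orderOf_dvd_iff_pow_eq_one, ← h, pow_orderOf_eq_one]

theorem ofOGrp.{u, v} {F : Type u} {V : Type v} [Field F] [AddCommGroup V] [Module F V] [FiniteDimensional F V]
    {Q : QuadraticForm F V} (hQ : (polarBilin Q).Nondegenerate) (g : OGrp Q) :
    EOrd.{u, v} (1 : F) (finrank F V) (orderOf g) :=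
  ⟨V, inferInstance, inferInstance, inferInstance, polarBilin Q, ((g : V ≃ₗ[F] V) : V →ₗ[F] V), rfl,
    fun u v => by rw [one_mul, pbil, pbil, pc], hQ, fun u v => OGrp_polar g u v, lin_orderOf g⟩

theorem EOrd.toQuad.{u, v} {F : Type u} [Field F] (h2 : (2 : F) ≠ 0) {d N : ℕ} (h : EOrd.{u, v} (1 : F) d N)
    (hN : N ≠ 0) :
    ∃ (V : Type v) (_ : AddCommGroup V) (_ : Module F V) (_ : FiniteDimensional F V) (Q : QuadraticForm F V)
      (g : OGrp Q), finrank F V = d ∧ (polarBilin Q).Nondegenerate ∧ orderOf g = N := by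
  obtain ⟨V, i1, i2, i3, B, T, hV, hε, hB, hT, hTs⟩ := h
  let Q : QuadraticForm F V := B.toQuadraticMap
  have hQ : ∀ v, Q v = B v v := fun v => rfl
  have hp : ∀ u v, polar Q u v = 2 * B u v := by
    intro u v
    have h3 := hε v u
    rw [polar, hQ, hQ, hQ]
    simp only [map_add, LinearMap.add_apply]
    rw [h3]
    ring
  have hnd : (polarBilin Q).Nondegenerate := by
    refine nondeg_of (ε := 1) (fun u v => by rw [one_mul, pbil, pbil, pc]) ?_
    intro u hu
    refine hB.1 u fun v => ?_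
    have := hu v
    rw [pbil, hp] at this
    exact (mul_eq_zero.1 this).resolve_left h2
  have hTN : T ^ N = 1 := by rw [← hTs, pow_orderOf_eq_one]
  have h3 : ∀ x, (T ^ (N - 1) : Module.End F V) (T x) = x := by
    intro x
    have h4 : (T ^ (N - 1) * T : Module.End F V) x = x := by
      rw [← pow_succ, Nat.sub_add_cancel (Nat.pos_of_ne_zero hN), hTN]; rfl
    exact h4
  have h4 : ∀ x, T ((T ^ (N - 1) : Module.End F V) x) = x := by
    intro x
    have h4 : (T * T ^ (N - 1) : Module.End F V) x = x := by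
      rw [← pow_succ', Nat.sub_add_cancel (Nat.pos_of_ne_zero hN), hTN]; rfl
    exact h4
  let g : OGrp Q := mkIsom Q T (T ^ (N - 1) : Module.End F V) h4 h3 (fun x => by rw [hQ, hQ, hT])
  refine ⟨V, i1, i2, i3, Q, g, hV, hnd, ?_⟩
  rw [← lin_orderOf, ← hTs]
  rfl

/-- L' -/
theorem EOrd.three_le.{u, v} {F : Type u} [Field F] (h2 : (2 : F) ≠ 0) {d p : ℕ} [hp : Fact p.Prime] [CharP F p]
    (h : EOrd.{u, v} (1 : F) d p) : 3 ≤ d := by
  by_contra hlt
  push Not at hlt
  obtain ⟨V, i1, i2, i3, Q, g, hV, hQ, hg⟩ := h.toQuad h2 hp.out.ne_zero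
  have h3 := eq_one_of_small h2 g (by rw [← hg, pow_orderOf_eq_one]) (X := ⊤) (fun _ _ => Submodule.mem_top)
    (top_nondeg hQ) (by rw [finrank_top, hV]; omega)
  have h4 : g = 1 := OGrp_ext fun x => by rw [h3 x Submodule.mem_top, coe_one_apply]
  rw [h4, orderOf_one] at hg
  exact hp.out.one_lt.ne hg

theorem odd_mem_commutator {F V : Type*} [Field F] [Finite F] [AddCommGroup V] [Module F V] [FiniteDimensional F V]
    {Q : QuadraticForm F V} (hQ : (polarBilin Q).Nondegenerate) {g : OGrp Q} (hg : Odd (orderOf g)) :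
    g ∈ commutator (OGrp Q) := by
  obtain ⟨t, ht⟩ := hg
  have h1 := mul_self_mem_commutator hQ (g ^ (t + 1))
  have h2 : g ^ (t + 1) * g ^ (t + 1) = g := by
    rw [← pow_add]
    have h3 : t + 1 + (t + 1) = orderOf g + 1 := by omega
    rw [h3, pow_succ, pow_orderOf_eq_one, one_mul]
  rwa [h2] at h1

/-- transport to the standard form in odd dimension -/
theorem exists_transport {F V : Type*} [Field F] [Finite F] (h2 : (2 : F) ≠ 0) [AddCommGroup V] [Module F V]
    [FiniteDimensional F V] {Q : QuadraticForm F V} (hQ : (polarBilin Q).Nondegenerate) {n : ℕ}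
    (hV : finrank F V = 2 * n + 1) : Nonempty (OGrp Q ≃* OGrp (qfOdd n F)) := by
  classical
  have hQ0 := qfOdd_nondegenerate n F h2
  have hV0 : finrank F (Unit ⊕ (Fin n ⊕ Fin n) → F) = 2 * n + 1 := by
    rw [Module.finrank_fintype_fun_eq_card]
    simp
    ring
  let b := Module.finBasis F V
  let b0 := Module.finBasis F (Unit ⊕ (Fin n ⊕ Fin n) → F)
  set D := (gram Q b).det with hD
  set D0 := (gram (qfOdd n F) b0).det with hD0
  have hDn : D ≠ 0 := gram_det_ne_zero hQ b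
  have hD0n : D0 ≠ 0 := gram_det_ne_zero hQ0 b0
  set c : F := D * D0 with hc
  have hcn : c ≠ 0 := mul_ne_zero hDn hD0n
  let Q' : QuadraticForm F V := c • Q
  have hQ' : ∀ v, Q' v = c * Q v := fun v => rfl
  have hp : ∀ u v, polar Q' u v = c * polar Q u v := by
    intro u v
    rw [polar, polar, hQ', hQ', hQ']
    ring
  have hnd : (polarBilin Q').Nondegenerate := by
    refine nondeg_of (ε := 1) (fun u v => by rw [one_mul, pbil, pbil, pc]) ?_
    intro u hu
    refine hQ.1 u fun v => ?_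
    have := hu v
    rw [pbil, hp] at this
    exact (mul_eq_zero.1 this).resolve_left hcn
  have hgram : gram Q' b = c • gram Q b := by
    ext i j
    rw [Matrix.smul_apply, gram, gram, Matrix.of_apply, Matrix.of_apply, hp, smul_eq_mul]
  have hdet : (gram Q' b).det = c ^ (2 * n + 1) * D := by
    rw [hgram, Matrix.det_smul, Fintype.card_fin, ← hD]
    rw [hV]
  obtain ⟨e, he⟩ := exists_isom_of_disc h2 hnd hQ0 (by rw [hV, hV0]) b b0 (by
    rw [hdet]
    refine ⟨c ^ (n + 1), ?_⟩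
    rw [← hD0, mul_assoc, ← hc]
    ring)
  exact ⟨(AutO.trOE e.symm (Units.mk0 c hcn)⁻¹ (fun v => by
    have h3 := he (e.symm v)
    rw [e.apply_symm_apply, hQ'] at h3
    rw [h3, Units.val_inv_eq_inv_val, Units.val_mk0, inv_mul_cancel_left₀ hcn])).symm⟩

theorem exists_comm_transport {F V : Type*} [Field F] [Finite F] (h2 : (2 : F) ≠ 0) [AddCommGroup V] [Module F V]
    [FiniteDimensional F V] {Q : QuadraticForm F V} (hQ : (polarBilin Q).Nondegenerate) {n : ℕ}
    (hV : finrank F V = 2 * n + 1) (g : OGrp Q) (hg : g ∈ commutator (OGrp Q)) :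
    ∃ g' : OGrp (qfOdd n F), g' ∈ commutator (OGrp (qfOdd n F)) ∧ orderOf g' = orderOf g := by
  obtain ⟨φ⟩ := exists_transport h2 hQ hV
  exact ⟨φ g, (mem_commutator_equiv φ g).1 hg, MulEquiv.orderOf_eq φ g⟩

theorem EOrd.toOmega.{u, v} {F : Type u} [Field F] [Finite F] (h2 : (2 : F) ≠ 0) {d N n : ℕ}
    (h : EOrd.{u, v} (1 : F) d N) (hN : Odd N) (hd : d ≤ 2 * n + 1) :
    ∃ g' : OGrp (qfOdd n F), g' ∈ commutator (OGrp (qfOdd n F)) ∧ orderOf g' = N := by
  obtain ⟨V, i1, i2, i3, Q, g, hV, hQ, hg⟩ := (h.pad hd).toQuad h2 hN.pos.ne'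
  have h3 := odd_mem_commutator hQ (g := g) (by rw [hg]; exact hN)
  obtain ⟨g', h4, h5⟩ := exists_comm_transport h2 hQ hV g h3
  exact ⟨g', h4, by rw [h5, hg]⟩

/-- a p-element in dimension three -/
theorem eOrd_three.{u} {F : Type u} [Field F] [Finite F] (h2 : (2 : F) ≠ 0) {p : ℕ} [hp : Fact p.Prime] [CharP F p] :
    EOrd.{u, u} (1 : F) 3 p := by
  let Q := qfOdd 1 F
  have hQ : (polarBilin Q).Nondegenerate := qfOdd_nondegenerate 1 F h2
  let a : Unit ⊕ (Fin 1 ⊕ Fin 1) → F := Pi.single (Sum.inr (Sum.inl 0)) 1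
  let b : Unit ⊕ (Fin 1 ⊕ Fin 1) → F := Pi.single (Sum.inl ()) 1
  let f : Unit ⊕ (Fin 1 ⊕ Fin 1) → F := Pi.single (Sum.inr (Sum.inr 0)) 1
  have ha : Q a = 0 := by simp [Q, a, qfOdd_apply, Pi.single_apply]
  have hab : ∀ c : F, polar Q a (c • b) = 0 := by
    intro c
    simp [Q, a, b, polar_qfOdd, Pi.single_apply]
  have haf : polar Q a f = 1 := by simp [Q, a, f, polar_qfOdd, Pi.single_apply]
  have hbf : polar Q f b = 0 := by simp [Q, b, f, polar_qfOdd, Pi.single_apply]
  have hpow : ∀ i : ℕ, (eich Q a ((1 : F) • b) ha (hab 1)) ^ i = eich Q a ((i : F) • b) ha (hab i) := by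
    intro i
    induction i with
    | zero =>
      rw [pow_zero]
      refine OGrp_ext fun x => ?_
      rw [coe_one_apply, eich_apply]
      simp
    | succ i ih =>
      rw [pow_succ, ih, eich_mul]
      congr 1
      rw [← add_smul]
      push_cast
      rfl
  have h1 : orderOf (eich Q a ((1 : F) • b) ha (hab 1)) = p := by
    refine orderOf_eq_prime ?_ ?_
    · rw [hpow]
      refine OGrp_ext fun x => ?_
      rw [coe_one_apply, eich_apply, CharP.cast_eq_zero]
      simp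
    · intro h
      have h3 := congrArg (fun g : OGrp Q => (g : (Unit ⊕ (Fin 1 ⊕ Fin 1) → F) ≃ₗ[F] (Unit ⊕ (Fin 1 ⊕ Fin 1) → F)) f) h
      simp only [eich_apply, coe_one_apply, one_smul] at h3
      rw [hbf, pc Q f a, haf] at h3
      have h4 := congrFun h3 (Sum.inl ())
      simp [a, b, f, Pi.single_apply] at h4
  have h3 := ofOGrp hQ (eich Q a ((1 : F) • b) ha (hab 1))
  rw [h1] at h3
  have h4 : finrank F (Unit ⊕ (Fin 1 ⊕ Fin 1) → F) = 3 := by
    rw [Module.finrank_fintype_fun_eq_card]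
    simp
  rw [h4] at h3
  exact h3

/-- the unipotent element of Sp_2 -/
theorem eOrd_sp_two.{u} {F : Type u} [Field F] [Finite F] (h2 : (2 : F) ≠ 0) {p : ℕ} [hp : Fact p.Prime] [CharP F p] :
    EOrd.{u, u} (-1 : F) 2 p := by
  obtain ⟨t, ht, hto⟩ := unip (F := F) p h2 (b := 1) (j := 0) (by norm_num)
  haveI := finite_unip (F := F) 1
  have := ht.spOrd (a := 1) finrank_unip
  rw [hto] at this
  have h3 := SpOrd.toE this
  simpa using h3

/-! ### the odd case -/

/-- from orthogonal to symplectic -/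
theorem OtoS.{u, v} {F : Type u} [Field F] [Finite F] (h2 : (2 : F) ≠ 0) {p : ℕ} [hp : Fact p.Prime] [CharP F p]
    {n r s : ℕ} (hr : r.Prime) (hs : s.Prime) (hr2 : r ≠ 2) (hs2 : s ≠ 2) (hrp : r ≠ p)
    (h : EOrd.{u, v} (1 : F) (2 * n + 1) (r * s)) (hrs : r ≠ s) : ∃ x : Cfsg.PSp n F, orderOf x = r * s := by
  have hcast : ∀ m : ℕ, m.Prime → m ≠ p → (m : F) ≠ 0 := by
    intro m hm hmp
    rw [Ne, CharP.cast_eq_zero_iff F p, Nat.prime_dvd_prime_iff_eq hp.out hm]
    exact fun h => hmp h.symm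
  have hro : Odd r := hr.odd_of_ne_two hr2
  have hso : Odd s := hs.odd_of_ne_two hs2
  have hlcm : Nat.lcm r s = r * s := Nat.Coprime.lcm_eq_mul ((Nat.coprime_primes hr hs).2 hrs)
  obtain ⟨w, hw1, hw2, h1 | ⟨h1, h3⟩⟩ := h.dec hr hs hr2 (hcast r hr hrp)
  · exact h1.toPSp h2 hw2 (hro.mul hso)
  · obtain ⟨a, ha, -⟩ := h1.sp h2
    by_cases hsp : s = p
    · subst hsp
      have h4 := h3.three_le h2
      have h5 := h1.add (eOrd_sp_two (F := F) h2 (p := s))
      rw [hlcm] at h5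
      exact h5.toPSp h2 (by omega) (hro.mul hso)
    · obtain ⟨w', hw1', hw2', h4⟩ := h3.single hs hs2 (hcast s hs hsp)
      have h5 := h1.add h4
      rw [hlcm] at h5
      exact h5.toPSp h2 (by omega) (hro.mul hso)

/-- from symplectic to orthogonal -/
theorem StoO.{u, v} {F : Type u} [Field F] [Finite F] (h2 : (2 : F) ≠ 0) {p : ℕ} [hp : Fact p.Prime] [CharP F p]
    {n r s : ℕ} (hr : r.Prime) (hs : s.Prime) (hr2 : r ≠ 2) (hs2 : s ≠ 2) (hrp : r ≠ p)
    (h : EOrd.{u, v} (-1 : F) (2 * n) (r * s)) (hrs : r ≠ s) :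
    ∃ g' : OGrp (qfOdd n F), g' ∈ commutator (OGrp (qfOdd n F)) ∧ orderOf g' = r * s := by
  have hcast : ∀ m : ℕ, m.Prime → m ≠ p → (m : F) ≠ 0 := by
    intro m hm hmp
    rw [Ne, CharP.cast_eq_zero_iff F p, Nat.prime_dvd_prime_iff_eq hp.out hm]
    exact fun h => hmp h.symm
  have hro : Odd r := hr.odd_of_ne_two hr2
  have hso : Odd s := hs.odd_of_ne_two hs2
  have hlcm : Nat.lcm r s = r * s := Nat.Coprime.lcm_eq_mul ((Nat.coprime_primes hr hs).2 hrs)
  obtain ⟨w, hw1, hw2, h1 | ⟨h1, h3⟩⟩ := h.dec hr hs hr2 (hcast r hr hrp)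
  · rw [neg_neg] at h1
    exact h1.toOmega h2 (hro.mul hso) (by omega)
  · rw [neg_neg] at h1
    by_cases hsp : s = p
    · subst hsp
      obtain ⟨a, ha, ha'⟩ := h3.sp h2
      have h4 : a ≠ 0 := by
        rintro rfl
        obtain ⟨V, i1, i2, i3, B, T, hV, hA, hB, hT, hTs⟩ := ha'
        haveI : Subsingleton V := Module.finrank_zero_iff.1 (by rw [hV])
        rw [Subsingleton.elim T 1, orderOf_one] at hTs
        exact hs.one_lt.ne hTs
      have h5 := h1.add (eOrd_three (F := F) h2 (p := s))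
      rw [hlcm] at h5
      exact h5.toOmega h2 (hro.mul hso) (by omega)
    · obtain ⟨w', hw1', hw2', h4⟩ := h3.single hs hs2 (hcast s hs hsp)
      rw [neg_neg] at h4
      have h5 := h1.add h4
      rw [hlcm] at h5
      exact h5.toOmega h2 (hro.mul hso) (by omega)

end Cfsg.Agent.H39.EForm
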