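import Mathlib
import Cfsg.Agent.H39.EForm2
import Cfsg.Agent.S2362

/-!
Elements of order `2 r` in the orthogonal and symplectic groups.
-/

set_option autoImplicit false

namespace Cfsg.Agent.H39.EForm

open Module QuadraticMap Cfsg.Agent.Orth Cfsg.Agent.H42.SpSpec Cfsg.Agent.H39.SpecBC Cfsg.Agent.ClGeo
  Cfsg.Agent.OrthCount Cfsg.Agent.OCase

/-- even orders from a commuting involution -/
theorem two_of_inv {F V : Type*} [Field F] [Finite F] (h2 : (2 : F) ≠ 0) [AddCommGroup V] [Module F V]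
    [FiniteDimensional F V] {Q : QuadraticForm F V} (hQ : (polarBilin Q).Nondegenerate) {n : ℕ}
    (hV : finrank F V = 2 * n + 1) {y z : OGrp Q} {N : ℕ} (hy : orderOf y = N) (hN : Odd N)
    (hz : z ^ 2 = 1) (hz1 : z ≠ 1) (hzc : z ∈ commutator (OGrp Q)) (hc : Commute z y) :
    ∃ g' : OGrp (qfOdd n F), g' ∈ commutator (OGrp (qfOdd n F)) ∧ orderOf g' = 2 * N := by
  have h1 : orderOf z = 2 := orderOf_eq_prime hz hz1
  have h3 : orderOf (z * y) = 2 * N := by
    rw [hc.orderOf_mul_eq_mul_orderOf_of_coprime, h1, hy]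
    rw [h1, hy]
    exact Nat.coprime_two_left.2 hN
  have h4 : z * y ∈ commutator (OGrp Q) :=
    Subgroup.mul_mem _ hzc (odd_mem_commutator hQ (by rw [hy]; exact hN))
  obtain ⟨g', h5, h6⟩ := exists_comm_transport h2 hQ hV _ h4
  exact ⟨g', h5, by rw [h6, h3]⟩

/-- even orders from a pair of orthonormal fixed vectors -/
theorem two_of_fixed {F V : Type*} [Field F] [Finite F] (h2 : (2 : F) ≠ 0) [AddCommGroup V] [Module F V]
    [FiniteDimensional F V] {Q : QuadraticForm F V} (hQ : (polarBilin Q).Nondegenerate) {n : ℕ}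
    (hV : finrank F V = 2 * n + 1) {y : OGrp Q} {N : ℕ} (hy : orderOf y = N) (hN : Odd N)
    {u0 u1 : V} (h0 : Q u0 = 1) (h1 : Q u1 = 1) (h01 : polar Q u0 u1 = 0)
    (hy0 : (y : V ≃ₗ[F] V) u0 = u0) (hy1 : (y : V ≃ₗ[F] V) u1 = u1) :
    ∃ g' : OGrp (qfOdd n F), g' ∈ commutator (OGrp (qfOdd n F)) ∧ orderOf g' = 2 * N := by
  have hu0 : Q u0 ≠ 0 := by rw [h0]; exact one_ne_zero
  have hu1 : Q u1 ≠ 0 := by rw [h1]; exact one_ne_zero
  have hcr : ∀ {u v : V} (hu : Q u ≠ 0) (hv : Q v ≠ 0), u = v → refl Q u hu = refl Q v hv := by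
    rintro u v hu hv rfl; rfl
  have hcy : ∀ {u : V} (hu : Q u ≠ 0), (y : V ≃ₗ[F] V) u = u → Commute (refl Q u hu) y := by
    intro u hu h
    have h3 := refl_conj y u hu
    rw [hcr (u := (y : V ≃ₗ[F] V) u) _ hu h] at h3
    rw [mul_inv_eq_iff_eq_mul] at h3
    exact h3.symm
  have hc01 : refl Q u0 hu0 * refl Q u1 hu1 = refl Q u1 hu1 * refl Q u0 hu0 := by
    have h3 := refl_conj (refl Q u0 hu0) u1 hu1
    have h4 : (refl Q u0 hu0 : V ≃ₗ[F] V) u1 = u1 := refl_apply_of_ortho hu0 (by rw [pc]; exact h01)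
    rw [hcr (u := (refl Q u0 hu0 : V ≃ₗ[F] V) u1) _ hu1 h4, mul_inv_eq_iff_eq_mul] at h3
    exact h3
  have hzc : refl Q u0 hu0 * refl Q u1 hu1 ∈ commutator (OGrp Q) := by
    have h3 := reflProd_mem_commutator hQ (l := [⟨u0, hu0⟩, ⟨u1, hu1⟩]) ⟨1, rfl⟩
      ⟨1, by rw [nrm_cons, nrm_cons, nrm_nil, h0, h1]; ring⟩
    rw [reflProd_cons, reflProd_cons, reflProd_nil, mul_one] at h3
    exact h3
  refine two_of_inv h2 hQ hV hy hN (z := refl Q u0 hu0 * refl Q u1 hu1) ?_ ?_ hzc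
    ((hcy hu0 hy0).mul_left (hcy hu1 hy1))
  · rw [pow_two]
    calc refl Q u0 hu0 * refl Q u1 hu1 * (refl Q u0 hu0 * refl Q u1 hu1) =
        refl Q u0 hu0 * (refl Q u1 hu1 * refl Q u0 hu0) * refl Q u1 hu1 := by group
      _ = (refl Q u0 hu0 * refl Q u0 hu0) * (refl Q u1 hu1 * refl Q u1 hu1) := by rw [← hc01]; group
      _ = 1 := by rw [refl_mul_self, refl_mul_self, one_mul]
  · intro h
    have h3 : ((refl Q u0 hu0 * refl Q u1 hu1 : OGrp Q) : V ≃ₗ[F] V) u0 = u0 := by rw [h, coe_one_apply]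
    rw [coe_mul_apply, refl_apply_of_ortho hu1 h01, refl_apply_self] at h3
    have h4 : (2 : F) • u0 = 0 := by
      rw [two_smul]
      nth_rewrite 1 [← h3]
      exact neg_add_cancel u0
    have h5 : u0 = 0 := (smul_eq_zero.1 h4).resolve_left h2
    rw [h5, QuadraticMap.map_zero] at h0
    exact zero_ne_one h0

theorem EOrd.two.{u, v} {F : Type u} [Field F] [Finite F] (h2 : (2 : F) ≠ 0) {d N n : ℕ}
    (h : EOrd.{u, v} (1 : F) d N) (hN : Odd N) (hd : d + 3 ≤ 2 * n + 1) :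
    ∃ g' : OGrp (qfOdd n F), g' ∈ commutator (OGrp (qfOdd n F)) ∧ orderOf g' = 2 * N := by
  obtain ⟨V, i1, i2, i3, Q, g, hV, hQ, hg⟩ := h.toQuad h2 hN.pos.ne'
  obtain ⟨W, j1, j2, j3, S, g1, hW, hS, -⟩ := (eOrd_one F (2 * n + 1 - d)).toQuad h2 one_ne_zero
  obtain ⟨u, hu, hu1⟩ := exists_isOrth_one hS h2 2 (by omega)
  have hnd := prod_nondeg hQ hS
  let f : V × W →ₗ[F] V × W := LinearMap.prodMap ((g : V ≃ₗ[F] V) : V →ₗ[F] V) LinearMap.id
  let f' : V × W →ₗ[F] V × W := LinearMap.prodMap (((g⁻¹ : OGrp Q) : V ≃ₗ[F] V) : V →ₗ[F] V) LinearMap.id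
  have hf : ∀ x : V × W, f x = ((g : V ≃ₗ[F] V) x.1, x.2) := fun x => rfl
  have hf' : ∀ x : V × W, f' x = (((g⁻¹ : OGrp Q) : V ≃ₗ[F] V) x.1, x.2) := fun x => rfl
  let y : OGrp (Q.prod S) := mkIsom (Q.prod S) f f'
    (fun x => by rw [hf', hf, coe_apply_inv_self])
    (fun x => by rw [hf, hf', coe_inv_apply_self])
    (fun x => by rw [hf, QuadraticMap.prod_apply, QuadraticMap.prod_apply, OGrp_q])
  have hyp : ∀ (i : ℕ) (x : V × W), ((y ^ i : OGrp (Q.prod S)) : (V × W) ≃ₗ[F] (V × W)) x =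
      (((g ^ i : OGrp Q) : V ≃ₗ[F] V) x.1, x.2) := by
    intro i
    induction i with
    | zero => intro x; rfl
    | succ i ih =>
      intro x
      rw [pow_succ, coe_mul_apply, ih, pow_succ]
      rfl
  have hyo : orderOf y = N := by
    have h3 : ∀ i : ℕ, y ^ i = 1 ↔ g ^ i = 1 := by
      intro i
      constructor
      · intro h
        refine OGrp_ext fun x => ?_
        have := hyp i (x, 0)
        rw [h] at this
        exact (congrArg Prod.fst this).symm
      · intro h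
        refine OGrp_ext fun x => ?_
        rw [hyp, h]
        rfl
    rw [← hg]
    apply Nat.dvd_antisymm
    · rw [orderOf_dvd_iff_pow_eq_one, h3, pow_orderOf_eq_one]
    · rw [orderOf_dvd_iff_pow_eq_one, ← h3, pow_orderOf_eq_one]
  refine two_of_fixed h2 hnd (by rw [Module.finrank_prod, hV, hW]; omega) hyo hN (u0 := (0, u 0)) (u1 := (0, u 1))
    ?_ ?_ ?_ ?_ ?_
  · rw [QuadraticMap.prod_apply, hu1, QuadraticMap.map_zero, zero_add]
  · rw [QuadraticMap.prod_apply, hu1, QuadraticMap.map_zero, zero_add]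
  · rw [QuadraticMap.polar_prod, hu.p 0 1 (by decide), polar_zero_left, zero_add]
  · change f _ = _
    rw [hf, map_zero]
  · change f _ = _
    rw [hf, map_zero]

theorem dvd_card_OG' {F V : Type*} [Field F] [AddCommGroup V] [Module F V] {Q : QuadraticForm F V}
    (g : OGrp Q) : orderOf g ∣ Nat.card (OG Q) := by
  have h : OG Q = OGrp Q := rfl
  rw [h]
  exact orderOf_dvd_natCard g

/-- the discriminant of an even-dimensional space with an element of order r -/
theorem disc_iff {F V : Type*} [Field F] [Fintype F] (hodd : Odd (Fintype.card F)) [AddCommGroup V] [Module F V]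
    [FiniteDimensional F V] {Q : QuadraticForm F V} (hQ : (polarBilin Q).Nondegenerate) {n r e : ℕ}
    (hV : finrank F V = 2 * n) (hr : r.Prime) (hr2 : r ≠ 2)
    (he : orderOf ((Nat.card F : ℕ) : ZMod r) = e) (hn : Num e n) (hdvd : r ∣ Nat.card (OG Q))
    {ι : Type*} [Fintype ι] [DecidableEq ι] (b : Basis ι F V) :
    IsSquare (gram Q b).det ↔ ((e = 2 * n ∧ Nat.card F ^ n % 4 = 3) ∨ (e = n ∧ Nat.card F ^ n % 4 = 1)) := by
  have h2 := two_ne_zero_of_odd hodd
  have hq : 1 < Nat.card F := Finite.one_lt_card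
  have hqo : Odd (Nat.card F) := by rw [Nat.card_eq_fintype_card]; exact hodd
  have htype := isPlus_iff_isSquare h2 hQ hV b
  have hsq := isSquare_neg_one_pow_iff (F := F) (Nat.card_eq_fintype_card.symm) hqo n
  have hm0 : (-1 : F) ^ n ≠ 0 := pow_ne_zero _ (by simp)
  have hdet := gram_det_ne_zero hQ b
  have hq4 : Nat.card F ^ n % 4 = 1 ∨ Nat.card F ^ n % 4 = 3 := by
    obtain ⟨t, ht⟩ := (hqo.pow : Odd (Nat.card F ^ n))
    omega
  have hn2 : 2 ≤ n := hn.1
  have hrq : ¬ r ∣ Nat.card F := by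
    intro h
    rw [(ZMod.natCast_eq_zero_iff _ _).2 h] at he
    haveI : Fact r.Prime := ⟨hr⟩
    have h1 : orderOf (0 : ZMod r) = 0 := by
      rw [orderOf_eq_zero_iff']
      intro n hn h
      rw [zero_pow (by omega)] at h
      exact zero_ne_one h
    rw [h1] at he
    rcases hn.2 with h3 | ⟨h3, -, -⟩ <;> omega
  have hr2' : ¬ r ∣ 2 := fun h => hr2 ((Nat.prime_dvd_prime_iff_eq hr Nat.prime_two).1 h)
  rcases hn.2 with h1 | ⟨h1, ho, h3⟩
  · have hnp : ¬ IsPlus Q := by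
      intro hp
      obtain ⟨g, hg⟩ := hp.exists_isom hQ hV
      have h3 : Nat.card (OG (qfPlus n F)) = Nat.card (OG Q) := card_OG_congr _ _ g hg
      have h4 := card_isometryGroup (qfPlus n F)
      have h5 := order_plus (F := F) n (by omega)
      have h6 : Nat.card (Cfsg.isometryGroup F (Cfsg.quadFormPlus n F)) = Nat.card (OG Q) := by
        rw [← h3, ← h4]; rfl
      rw [← h6, h5, hr.dvd_mul, hr.dvd_mul, hr.dvd_mul] at hdvd
      rcases hdvd with ((h | h) | h) | h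
      · exact hr2' h
      · exact hrq (hr.dvd_of_dvd_pow h)
      · rw [Cfsg.Agent.S2362.dvd_iff hq he, h1] at h
        have := Nat.le_of_dvd (by omega) h
        omega
      · exact Cfsg.Agent.S2362.not_dvd_prod hr hq he hn h
    rw [htype] at hnp
    constructor
    · intro h5
      rw [mul_comm, isSquare_mul_iff_of_sq h5 hdet, hsq] at hnp
      exact Or.inl ⟨h1, by omega⟩
    · rintro (⟨-, h5⟩ | ⟨h5, -⟩)
      · by_contra h6
        apply hnp
        rw [isSquare_mul_iff_of_not (by rw [hsq]; omega) hdet]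
        exact h6
      · omega
  · have hp : IsPlus Q := by
      by_contra hnp
      obtain ⟨m, rfl⟩ : ∃ m, n = m + 1 := ⟨n - 1, by omega⟩
      obtain ⟨ζ, g, hζ, hg⟩ := exists_isom_of_not_isPlus hQ hV hnp
      have h3 : Nat.card (OG (qfMinus m F 1 ζ)) = Nat.card (OG Q) := card_OG_congr _ _ g hg
      have h4 := card_isometryGroup (qfMinus m F 1 ζ)
      have h5 := order_minus (F := F) m (a := 1) (b := ζ) (OrthCount.aniso_of (Orth.aniso_of_root hζ))
      have h6 : Nat.card (Cfsg.isometryGroup F (Cfsg.quadFormMinus m F 1 ζ)) = Nat.card (OG Q) := by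
        rw [← h3, ← h4]; rfl
      rw [← h6, h5, hr.dvd_mul, hr.dvd_mul, hr.dvd_mul] at hdvd
      rcases hdvd with ((h | h) | h) | h
      · exact hr2' h
      · exact hrq (hr.dvd_of_dvd_pow h)
      · have h7 : r ∣ Nat.card F ^ (m + 1) - 1 := by
          rw [Cfsg.Agent.S2362.dvd_iff hq he, h1]
        have h8 := Nat.dvd_sub h h7
        have h9 : Nat.card F ^ (m + 1) + 1 - (Nat.card F ^ (m + 1) - 1) = 2 := by
          have : 1 ≤ Nat.card F ^ (m + 1) := Nat.one_le_pow _ _ (by omega)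
          omega
        rw [h9] at h8
        exact hr2' h8
      · exact Cfsg.Agent.S2362.not_dvd_prod hr hq he hn (by simpa using h)
    rw [htype] at hp
    constructor
    · intro h5
      rw [mul_comm, isSquare_mul_iff_of_sq h5 hdet, hsq] at hp
      exact Or.inr ⟨h1, hp⟩
    · rintro (⟨h5, -⟩ | ⟨-, h5⟩)
      · omega
      · rw [isSquare_mul_iff_of_sq (hsq.2 h5) hm0] at hp
        exact hp

/-- the dimension of the moved space -/
theorem exists_a.{u, v} {F : Type u} [Field F] [Finite F] (h2 : (2 : F) ≠ 0) {p : ℕ} [hp : Fact p.Prime] [CharP F p]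
    {ε : F} (hε : ε = 1 ∨ ε = -1) {d r : ℕ} (h : EOrd.{u, v} ε d r) (hr : r.Prime) (hr2 : r ≠ 2) (hrp : r ≠ p) :
    ∃ a, 1 ≤ a ∧ 2 * a ≤ d ∧ orderOf ((Nat.card F : ℕ) : ZMod r) ∣ 2 * a := by
  obtain ⟨V, i1, i2, i3, B, T, hV, hεB, hB, hT, hTs⟩ := h
  have hrF : (r : F) ≠ 0 := by
    rw [Ne, CharP.cast_eq_zero_iff F p, Nat.prime_dvd_prime_iff_eq hp.out hr]
    exact fun h => hrp h.symm
  have hTr : T ^ r = 1 := by rw [← hTs]; exact pow_orderOf_eq_one T
  obtain ⟨t, ht⟩ := hr.odd_of_ne_two hr2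
  have hTX := range_inv (T := T) (y := T) (fun _ => rfl)
  have hX0 : LinearMap.range (T - 1) ≠ ⊥ := by
    intro h0
    rw [LinearMap.range_eq_bot, sub_eq_zero] at h0
    rw [h0, orderOf_one] at hTs
    exact hr.one_lt.ne hTs
  have hdvd := dvd_finrank_sub hr hrp rfl T hTr (LinearMap.range (T - 1)) hTX
  rw [inf_comm, ker_inf_range hTr hrF, finrank_bot, Nat.sub_zero] at hdvd
  have hev : ∃ a, finrank F (LinearMap.range (T - 1)) = 2 * a := by
    rcases hε with rfl | rfl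
    · have h1 := eOrd_twist hεB hT hT (fun _ => rfl) hTX hTX (range_nondeg hεB hB hT hTr hrF) (t := t)
        (by rw [← ht]; exact hTr) (range_fix hTr hrF)
      obtain ⟨a, ha, -⟩ := h1.sp h2
      exact ⟨a, ha⟩
    · have h1 := eOrd_restrict hεB hT hTX (range_nondeg hεB hB hT hTr hrF)
      obtain ⟨a, ha, -⟩ := h1.sp h2
      exact ⟨a, ha⟩
  obtain ⟨a, ha⟩ := hev
  rw [ha] at hdvd
  refine ⟨a, ?_, ?_, hdvd⟩
  · rw [Nat.one_le_iff_ne_zero]
    rintro rfl
    exact hX0 (Submodule.finrank_eq_zero.1 (by rw [ha]))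
  · rw [← ha, ← hV]
    exact Submodule.finrank_le _

end Cfsg.Agent.H39.EForm
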