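import Cfsg.Agent.H39.PrincipalTwo
import Cfsg.Agent.H39.Class2SL
import Cfsg.Agent.S0190

/-!
Values of the principal series characters of `GL₂` and `SL₂`.
-/

set_option autoImplicit false
set_option linter.unusedSectionVars false
set_option linter.unusedSimpArgs false

namespace Cfsg.Agent.H39

open Cfsg Cfsg.Agent.Char Cfsg.Agent.CharBase Matrix
open scoped ComplexConjugate

section gen
variable {F : Type*} [Field F] {G : Type*} [Group G] {ι : G →* GL (Fin 2) F} {u : F → G} {w : G}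

theorem Frame.mt_conj_uw (h : Frame ι u w) (g : G) (x : F) :
    mt ι ((u x * w)⁻¹ * g * (u x * w)) 1 0 = qf2 (mt ι g) x 1 ∧
    mt ι ((u x * w)⁻¹ * g * (u x * w)) 0 0 = mt ι g 1 0 * x + mt ι g 1 1 ∧
    mt ι ((u x * w)⁻¹ * g * (u x * w)) 1 1 = mt ι g 0 0 - mt ι g 1 0 * x := by
  rw [mt_mul, mt_mul, h.uw, h.uw_inv]
  refine ⟨?_, ?_, ?_⟩
  · simp [Matrix.mul_apply, Fin.sum_univ_two, Matrix.vecMul, dotProduct, qf2]
    ring
  · simp [Matrix.mul_apply, Fin.sum_univ_two, Matrix.vecMul, dotProduct]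
    ring
  · simp [Matrix.mul_apply, Fin.sum_univ_two, Matrix.vecMul, dotProduct]
    ring

theorem Frame.prin_apply [Fintype F] [DecidableEq F] [Fintype G] (h : Frame ι u w) (α β : MulChar F ℂ) (g : G) :
    indFun (B2 ι) (lam ι α β) g = (if mt ι g 1 0 = 0 then α (mt ι g 0 0) * β (mt ι g 1 1) else 0) +
      ∑ x : F, if qf2 (mt ι g) x 1 = 0 then
        α (mt ι g 1 0 * x + mt ι g 1 1) * β (mt ι g 0 0 - mt ι g 1 0 * x) else 0 := by
  rw [indFun_brMap _ _ _ h.bij _ (isClassFunction_lam _ _)]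
  congr 1
  · split_ifs with h1
    · rw [extendByZero_of_mem _ _ (mem_B2 ι |>.2 h1)]
      rfl
    · rw [extendByZero_of_notMem _ _ (fun h2 => h1 (mem_B2 ι |>.1 h2))]
  · refine Finset.sum_congr rfl fun x _ => ?_
    obtain ⟨h1, h2, h3⟩ := h.mt_conj_uw g x
    split_ifs with h4
    · rw [extendByZero_of_mem _ _ (mem_B2 ι |>.2 (h1.trans h4))]
      simp only [lam]
      rw [h2, h3]
    · rw [extendByZero_of_notMem _ _ (fun h5 => h4 (h1.symm.trans (mem_B2 ι |>.1 h5)))]

theorem qf2_ne_zero_of_elliptic {g : Matrix (Fin 2) (Fin 2) F}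
    (hg : ∀ (c : F) (v : Fin 2 → F), v ≠ 0 → g.mulVec v ≠ c • v) : g 1 0 ≠ 0 ∧ ∀ x, qf2 g x 1 ≠ 0 := by
  constructor
  · intro h
    apply hg (g 0 0) ![1, 0]
    · intro h1
      have := congrFun h1 0
      simp at this
    · ext i
      fin_cases i <;> simp [Matrix.mulVec, dotProduct, Fin.sum_univ_two, h]
  · intro x h
    apply hg (g 1 0 * x + g 1 1) ![x, 1]
    · intro h1
      have := congrFun h1 1
      simp at this
    · simp only [qf2] at h
      ext i
      fin_cases i <;> simp [Matrix.mulVec, dotProduct, Fin.sum_univ_two]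
      linear_combination -h

theorem Frame.prin_elliptic [Fintype F] [DecidableEq F] [Fintype G] (h : Frame ι u w) (α β : MulChar F ℂ) (g : G)
    (hg : ∀ (c : F) (v : Fin 2 → F), v ≠ 0 → (mt ι g).mulVec v ≠ c • v) :
    indFun (B2 ι) (lam ι α β) g = 0 := by
  obtain ⟨h1, h2⟩ := qf2_ne_zero_of_elliptic hg
  rw [h.prin_apply, if_neg h1, Finset.sum_eq_zero, add_zero]
  intro x _
  rw [if_neg (h2 x)]

theorem Frame.prin_split [Fintype F] [DecidableEq F] [Fintype G] (h : Frame ι u w) (α β : MulChar F ℂ) (g : G)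
    (h01 : mt ι g 0 1 = 0) (h10 : mt ι g 1 0 = 0) (hne : mt ι g 0 0 ≠ mt ι g 1 1) :
    indFun (B2 ι) (lam ι α β) g = α (mt ι g 0 0) * β (mt ι g 1 1) + α (mt ι g 1 1) * β (mt ι g 0 0) := by
  rw [h.prin_apply, if_pos h10, Finset.sum_eq_single (0 : F)]
  · congr 1
    rw [if_pos (by simp [qf2, h01, h10])]
    simp
  · intro x _ hx
    rw [if_neg]
    intro h1
    simp only [qf2, h01, h10] at h1
    have h2 : (mt ι g 1 1 - mt ι g 0 0) * x = 0 := by linear_combination h1
    rcases mul_eq_zero.1 h2 with h3 | h3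
    · exact hne (sub_eq_zero.1 h3).symm
    · exact hx h3
  · simp

theorem Frame.prin_uni [Fintype F] [DecidableEq F] [Fintype G] (h : Frame ι u w) (α β : MulChar F ℂ) (g : G)
    (h10 : mt ι g 1 0 = 0) (h01 : mt ι g 0 1 ≠ 0) (he : mt ι g 0 0 = mt ι g 1 1) :
    indFun (B2 ι) (lam ι α β) g = α (mt ι g 0 0) * β (mt ι g 1 1) := by
  rw [h.prin_apply, if_pos h10, Finset.sum_eq_zero, add_zero]
  intro x _
  rw [if_neg]
  intro h1
  simp only [qf2, h10, he] at h1
  apply h01
  linear_combination -h1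

theorem Frame.prin_scalar [Fintype F] [DecidableEq F] [Fintype G] (h : Frame ι u w) (α β : MulChar F ℂ) (g : G) (a : F)
    (hg : mt ι g = a • (1 : Matrix (Fin 2) (Fin 2) F)) :
    indFun (B2 ι) (lam ι α β) g = ((Fintype.card F : ℂ) + 1) * (α a * β a) := by
  rw [h.prin_apply, hg]
  have h1 : ∀ x : F, qf2 (a • (1 : Matrix (Fin 2) (Fin 2) F)) x 1 = 0 := by
    intro x
    simp [qf2]
  simp only [h1, if_true]
  simp
  ring

theorem stab_mk_one {G : Type*} [Group G] (H : Subgroup G) :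
    MulAction.stabilizer G (QuotientGroup.mk 1 : G ⧸ H) = H := by
  ext g
  rw [MulAction.mem_stabilizer_iff, MulAction.Quotient.smul_mk, eq_comm, QuotientGroup.eq]
  simp

theorem fixedPointCharacter_eq {G : Type*} [Group G] [Fintype G] (H : Subgroup G) :
    fixedPointCharacter H = indFun H (fun _ => 1) := by
  have h1 := Cfsg.Agent.S0190.result (G := G) (G ⧸ H) (QuotientGroup.mk 1 : G ⧸ H)
  rw [stab_mk_one] at h1
  exact h1

theorem lam_one_one (ι : G →* GL (Fin 2) F) : lam ι (1 : MulChar F ℂ) 1 = fun _ => 1 := by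
  funext b
  obtain ⟨h1, h2⟩ := mt_diag_ne_zero b.2
  simp only [lam]
  rw [MulChar.one_apply (IsUnit.mk0 _ h1), MulChar.one_apply (IsUnit.mk0 _ h2), mul_one]

end gen

end Cfsg.Agent.H39
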