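import Cfsg.Agent.H39.BorelTwo

/-!
Inner products of the principal series characters of `GL₂` and `SL₂`.
-/

set_option autoImplicit false
set_option linter.unusedSectionVars false
set_option linter.unusedSimpArgs false

namespace Cfsg.Agent.H39

open Cfsg Cfsg.Agent.Char Cfsg.Agent.CharBase Matrix
open scoped ComplexConjugate

section gen
variable {F : Type*} [Field F] {G : Type*} [Group G] {ι : G →* GL (Fin 2) F} {u : F → G} {w : G}

theorem Frame.mt_conj_w (h : Frame ι u w) (b : B2 ι) :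
    mt ι (w⁻¹ * b * w) = !![mt ι b 1 1, 0; - mt ι b 0 1, mt ι b 0 0] := by
  have hb := b.2
  rw [mem_B2] at hb
  rw [mt_mul, mt_mul, h.hw, h.mt_inv_w]
  ext i j
  fin_cases i <;> fin_cases j <;> simp [Matrix.mul_apply, Fin.sum_univ_two, hb, Matrix.vecMul, dotProduct]

theorem Frame.ext_conj_w [DecidableEq F] (h : Frame ι u w) (α β : MulChar F ℂ) (b : B2 ι) :
    extendByZero (B2 ι) (lam ι α β) (w⁻¹ * b * w) = if mt ι b 0 1 = 0 then α (mt ι b 1 1) * β (mt ι b 0 0) else 0 := by
  split_ifs with hb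
  · have hm : w⁻¹ * b * w ∈ B2 ι := by
      rw [mem_B2, h.mt_conj_w]
      simp [hb]
    rw [extendByZero_of_mem _ _ hm]
    simp only [lam]
    rw [h.mt_conj_w]
    simp
  · have hm : w⁻¹ * b * w ∉ B2 ι := by
      rw [mem_B2, h.mt_conj_w]
      simpa using hb
    rw [extendByZero_of_notMem _ _ hm]

end gen

section gl
variable {F : Type*} [Field F]

/-- standard unipotent elements of `SL₂` -/
def uSL (x : F) : SpecialLinearGroup (Fin 2) F := ⟨!![1, x; 0, 1], by rw [Matrix.det_fin_two]; simp⟩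

/-- standard Weyl element of `SL₂` -/
def wSL (F : Type*) [Field F] : SpecialLinearGroup (Fin 2) F := ⟨!![0, 1; -1, 0], by rw [Matrix.det_fin_two]; simp⟩

theorem frameSL (F : Type*) [Field F] : Frame (SpecialLinearGroup.toGL : SpecialLinearGroup (Fin 2) F →* GL (Fin 2) F)
    uSL (wSL F) := by
  refine ⟨?_, fun x => rfl, rfl⟩
  intro g h hh
  apply Subtype.ext
  exact congrArg Units.val hh

theorem frameGL (F : Type*) [Field F] : Frame (MonoidHom.id (GL (Fin 2) F))
    (fun x => SpecialLinearGroup.toGL (uSL x)) (SpecialLinearGroup.toGL (wSL F)) :=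
  ⟨fun _ _ h => h, fun x => rfl, rfl⟩

/-- elements of the Borel subgroup of `GL₂`. -/
noncomputable def bGL (p : (Fˣ × Fˣ) × F) : B2 (MonoidHom.id (GL (Fin 2) F)) :=
  ⟨Matrix.GeneralLinearGroup.mkOfDetNeZero !![(p.1.1 : F), p.2; 0, (p.1.2 : F)] (by rw [Matrix.det_fin_two]; simp), by
    rw [mem_B2]
    show !![(p.1.1 : F), p.2; 0, (p.1.2 : F)] 1 0 = 0
    simp⟩

theorem mt_bGL (p : (Fˣ × Fˣ) × F) : mt (MonoidHom.id (GL (Fin 2) F)) (bGL p : GL (Fin 2) F) =
    !![(p.1.1 : F), p.2; 0, (p.1.2 : F)] := rfl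

theorem bGL_bijective : Function.Bijective (bGL (F := F)) := by
  constructor
  · rintro ⟨⟨a, d⟩, x⟩ ⟨⟨a', d'⟩, x'⟩ h
    have h1 := congrArg (fun b : B2 (MonoidHom.id (GL (Fin 2) F)) => mt (MonoidHom.id (GL (Fin 2) F)) (b : GL (Fin 2) F)) h
    simp only [mt_bGL] at h1
    have e1 := congrFun (congrFun h1 0) 0
    have e2 := congrFun (congrFun h1 0) 1
    have e3 := congrFun (congrFun h1 1) 1
    simp at e1 e2 e3
    rw [Units.ext e1, e2, Units.ext e3]
  · intro b
    obtain ⟨h1, h2⟩ := mt_diag_ne_zero b.2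
    refine ⟨((Units.mk0 _ h1, Units.mk0 _ h2), mt (MonoidHom.id (GL (Fin 2) F)) b 0 1), ?_⟩
    apply Subtype.ext
    apply (frameGL F).ext
    have hb := b.2
    rw [mem_B2] at hb
    rw [mt_bGL]
    ext i j
    fin_cases i <;> fin_cases j
    · rfl
    · rfl
    · exact hb.symm
    · rfl

theorem sum_bGL [Fintype F] [DecidableEq F] [Fintype (B2 (MonoidHom.id (GL (Fin 2) F)))] (f : B2 (MonoidHom.id (GL (Fin 2) F)) → ℂ) :
    ∑ b, f b = ∑ a : Fˣ, ∑ d : Fˣ, ∑ x : F, f (bGL ((a, d), x)) := by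
  rw [← Function.Bijective.sum_comp bGL_bijective f, Fintype.sum_prod_type, Fintype.sum_prod_type]

theorem card_bGL [Fintype F] : Nat.card (B2 (MonoidHom.id (GL (Fin 2) F))) = (Fintype.card F - 1) ^ 2 * Fintype.card F := by
  classical
  rw [← Nat.card_congr (Equiv.ofBijective _ bGL_bijective), Nat.card_prod, Nat.card_prod, Nat.card_units,
    Nat.card_eq_fintype_card]
  ring

/-- Mackey for `GL₂`. -/
theorem classInner_prinGL [Fintype F] [DecidableEq F] [DecidableEq (MulChar F ℂ)] (α β α' β' : MulChar F ℂ) :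
    classInner (indFun (B2 (MonoidHom.id (GL (Fin 2) F))) (lam (MonoidHom.id (GL (Fin 2) F)) α β))
      (indFun (B2 (MonoidHom.id (GL (Fin 2) F))) (lam (MonoidHom.id (GL (Fin 2) F)) α' β')) =
      (if α = α' ∧ β = β' then 1 else 0) + (if α = β' ∧ β = α' then 1 else 0) := by
  haveI : Fintype (B2 (MonoidHom.id (GL (Fin 2) F))) := Fintype.ofFinite _
  have hq : (1 : ℕ) < Fintype.card F := Fintype.one_lt_card
  have hq0 : (Fintype.card F : ℂ) ≠ 0 := by exact_mod_cast (by omega : Fintype.card F ≠ 0)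
  have hq1 : (Fintype.card F : ℂ) - 1 ≠ 0 := by
    intro h
    have h1 : (Fintype.card F : ℂ) = 1 := by linear_combination h
    have h2 : Fintype.card F = 1 := by exact_mod_cast h1
    omega
  have hB : (Nat.card (B2 (MonoidHom.id (GL (Fin 2) F))) : ℂ) = ((Fintype.card F : ℂ) - 1) ^ 2 * Fintype.card F := by
    rw [card_bGL]
    push_cast [Nat.cast_sub hq.le]
    ring
  rw [classInner_indFun _ _ _ (frameGL F).bij (frameGL F).u_mem _ _ (isClassFunction_lam _ _) (isClassFunction_lam _ _)]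
  congr 1
  · rw [classInner, sum_bGL, hB]
    have h1 : ∀ (a d : Fˣ) (x : F), lam (MonoidHom.id (GL (Fin 2) F)) α β (bGL ((a, d), x)) *
        conj (lam (MonoidHom.id (GL (Fin 2) F)) α' β' (bGL ((a, d), x))) =
        (α a * conj (α' a)) * (β d * conj (β' d)) := by
      intro a d x
      simp only [lam, mt_bGL, map_mul]
      simp
      ring
    simp only [h1, Finset.sum_const, Finset.card_univ, nsmul_eq_mul]
    simp only [← Finset.mul_sum, ← Finset.sum_mul]
    rw [orth_mulChar, orth_mulChar]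
    by_cases h2 : α = α' <;> by_cases h3 : β = β' <;> simp [h2, h3]
    field_simp
  · rw [sum_bGL, hB]
    have h1 : ∀ (a d : Fˣ) (x : F), lam (MonoidHom.id (GL (Fin 2) F)) α β (bGL ((a, d), x)) *
        conj (extendByZero (B2 (MonoidHom.id (GL (Fin 2) F))) (lam (MonoidHom.id (GL (Fin 2) F)) α' β')
          ((SpecialLinearGroup.toGL (wSL F))⁻¹ * (bGL ((a, d), x)) * (SpecialLinearGroup.toGL (wSL F)))) =
        if x = 0 then (α a * conj (β' a)) * (β d * conj (α' d)) else 0 := by
      intro a d x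
      rw [(frameGL F).ext_conj_w]
      simp only [lam, mt_bGL, map_mul]
      by_cases hx : x = 0
      · simp [hx]
        ring
      · simp [hx]
    simp only [h1, Finset.sum_ite_eq', Finset.mem_univ, if_true]
    simp only [← Finset.mul_sum, ← Finset.sum_mul]
    rw [orth_mulChar, orth_mulChar]
    by_cases h2 : α = β' <;> by_cases h3 : β = α' <;> simp [h2, h3]
    field_simp

end gl

section sl
variable {F : Type*} [Field F]

/-- upper triangular elements of `SL₂`. -/
def bSLel (p : Fˣ × F) : SpecialLinearGroup (Fin 2) F :=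
  ⟨!![(p.1 : F), p.2; 0, ((p.1⁻¹ : Fˣ) : F)], by rw [Matrix.det_fin_two]; simp⟩

/-- elements of the Borel subgroup of `SL₂`. -/
noncomputable def bSL (p : Fˣ × F) : B2 (SpecialLinearGroup.toGL : SpecialLinearGroup (Fin 2) F →* GL (Fin 2) F) :=
  ⟨bSLel p, by
    rw [mem_B2]
    show !![(p.1 : F), p.2; 0, ((p.1⁻¹ : Fˣ) : F)] 1 0 = 0
    simp⟩

theorem mt_bSL (p : Fˣ × F) : mt SpecialLinearGroup.toGL (bSL p : SpecialLinearGroup (Fin 2) F) =
    !![(p.1 : F), p.2; 0, ((p.1⁻¹ : Fˣ) : F)] := rfl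

theorem bSL_bijective : Function.Bijective (bSL (F := F)) := by
  constructor
  · rintro ⟨a, x⟩ ⟨a', x'⟩ h
    have h1 := congrArg (fun b : B2 (SpecialLinearGroup.toGL : SpecialLinearGroup (Fin 2) F →* GL (Fin 2) F) =>
      mt SpecialLinearGroup.toGL (b : SpecialLinearGroup (Fin 2) F)) h
    simp only [mt_bSL] at h1
    have e1 := congrFun (congrFun h1 0) 0
    have e2 := congrFun (congrFun h1 0) 1
    simp at e1 e2
    rw [Units.ext e1, e2]
  · intro b
    obtain ⟨h1, h2⟩ := mt_diag_ne_zero b.2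
    refine ⟨(Units.mk0 _ h1, mt SpecialLinearGroup.toGL (b : SpecialLinearGroup (Fin 2) F) 0 1), ?_⟩
    apply Subtype.ext
    apply (frameSL F).ext
    have hb := b.2
    rw [mem_B2] at hb
    have hd : mt SpecialLinearGroup.toGL (b : SpecialLinearGroup (Fin 2) F) 0 0 *
        mt SpecialLinearGroup.toGL (b : SpecialLinearGroup (Fin 2) F) 1 1 = 1 := by
      have h3 : (mt SpecialLinearGroup.toGL (b : SpecialLinearGroup (Fin 2) F)).det = 1 := (b : SpecialLinearGroup (Fin 2) F).2
      rw [Matrix.det_fin_two, hb] at h3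
      linear_combination h3
    rw [mt_bSL]
    ext i j
    fin_cases i <;> fin_cases j
    · rfl
    · rfl
    · exact hb.symm
    · show (((Units.mk0 _ h1)⁻¹ : Fˣ) : F) = mt SpecialLinearGroup.toGL (b : SpecialLinearGroup (Fin 2) F) 1 1
      rw [Units.val_inv_eq_inv_val, Units.val_mk0]
      exact (eq_inv_of_mul_eq_one_right hd).symm

theorem lam_bSL (α : MulChar F ℂ) (a : Fˣ) (x : F) : lam SpecialLinearGroup.toGL α 1 (bSL (a, x)) = α a := by
  have h1 : (1 : MulChar F ℂ) ((a⁻¹ : Fˣ) : F) = 1 := MulChar.one_apply_coe _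
  show α (a : F) * (1 : MulChar F ℂ) ((a⁻¹ : Fˣ) : F) = α a
  rw [h1, mul_one]

theorem sum_bSL [Fintype F] [DecidableEq F]
    [Fintype (B2 (SpecialLinearGroup.toGL : SpecialLinearGroup (Fin 2) F →* GL (Fin 2) F))]
    (f : B2 (SpecialLinearGroup.toGL : SpecialLinearGroup (Fin 2) F →* GL (Fin 2) F) → ℂ) :
    ∑ b, f b = ∑ a : Fˣ, ∑ x : F, f (bSL (a, x)) := by
  rw [← Function.Bijective.sum_comp bSL_bijective f, Fintype.sum_prod_type]

theorem card_bSL [Fintype F] : Nat.card (B2 (SpecialLinearGroup.toGL : SpecialLinearGroup (Fin 2) F →* GL (Fin 2) F)) =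
    (Fintype.card F - 1) * Fintype.card F := by
  classical
  rw [← Nat.card_congr (Equiv.ofBijective _ bSL_bijective), Nat.card_prod, Nat.card_units,
    Nat.card_eq_fintype_card]

/-- Mackey for `SL₂`. -/
theorem classInner_prinSL [Fintype F] [DecidableEq F] [DecidableEq (MulChar F ℂ)] (α α' : MulChar F ℂ) :
    classInner (indFun (B2 (SpecialLinearGroup.toGL : SpecialLinearGroup (Fin 2) F →* GL (Fin 2) F)) (lam _ α 1))
      (indFun (B2 (SpecialLinearGroup.toGL : SpecialLinearGroup (Fin 2) F →* GL (Fin 2) F)) (lam _ α' 1)) =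
      (if α = α' then 1 else 0) + (if α * α' = 1 then 1 else 0) := by
  haveI : Fintype (B2 (SpecialLinearGroup.toGL : SpecialLinearGroup (Fin 2) F →* GL (Fin 2) F)) := Fintype.ofFinite _
  have hq : (1 : ℕ) < Fintype.card F := Fintype.one_lt_card
  have hq0 : (Fintype.card F : ℂ) ≠ 0 := by exact_mod_cast (by omega : Fintype.card F ≠ 0)
  have hq1 : (Fintype.card F : ℂ) - 1 ≠ 0 := by
    intro h
    have h1 : (Fintype.card F : ℂ) = 1 := by linear_combination h
    have h2 : Fintype.card F = 1 := by exact_mod_cast h1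
    omega
  have hB : (Nat.card (B2 (SpecialLinearGroup.toGL : SpecialLinearGroup (Fin 2) F →* GL (Fin 2) F)) : ℂ) =
      ((Fintype.card F : ℂ) - 1) * Fintype.card F := by
    rw [card_bSL]
    push_cast [Nat.cast_sub hq.le]
    ring
  rw [classInner_indFun _ _ _ (frameSL F).bij (frameSL F).u_mem _ _ (isClassFunction_lam _ _) (isClassFunction_lam _ _)]
  congr 1
  · rw [classInner, sum_bSL, hB]
    have h1 : ∀ (a : Fˣ) (x : F), lam SpecialLinearGroup.toGL α 1 (bSL (a, x)) *
        conj (lam SpecialLinearGroup.toGL α' 1 (bSL (a, x))) = (α a * conj (α' a)) := by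
      intro a x
      rw [lam_bSL, lam_bSL]
    simp only [h1, Finset.sum_const, Finset.card_univ, nsmul_eq_mul]
    simp only [← Finset.mul_sum]
    rw [orth_mulChar]
    by_cases h2 : α = α' <;> simp [h2]
    field_simp
  · rw [sum_bSL, hB]
    have h1 : ∀ (a : Fˣ) (x : F), lam SpecialLinearGroup.toGL α 1 (bSL (a, x)) *
        conj (extendByZero (B2 (SpecialLinearGroup.toGL : SpecialLinearGroup (Fin 2) F →* GL (Fin 2) F))
          (lam SpecialLinearGroup.toGL α' 1)
          ((wSL F)⁻¹ * (bSL (a, x)) * (wSL F))) =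
        if x = 0 then (α * α') a else 0 := by
      intro a x
      rw [(frameSL F).ext_conj_w, lam_bSL]
      have h01 : mt SpecialLinearGroup.toGL (bSL (a, x) : SpecialLinearGroup (Fin 2) F) 0 1 = x := rfl
      have h11 : mt SpecialLinearGroup.toGL (bSL (a, x) : SpecialLinearGroup (Fin 2) F) 1 1 = ((a⁻¹ : Fˣ) : F) := rfl
      have h00 : mt SpecialLinearGroup.toGL (bSL (a, x) : SpecialLinearGroup (Fin 2) F) 0 0 = (a : F) := rfl
      rw [h01, h11, h00, MulChar.one_apply_coe, mul_one]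
      have h3 : conj (α' ((a⁻¹ : Fˣ) : F)) = α' a := by
        have h4 : α' ((a⁻¹ : Fˣ) : F) = (α' a)⁻¹ := by
          apply eq_inv_of_mul_eq_one_left
          rw [← map_mul, ← Units.val_mul, inv_mul_cancel, Units.val_one, map_one]
        rw [h4, map_inv₀, conj_mulChar]
        apply inv_eq_of_mul_eq_one_left
        rw [← MulChar.mul_apply, mul_inv_cancel, MulChar.one_apply_coe]
      split_ifs
      · rw [h3, MulChar.mul_apply]
      · simp
    simp only [h1, Finset.sum_ite_eq', Finset.mem_univ, if_true]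
    rw [sum_mulChar]
    by_cases h2 : α * α' = 1 <;> simp [h2]
    field_simp

end sl

end Cfsg.Agent.H39
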