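import Cfsg.Agent.H62.PyrDef

/-!
# S3930, piece STA: no group is 2-transitive on its involutions (at least 3 of them)
-/

set_option autoImplicit false

namespace Cfsg.Agent.H39.PyrSta

open Cfsg.Agent.H62.Pyr

universe u

section Basic

variable {G : Type*} [Group G]

theorem comm_of {E : Subgroup G} (hE : ∀ x : G, x ∈ E ↔ x * x = 1) {x y : G} (hx : x ∈ E)
    (hy : y ∈ E) : x * y = y * x := by
  have h1 := (hE _).1 (E.mul_mem hx hy)
  have h2 := (hE x).1 hx
  have h3 := (hE y).1 hy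
  calc x * y = (x * y)⁻¹ := (eq_inv_of_mul_eq_one_left h1)
    _ = y⁻¹ * x⁻¹ := mul_inv_rev x y
    _ = y * x := by
      rw [inv_eq_of_mul_eq_one_left h2, inv_eq_of_mul_eq_one_left h3]

theorem eq_one_of_two {a : G} {n : ℕ} (hn : Odd n) (ha : orderOf a ∣ n) (h : a * a = 1) :
    a = 1 := by
  have h1 : orderOf a ∣ 2 := orderOf_dvd_of_pow_eq_one (by rw [pow_two, h])
  have h2 : orderOf a ∣ Nat.gcd 2 n := Nat.dvd_gcd h1 ha
  have h3 : Nat.gcd 2 n = 1 := (Nat.coprime_two_left).2 hn
  rw [h3, Nat.dvd_one] at h2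
  exact orderOf_eq_one_iff.1 h2

/-- an involution normalizing a subgroup of odd order centralizes it -/
theorem comm_odd {E : Subgroup G} [E.Normal] (hE : ∀ x : G, x ∈ E ↔ x * x = 1) (W : Subgroup G)
    (hW : Odd (Nat.card W)) {i : G} (hi : i ∈ E) (hn : ∀ w ∈ W, i * w * i⁻¹ ∈ W) :
    ∀ w ∈ W, i * w = w * i := by
  intro w hw
  have h1 : i * w * i⁻¹ * w⁻¹ ∈ W := W.mul_mem (hn w hw) (W.inv_mem hw)
  have h2 : i * (w * i⁻¹ * w⁻¹) ∈ E :=
    E.mul_mem hi (‹E.Normal›.conj_mem _ (E.inv_mem hi) w)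
  have h3 : i * (w * i⁻¹ * w⁻¹) = i * w * i⁻¹ * w⁻¹ := by group
  rw [h3] at h2
  have h4 := eq_one_of_two hW (Subgroup.orderOf_dvd_natCard _ h1) ((hE _).1 h2)
  calc i * w = (i * w * i⁻¹ * w⁻¹) * w * i := by group
    _ = w * i := by rw [h4, one_mul]

/-- the four-group generated by two commuting involutions -/
theorem four_le {E : Subgroup G} [Finite E] (hE : ∀ x ∈ E, x * x = 1) {a b : G} (ha : a ∈ E)
    (hb : b ∈ E) (ha1 : a ≠ 1) (hb1 : b ≠ 1) (hab : a ≠ b) : 4 ≤ Nat.card E := by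
  classical
  have ha2 := hE a ha
  have hb2 := hE b hb
  let f : Fin 4 → E := ![1, ⟨a, ha⟩, ⟨b, hb⟩, ⟨a * b, E.mul_mem ha hb⟩]
  have h1 : a * b ≠ 1 := by
    intro e
    apply hab
    rw [eq_inv_of_mul_eq_one_left e]
    exact inv_eq_of_mul_eq_one_left hb2
  have h2 : a * b ≠ a := fun e => hb1 (by simpa using e)
  have h3 : a * b ≠ b := fun e => ha1 (by simpa using e)
  have hf : Function.Injective f := by
    intro i j hij
    have hij' := congrArg (fun z : E => (z : G)) hij
    fin_cases i <;> fin_cases j <;> simp [f] at hij' ⊢ <;>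
      first
      | exact ha1 hij'
      | exact ha1 hij'.symm
      | exact hb1 hij'
      | exact hb1 hij'.symm
      | exact hab hij'
      | exact hab hij'.symm
      | exact h1 hij'
      | exact h1 hij'.symm
      | exact h2 hij'
      | exact h2 hij'.symm
      | exact h3 hij'
      | exact h3 hij'.symm
      | skip
  have := Nat.card_le_card_of_injective f hf
  simpa using this

theorem card_le_mul {X Y : Subgroup G} [Finite X] {A : Type*} [Finite A] (f : G → A)
    (hY : Y ≤ X) (hf : ∀ x ∈ X, ∀ y ∈ X, f x = f y → x⁻¹ * y ∈ Y) :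
    Nat.card X ≤ Nat.card A * Nat.card Y := by
  classical
  haveI : Finite Y := Finite.of_injective _ (Subgroup.inclusion_injective hY)
  have hrep : ∀ x : X, ∃ z : X, f z = f x ∧ ∀ x' : X, f x' = f x → True := fun x => ⟨x, rfl,
    fun _ _ => trivial⟩
  let rep : A → X := fun α => if h : ∃ z : X, f z = α then Classical.choose h else 1
  have hrep : ∀ x : X, f (rep (f x)) = f x := by
    intro x
    have h : ∃ z : X, f z = f x := ⟨x, rfl⟩
    simp only [rep, dif_pos h]
    exact Classical.choose_spec h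
  let g : X → A × Y := fun x =>
    (f x, ⟨((rep (f x) : X) : G)⁻¹ * x, hf _ (rep (f x)).2 _ x.2 (hrep x)⟩)
  have hg : Function.Injective g := by
    intro x y hxy
    have h1 : f x = f y := congrArg Prod.fst hxy
    have h2 := congrArg (fun p : A × Y => (p.2 : G)) hxy
    have h3 : ((rep (f x) : X) : G)⁻¹ * x = ((rep (f y) : X) : G)⁻¹ * y := h2
    rw [h1] at h3
    exact Subtype.ext (mul_left_cancel h3)
  have := Nat.card_le_card_of_injective g hg
  rwa [Nat.card_prod] at this

/-- if `x ^ n` and `x ^ 3` commute with `v` and `3 ∤ n` then `x` commutes with `v` -/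
theorem comm_of_pow {x v : G} {n : ℕ} (hn : ¬ 3 ∣ n) (h3 : Commute (x ^ 3) v)
    (h : Commute (x ^ n) v) : Commute x v := by
  obtain ⟨j, hj⟩ : ∃ j, n = 3 * j + 1 ∨ n = 3 * j + 2 := ⟨n / 3, by omega⟩
  have h4 : Commute ((x ^ 3) ^ j) v := h3.pow_left j
  rcases hj with rfl | rfl
  · have h5 : x = ((x ^ 3) ^ j)⁻¹ * x ^ (3 * j + 1) := by
      rw [pow_succ x (3 * j), pow_mul, inv_mul_cancel_left]
    rw [h5]
    exact h4.inv_left.mul_left h
  · have h5 : x = x ^ 3 * (((x ^ 3) ^ j)⁻¹ * x ^ (3 * j + 2))⁻¹ := by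
      rw [pow_add, pow_mul]; group
    rw [h5]
    exact h3.mul_left (h4.inv_left.mul_left h).inv_left

end Basic

variable {G : Type u} [Group G] [Finite G]

/-- (NW) -/
theorem nw {E : Subgroup G} [E.Normal] (hE : ∀ x : G, x ∈ E ↔ x * x = 1) (W : Subgroup G)
    (hW : Odd (Nat.card W)) (hC : ∀ e ∈ E, (∀ w ∈ W, e * w = w * e) → e = 1) :
    ¬ 2 ∣ Nat.card (Subgroup.normalizer (W : Set G)) := by
  intro h2
  haveI : Fact (Nat.Prime 2) := ⟨Nat.prime_two⟩
  obtain ⟨i, hi⟩ := exists_prime_orderOf_dvd_card' 2 h2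
  have hi2 : (i : G) * i = 1 := by
    have h1 : i ^ 2 = 1 := by rw [← hi]; exact pow_orderOf_eq_one i
    have h3 := congrArg (fun z : Subgroup.normalizer (W : Set G) => (z : G)) h1
    simpa [pow_two] using h3
  have hiE : (i : G) ∈ E := (hE _).2 hi2
  have h4 := hC i hiE (comm_odd hE W hW hiE fun w hw =>
    (Subgroup.mem_normalizer_iff.1 i.2 w).1 hw)
  have h5 : i = 1 := Subtype.ext h4
  rw [h5, orderOf_one] at hi
  omega

omit [Finite G] in
theorem mem_cases {E : Subgroup G} [Finite E] (hE : ∀ x : G, x ∈ E ↔ x * x = 1)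
    (h4 : Nat.card E = 4) {a b : G}
    (ha : a ∈ E) (hb : b ∈ E) (ha1 : a ≠ 1) (hb1 : b ≠ 1) (hab : a ≠ b) {v : G} (hv : v ∈ E) :
    v = 1 ∨ v = a ∨ v = b ∨ v = a * b := by
  classical
  by_contra hcon
  push Not at hcon
  obtain ⟨hv1, hva, hvb, hvab⟩ := hcon
  have ha2 := (hE a).1 ha
  have hb2 := (hE b).1 hb
  let f : Fin 5 → E := ![1, ⟨a, ha⟩, ⟨b, hb⟩, ⟨a * b, E.mul_mem ha hb⟩, ⟨v, hv⟩]
  have h1 : a * b ≠ 1 := by
    intro e
    apply hab
    rw [eq_inv_of_mul_eq_one_left e]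
    exact inv_eq_of_mul_eq_one_left hb2
  have h2 : a * b ≠ a := fun e => hb1 (by simpa using e)
  have h3 : a * b ≠ b := fun e => ha1 (by simpa using e)
  have hf : Function.Injective f := by
    intro i j hij
    have hij' := congrArg (fun z : E => (z : G)) hij
    fin_cases i <;> fin_cases j <;> simp [f] at hij' ⊢ <;>
      first
      | exact ha1 hij'
      | exact ha1 hij'.symm
      | exact hb1 hij'
      | exact hb1 hij'.symm
      | exact hab hij'
      | exact hab hij'.symm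
      | exact h1 hij'
      | exact h1 hij'.symm
      | exact h2 hij'
      | exact h2 hij'.symm
      | exact h3 hij'
      | exact h3 hij'.symm
      | exact hv1 hij'
      | exact hv1 hij'.symm
      | exact hva hij'
      | exact hva hij'.symm
      | exact hvb hij'
      | exact hvb hij'.symm
      | exact hvab hij'
      | exact hvab hij'.symm
      | skip
  have := Nat.card_le_card_of_injective f hf
  rw [h4] at this
  simp at this

/-- `|E| = 4` -/
theorem case4 (E : Subgroup G) [E.Normal] (hE : ∀ x : G, x ∈ E ↔ x * x = 1)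
    (h4 : Nat.card E = 4) (h2 : TwoTr E) : False := by
  classical
  haveI : Fact (Nat.Prime 3) := ⟨Nat.prime_three⟩
  haveI : Fintype E := Fintype.ofFinite E
  -- elements `a ≠ b`
  obtain ⟨a, ha, ha1⟩ : ∃ a ∈ E, a ≠ 1 := by
    by_contra hcon
    push Not at hcon
    rw [(Subgroup.eq_bot_iff_forall _).2 hcon, Subgroup.card_bot] at h4
    omega
  obtain ⟨b, hb, hb1, hab⟩ : ∃ b ∈ E, b ≠ 1 ∧ a ≠ b := by
    by_contra hcon
    push Not at hcon
    have h5 : Nat.card E ≤ 2 := by
      have h6 : E ≤ Subgroup.zpowers a := by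
        intro x hx
        by_cases hx1 : x = 1
        · rw [hx1]; exact Subgroup.one_mem _
        · rw [← hcon x hx hx1]; exact Subgroup.mem_zpowers a
      refine (Subgroup.card_le_of_le h6).trans ?_
      rw [Nat.card_zpowers]
      exact Nat.le_of_dvd two_pos (orderOf_dvd_of_pow_eq_one (by rw [pow_two]; exact (hE a).1 ha))
    omega
  have hab' := comm_of hE ha hb
  have ha2 := (hE a).1 ha
  have hb2 := (hE b).1 hb
  have hc1 : a * b ≠ 1 := by
    intro e
    apply hab
    rw [eq_inv_of_mul_eq_one_left e]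
    exact inv_eq_of_mul_eq_one_left hb2
  have hca : a * b ≠ a := fun e => hb1 (by simpa using e)
  have hcb : a * b ≠ b := fun e => ha1 (by simpa using e)
  have hcE := E.mul_mem ha hb
  have hcases : ∀ v ∈ E, v = 1 ∨ v = a ∨ v = b ∨ v = a * b := fun v hv =>
    mem_cases hE h4 ha hb ha1 hb1 hab hv
  -- the swap and the rotation
  obtain ⟨y, hy1, hy2⟩ := h2 a ha b hb b hb a ha ha1 hb1 hab hb1 ha1 hab.symm
  obtain ⟨r, hr1, hr2⟩ := h2 a ha b hb b hb (a * b) hcE ha1 hb1 hab hb1 hc1 hcb.symm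
  have hr3 : r * (a * b) * r⁻¹ = a := by
    calc r * (a * b) * r⁻¹ = (r * a * r⁻¹) * (r * b * r⁻¹) := by group
      _ = b * (a * b) := by rw [hr1, hr2]
      _ = b * (b * a) := by rw [hab']
      _ = a := by rw [← mul_assoc, hb2, one_mul]
  have hy3 : y * (a * b) * y⁻¹ = a * b := by
    calc y * (a * b) * y⁻¹ = (y * a * y⁻¹) * (y * b * y⁻¹) := by group
      _ = a * b := by rw [hy1, hy2, hab']
  have hrcomm : ∀ v ∈ E, Commute (r ^ 3) v := by
    have key : ∀ v, r ^ 3 * v * (r ^ 3)⁻¹ = v → Commute (r ^ 3) v := by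
      intro v hv
      change r ^ 3 * v = v * r ^ 3
      calc r ^ 3 * v = (r ^ 3 * v * (r ^ 3)⁻¹) * r ^ 3 := by group
        _ = v * r ^ 3 := by rw [hv]
    have h6 : ∀ v, r ^ 3 * v * (r ^ 3)⁻¹ = r * (r * (r * v * r⁻¹) * r⁻¹) * r⁻¹ := by
      intro v
      rw [pow_succ, pow_two]; group
    intro v hv
    apply key
    rw [h6]
    rcases hcases v hv with rfl | rfl | rfl | rfl
    · group
    · rw [hr1, hr2, hr3]
    · rw [hr2, hr3, hr1]
    · rw [hr3, hr1, hr2]
  have hrne : ∀ v ∈ E, v ≠ 1 → ¬ Commute r v := by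
    have h6 : ∀ v, Commute r v → r * v * r⁻¹ = v := by
      intro v hv
      rw [hv.eq]; group
    intro v hv hv1 hc
    have h7 := h6 v hc
    rcases hcases v hv with rfl | rfl | rfl | rfl
    · exact hv1 rfl
    · rw [hr1] at h7; exact hab h7.symm
    · rw [hr2] at h7; exact hcb h7
    · rw [hr3] at h7; exact hca h7.symm
  -- the 3-part of `r`
  obtain ⟨k, m, hm, hkm⟩ := Nat.exists_eq_pow_mul_and_not_dvd (orderOf_pos r).ne' 3 (by norm_num)
  -- the even subgroup
  let φ : G →* Equiv.Perm E := (MulAut.toPerm E).comp MulAut.conjNormal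
  have hφ : ∀ (g : G) (v : E), ((φ g v : E) : G) = g * v * g⁻¹ := fun g v => by
    change ((MulAut.conjNormal g v : E) : G) = _
    rw [MulAut.conjNormal_apply]
  let sg : G →* ℤˣ := Equiv.Perm.sign.comp φ
  have hsy : sg y = -1 := by
    have h8 : φ y = Equiv.swap (⟨a, ha⟩ : E) ⟨b, hb⟩ := by
      ext v
      rw [hφ]
      rcases hcases v v.2 with h | h | h | h
      · have h9 : v = 1 := Subtype.ext h
        rw [Equiv.swap_apply_of_ne_of_ne]
        · rw [h]; group
        · intro e; rw [h9] at e; exact ha1 (congrArg Subtype.val e).symm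
        · intro e; rw [h9] at e; exact hb1 (congrArg Subtype.val e).symm
      · have h9 : v = ⟨a, ha⟩ := Subtype.ext h
        rw [h9, Equiv.swap_apply_left]; exact hy1
      · have h9 : v = ⟨b, hb⟩ := Subtype.ext h
        rw [h9, Equiv.swap_apply_right]; exact hy2
      · rw [Equiv.swap_apply_of_ne_of_ne]
        · rw [h]; exact hy3
        · intro e; exact hca (h.symm.trans (congrArg Subtype.val e))
        · intro e; exact hcb (h.symm.trans (congrArg Subtype.val e))
    change Equiv.Perm.sign (φ y) = -1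
    rw [h8, Equiv.Perm.sign_swap]
    intro e
    exact hab (congrArg Subtype.val e)
  have hsr : sg (r ^ m) = 1 := by
    have h8 : (sg (r ^ m)) ^ (3 ^ k) = 1 := by
      rw [← map_pow, ← pow_mul, mul_comm, ← hkm, pow_orderOf_eq_one, map_one]
    rcases Int.units_eq_one_or (sg (r ^ m)) with h | h
    · exact h
    · rw [h, Odd.neg_one_pow (Odd.pow (by decide))] at h8
      exact absurd h8 (by decide)
  have hrK : r ^ m ∈ sg.ker := hsr
  -- a Sylow 3-subgroup of the kernel containing the 3-part of `r`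
  have hZ : IsPGroup 3 (Subgroup.zpowers (⟨r ^ m, hrK⟩ : sg.ker)) := by
    rintro ⟨g, hg⟩
    refine ⟨k, Subtype.ext ?_⟩
    obtain ⟨n, rfl⟩ := Subgroup.mem_zpowers_iff.1 hg
    have h8 : (⟨r ^ m, hrK⟩ : sg.ker) ^ (3 ^ k) = 1 := by
      apply Subtype.ext
      change (r ^ m) ^ (3 ^ k) = 1
      rw [← pow_mul, mul_comm, ← hkm, pow_orderOf_eq_one]
    change ((⟨r ^ m, hrK⟩ : sg.ker) ^ n) ^ (3 ^ k) = 1
    rw [← zpow_natCast, ← zpow_mul, mul_comm, zpow_mul, zpow_natCast, h8, one_zpow]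
  obtain ⟨R, hR⟩ := hZ.exists_le_sylow
  set RG : Subgroup G := (R : Subgroup sg.ker).map sg.ker.subtype with hRG
  have hRGp : IsPGroup 3 RG := R.isPGroup'.map _
  have hrRG : r ^ m ∈ RG := ⟨⟨r ^ m, hrK⟩, hR (Subgroup.mem_zpowers _), rfl⟩
  have hRodd : Odd (Nat.card RG) := by
    obtain ⟨j, hj⟩ := IsPGroup.iff_card.1 hRGp
    rw [hj]; exact Odd.pow (by decide)
  refine nw hE RG hRodd ?_ ?_
  · intro e he hce
    by_contra he1
    exact hrne e he he1 (comm_of_pow hm (hrcomm e he) (hce _ hrRG).symm)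
  · have h8 : y ∈ Subgroup.normalizer (RG : Set G) ⊔ sg.ker := by
      rw [hRG, Sylow.normalizer_sup_eq_top R]; exact Subgroup.mem_top _
    rw [Subgroup.mem_sup_of_normal_right] at h8
    obtain ⟨n, hn, w, hw, hnw⟩ := h8
    have h9 : sg n = -1 := by
      rw [← hsy, ← hnw, map_mul, MonoidHom.mem_ker.1 hw, mul_one]
    refine dvd_trans ?_ (Subgroup.orderOf_dvd_natCard _ hn)
    by_contra h10
    have h11 : Odd (orderOf n) := Nat.odd_iff.2 (by omega)
    have h12 : (sg n) ^ (orderOf n) = 1 := by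
      rw [← map_pow, pow_orderOf_eq_one, map_one]
    rw [h9, h11.neg_one_pow] at h12
    exact absurd h12 (by decide)

end Cfsg.Agent.H39.PyrSta
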