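import Cfsg.Agent.H39.PyrSta

/-!
# S3930, piece STA: conclusion
-/

set_option autoImplicit false

namespace Cfsg.Agent.H39.PyrSta

open Cfsg.Agent.H62.Pyr
open scoped Pointwise

universe u

variable {G : Type u} [Group G] [Finite G]

/-- a power of prime power order not commuting with `c` -/
theorem exists_prime_part {x c : G} (hc : ¬ Commute x c) :
    ∃ (r k j : ℕ), r.Prime ∧ orderOf (x ^ j) = r ^ k ∧ ¬ Commute (x ^ j) c := by
  classical
  have hex : ∃ n : ℕ, ∃ j : ℕ, orderOf (x ^ j) = n ∧ ¬ Commute (x ^ j) c :=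
    ⟨_, 1, rfl, by rwa [pow_one]⟩
  obtain ⟨j, hj, hjc⟩ := Nat.find_spec hex
  have hmin : ∀ i : ℕ, orderOf (x ^ i) < Nat.find hex → Commute (x ^ i) c := by
    intro i hi
    by_contra hcon
    exact Nat.find_min hex hi ⟨i, rfl, hcon⟩
  set n := Nat.find hex with hn
  have hn0 : 0 < n := by rw [← hj]; exact orderOf_pos _
  have hn1 : n ≠ 1 := by
    intro e
    rw [e, orderOf_eq_one_iff] at hj
    rw [hj] at hjc
    exact hjc (Commute.one_left c)
  have hdiv : ∀ s : ℕ, s.Prime → s ∣ n → Commute ((x ^ j) ^ s) c := by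
    intro s hs hsn
    rw [← pow_mul]
    apply hmin
    rw [pow_mul, orderOf_pow, hj, Nat.gcd_eq_right hsn]
    exact Nat.div_lt_self hn0 hs.one_lt
  obtain ⟨r, hr, hrn⟩ := Nat.exists_prime_and_dvd hn1
  refine ⟨r, _, j, hr, hj.trans (Nat.eq_prime_pow_of_unique_prime_dvd hn0.ne' ?_), hjc⟩
  intro s hs hsn
  by_contra hsr
  have h1 := hdiv r hr hrn
  have h2 := hdiv s hs hsn
  apply hjc
  have hcop : Nat.gcd r s = 1 := (Nat.coprime_primes hr hs).2 (Ne.symm hsr)
  have h3 : x ^ j = ((x ^ j) ^ r) ^ (Nat.gcdA r s) * ((x ^ j) ^ s) ^ (Nat.gcdB r s) := by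
    have h4 := Nat.gcd_eq_gcd_ab r s
    rw [hcop] at h4
    conv_lhs => rw [← zpow_one (x ^ j)]
    rw [← zpow_natCast (x ^ j) r, ← zpow_natCast (x ^ j) s, ← zpow_mul, ← zpow_mul, ← zpow_add,
      ← h4]
    rfl
  rw [h3]
  exact (h1.zpow_left _).mul_left (h2.zpow_left _)

/-- Witt's argument: odd elements fixing two involutions centralize `E` -/
theorem hR_of_ind (E : Subgroup G) [E.Normal] (hE : ∀ x : G, x ∈ E ↔ x * x = 1) (h2 : TwoTr E)
    (IH : ∀ {G' : Type u} [Group G'] [Finite G'] (E' : Subgroup G') [E'.Normal],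
      (∀ x : G', x ∈ E' ↔ x * x = 1) → 4 ≤ Nat.card E' → Nat.card E' < Nat.card E →
      TwoTr E' → False) :
    ∀ x : G, Odd (orderOf x) → (∃ a ∈ E, ∃ b ∈ E, a ≠ 1 ∧ b ≠ 1 ∧ a ≠ b ∧ x * a = a * x ∧
      x * b = b * x) → ∀ c ∈ E, x * c = c * x := by
  classical
  rintro x hx ⟨a, ha, b, hb, ha1, hb1, hab, hxa, hxb⟩ c hc
  by_contra hxc
  obtain ⟨r, k, j, hr, hord, hnc⟩ := exists_prime_part (x := x) (c := c) hxc
  haveI : Fact r.Prime := ⟨hr⟩
  have hrodd : Odd r := by
    rcases Nat.eq_zero_or_pos k with rfl | hk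
    · rw [pow_zero, orderOf_eq_one_iff] at hord
      rw [hord] at hnc
      exact absurd (Commute.one_left c) hnc
    · have h3 : r ∣ orderOf x := by
        refine dvd_trans ?_ (orderOf_pow_dvd (x := x) j)
        rw [hord]
        exact dvd_pow_self r hk.ne'
      exact Odd.of_dvd_nat hx h3
  -- the stabilizer of `a`, `b`
  set H : Subgroup G := Subgroup.centralizer {a} ⊓ Subgroup.centralizer {b} with hH
  have hmemH : ∀ g : G, g ∈ H ↔ g * a = a * g ∧ g * b = b * g := by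
    intro g
    rw [hH, Subgroup.mem_inf, Subgroup.mem_centralizer_singleton_iff,
      Subgroup.mem_centralizer_singleton_iff]
  have hxH : x ^ j ∈ H := H.pow_mem ((hmemH x).2 ⟨hxa, hxb⟩) j
  have hZ : IsPGroup r (Subgroup.zpowers (⟨x ^ j, hxH⟩ : H)) := by
    rintro ⟨g, hg⟩
    refine ⟨k, Subtype.ext ?_⟩
    obtain ⟨n, rfl⟩ := Subgroup.mem_zpowers_iff.1 hg
    have h8 : (⟨x ^ j, hxH⟩ : H) ^ (r ^ k) = 1 := by
      apply Subtype.ext
      change (x ^ j) ^ (r ^ k) = 1
      rw [← hord, pow_orderOf_eq_one]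
    change ((⟨x ^ j, hxH⟩ : H) ^ n) ^ (r ^ k) = 1
    rw [← zpow_natCast, ← zpow_mul, mul_comm, zpow_mul, zpow_natCast, h8, one_zpow]
  obtain ⟨W0, hW0⟩ := hZ.exists_le_sylow
  set W : Subgroup G := (W0 : Subgroup H).map H.subtype with hW
  have hWp : IsPGroup r W := W0.isPGroup'.map _
  have hxW : x ^ j ∈ W := ⟨⟨x ^ j, hxH⟩, hW0 (Subgroup.mem_zpowers _), rfl⟩
  have hWodd : Odd (Nat.card W) := by
    obtain ⟨i, hi⟩ := IsPGroup.iff_card.1 hWp
    rw [hi]; exact hrodd.pow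
  have hWH : W ≤ H := Subgroup.map_subtype_le _
  have hcardW : Nat.card W = Nat.card W0 :=
    Subgroup.card_map_of_injective H.subtype_injective
  -- Witt
  have witt : ∀ c ∈ E, ∀ d ∈ E, c ≠ 1 → d ≠ 1 → c ≠ d → (∀ w ∈ W, w * c = c * w) →
      (∀ w ∈ W, w * d = d * w) → ∃ n ∈ Subgroup.normalizer (W : Set G),
      n * a * n⁻¹ = c ∧ n * b * n⁻¹ = d := by
    intro c hc d hd hc1 hd1 hcd hWc hWd
    obtain ⟨g, hg1, hg2⟩ := h2 a ha b hb c hc d hd ha1 hb1 hab hc1 hd1 hcd
    -- `g⁻¹ W g ≤ H`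
    have hWg : ∀ w ∈ W, g⁻¹ * w * g ∈ H := by
      intro w hw
      rw [hmemH]
      have h3 := hWc w hw
      have h4 := hWd w hw
      rw [← hg1] at h3
      rw [← hg2] at h4
      constructor
      · calc g⁻¹ * w * g * a = g⁻¹ * (w * (g * a * g⁻¹)) * g := by group
          _ = g⁻¹ * ((g * a * g⁻¹) * w) * g := by rw [h3]
          _ = a * (g⁻¹ * w * g) := by group
      · calc g⁻¹ * w * g * b = g⁻¹ * (w * (g * b * g⁻¹)) * g := by group
          _ = g⁻¹ * ((g * b * g⁻¹) * w) * g := by rw [h4]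
          _ = b * (g⁻¹ * w * g) := by group
    set Wg : Subgroup G := W.map (MulAut.conj g⁻¹).toMonoidHom with hWgd
    have hWgH : Wg ≤ H := by
      rintro _ ⟨w, hw, rfl⟩
      have := hWg w hw
      simpa using this
    have hcardWg : Nat.card (Wg.subgroupOf H) = r ^ (Nat.card H).factorization r := by
      rw [Nat.card_congr (Subgroup.subgroupOfEquivOfLe hWgH).toEquiv, hWgd,
        Subgroup.card_map_of_injective (MulAut.conj g⁻¹).injective, hcardW]
      exact W0.card_eq_multiplicity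
    obtain ⟨h, hh⟩ := MulAction.exists_smul_eq H W0 (Sylow.ofCard (Wg.subgroupOf H) hcardWg)
    have h5 : ∀ w ∈ W, (h : G) * w * (h : G)⁻¹ ∈ Wg := by
      rintro _ ⟨w, hw, rfl⟩
      have h6 : h * w * h⁻¹ ∈ (Sylow.ofCard (Wg.subgroupOf H) hcardWg : Subgroup H) := by
        rw [← hh]
        change MulAut.conj h • w ∈ MulAut.conj h • (W0 : Subgroup H)
        exact Subgroup.smul_mem_pointwise_smul w (MulAut.conj h) _ hw
      have h7 : h * w * h⁻¹ ∈ Wg.subgroupOf H := h6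
      rw [Subgroup.mem_subgroupOf] at h7
      simpa using h7
    refine ⟨g * h, ?_, ?_, ?_⟩
    · haveI : Finite ((W : Set G)) := inferInstanceAs (Finite W)
      refine Subgroup.mem_normalizer_fintype (S := (W : Set G)) ?_
      intro w hw
      obtain ⟨w', hw', h8⟩ := h5 w hw
      have h9 : g⁻¹ * w' * g = (h : G) * w * (h : G)⁻¹ := by simpa using h8
      have h10 : g * h * w * (g * h)⁻¹ = w' := by
        calc g * h * w * (g * h)⁻¹ = g * ((h : G) * w * (h : G)⁻¹) * g⁻¹ := by group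
          _ = g * (g⁻¹ * w' * g) * g⁻¹ := by rw [h9]
          _ = w' := by group
      rw [h10]; exact hw'
    · have h8 := ((hmemH h).1 h.2).1
      calc g * h * a * (g * h)⁻¹ = g * ((h : G) * a) * (h : G)⁻¹ * g⁻¹ := by group
        _ = g * (a * h) * (h : G)⁻¹ * g⁻¹ := by rw [h8]
        _ = g * a * g⁻¹ := by group
        _ = c := hg1
    · have h8 := ((hmemH h).1 h.2).2
      calc g * h * b * (g * h)⁻¹ = g * ((h : G) * b) * (h : G)⁻¹ * g⁻¹ := by group
        _ = g * (b * h) * (h : G)⁻¹ * g⁻¹ := by rw [h8]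
        _ = g * b * g⁻¹ := by group
        _ = d := hg2
  -- the smaller situation
  set N : Subgroup G := Subgroup.normalizer (W : Set G) with hN
  set D : Subgroup G := E ⊓ Subgroup.centralizer (W : Set G) with hD
  have hmemD : ∀ g : G, g ∈ D ↔ g ∈ E ∧ ∀ w ∈ W, w * g = g * w := by
    intro g
    rw [hD, Subgroup.mem_inf, Subgroup.mem_centralizer_iff]
    exact Iff.rfl
  have hDN : D ≤ N := by
    intro g hg
    rw [hN, Subgroup.mem_normalizer_iff]
    have h3 := ((hmemD g).1 hg).2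
    intro w
    constructor
    · intro hw
      rw [← h3 w hw]
      simpa using hw
    · intro hw
      have h4 := h3 _ hw
      have h5 : g * w * g⁻¹ = w := by
        have h6 : g⁻¹ * (g * w * g⁻¹) * g = g * w * g⁻¹ := by
          calc g⁻¹ * (g * w * g⁻¹) * g = g⁻¹ * ((g * w * g⁻¹) * g) := by group
            _ = g⁻¹ * (g * (g * w * g⁻¹)) := by rw [h4]
            _ = g * w * g⁻¹ := by group
        rw [← h6]; group
      rwa [h5] at hw
  set D' : Subgroup N := D.subgroupOf N with hD'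
  have hcardD : Nat.card D' = Nat.card D :=
    Nat.card_congr (Subgroup.subgroupOfEquivOfLe hDN).toEquiv
  haveI hD'n : D'.Normal := ⟨fun e he n => by
    rw [hD', Subgroup.mem_subgroupOf, hmemD] at he ⊢
    refine ⟨‹E.Normal›.conj_mem _ he.1 n, fun w hw => ?_⟩
    have h3 : (n : G)⁻¹ * w * n ∈ W := by
      have := (Subgroup.mem_normalizer_iff.1 (N.inv_mem n.2) w).1 hw
      simpa using this
    have h4 := he.2 _ h3
    simp only [Subgroup.coe_mul, Subgroup.coe_inv]
    calc w * ((n : G) * e * (n : G)⁻¹) = n * (((n : G)⁻¹ * w * n) * e) * (n : G)⁻¹ := by group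
      _ = n * (e * ((n : G)⁻¹ * w * n)) * (n : G)⁻¹ := by rw [h4]
      _ = (n : G) * e * (n : G)⁻¹ * w := by group⟩
  have haW : ∀ w ∈ W, w * a = a * w := fun w hw => ((hmemH w).1 (hWH hw)).1
  have hbW : ∀ w ∈ W, w * b = b * w := fun w hw => ((hmemH w).1 (hWH hw)).2
  have haD : a ∈ D := (hmemD a).2 ⟨ha, haW⟩
  have hbD : b ∈ D := (hmemD b).2 ⟨hb, hbW⟩
  refine IH D' ?_ ?_ ?_ ?_
  · intro n
    rw [hD', Subgroup.mem_subgroupOf, hmemD]
    constructor
    · rintro ⟨h3, -⟩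
      exact Subtype.ext ((hE _).1 h3)
    · intro h3
      have h4 : (n : G) * n = 1 := congrArg Subtype.val h3
      have h5 := (hE _).2 h4
      exact ⟨h5, fun w hw => (comm_odd hE W hWodd h5
        (fun w hw => (Subgroup.mem_normalizer_iff.1 n.2 w).1 hw) w hw).symm⟩
  · rw [hcardD]
    exact four_le (fun x hx => (hE x).1 hx.1) haD hbD ha1 hb1 hab
  · rw [hcardD]
    by_contra hcon
    have h3 : D = E := Subgroup.eq_of_le_of_card_ge inf_le_left (not_lt.1 hcon)
    have h4 : c ∈ D := by rw [h3]; exact hc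
    exact hnc (((hmemD c).1 h4).2 _ hxW)
  · intro c hc d hd c' hc' d' hd' hc1 hd1 hcd hc'1 hd'1 hcd'
    rw [hD', Subgroup.mem_subgroupOf, hmemD] at hc hd hc' hd'
    obtain ⟨n, hn, h3, h4⟩ := witt c hc.1 d hd.1 (fun e => hc1 (Subtype.ext e))
      (fun e => hd1 (Subtype.ext e)) (fun e => hcd (Subtype.ext e)) hc.2 hd.2
    obtain ⟨n', hn', h5, h6⟩ := witt c' hc'.1 d' hd'.1 (fun e => hc'1 (Subtype.ext e))
      (fun e => hd'1 (Subtype.ext e)) (fun e => hcd' (Subtype.ext e)) hc'.2 hd'.2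
    refine ⟨⟨n', hn'⟩ * ⟨n, hn⟩⁻¹, Subtype.ext ?_, Subtype.ext ?_⟩
    · change (n' * n⁻¹) * (c : G) * (n' * n⁻¹)⁻¹ = c'
      rw [← h3, ← h5]; group
    · change (n' * n⁻¹) * (d : G) * (n' * n⁻¹)⁻¹ = d'
      rw [← h4, ← h6]; group

/-- [STA] from [RES] -/
theorem star_of
    (RES : ∀ {G : Type u} [Group G] [Finite G] (E : Subgroup G) [E.Normal],
      (∀ x : G, x ∈ E ↔ x * x = 1) → 8 ≤ Nat.card E → TwoTr E →
      (∀ x : G, Odd (orderOf x) → (∃ a ∈ E, ∃ b ∈ E, a ≠ 1 ∧ b ≠ 1 ∧ a ≠ b ∧ x * a = a * x ∧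
        x * b = b * x) → ∀ c ∈ E, x * c = c * x) →
      ∃ e ∈ E, e ≠ 1 ∧ ∃ t : G, (∀ v ∈ E, t * v * t⁻¹ = v ∨ t * v * t⁻¹ = v * e) ∧
        ∃ v ∈ E, t * v * t⁻¹ ≠ v)
    (M3 : ∀ {G : Type u} [Group G] [Finite G] (E : Subgroup G) [E.Normal],
      (∀ x : G, x ∈ E ↔ x * x = 1) → Nat.card E = 8 → TwoTr E → False)
    {G : Type u} [Group G] [Finite G] (E : Subgroup G) [E.Normal]
    (hE : ∀ x : G, x ∈ E ↔ x * x = 1) (h4 : 4 ≤ Nat.card E) (h2 : TwoTr E) : False := by
  classical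
  -- induction on `|E|`
  suffices key : ∀ n : ℕ, ∀ {G : Type u} [Group G] [Finite G] (E : Subgroup G) [E.Normal],
      (∀ x : G, x ∈ E ↔ x * x = 1) → 4 ≤ Nat.card E → Nat.card E = n → TwoTr E → False from
    key _ E hE h4 rfl h2
  intro n
  induction n using Nat.strong_induction_on with
  | _ n ih =>
  intro G _ _ E _ hE h4 hn h2
  have hR := hR_of_ind E hE h2 (fun E' _ hE' h4' hlt h2' => by
    exact ih _ (hn ▸ hlt) E' hE' h4' rfl h2')
  -- `|E|` is a power of 2
  haveI : Fact (Nat.Prime 2) := ⟨Nat.prime_two⟩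
  have hEp : IsPGroup 2 E := by
    intro x
    exact ⟨1, Subtype.ext (by
      change ((x : G)) ^ (2 ^ 1) = 1
      rw [pow_one, pow_two]; exact (hE _).1 x.2)⟩
  obtain ⟨k, hk⟩ := IsPGroup.iff_card.1 hEp
  by_cases h44 : Nat.card E = 4
  · exact case4 E hE h44 h2
  by_cases h48 : Nat.card E = 8
  · exact M3 E hE h48 h2
  have h16 : 16 ≤ Nat.card E := by
    rw [hk] at h4 h44 h48 ⊢
    have hk4 : 4 ≤ k := by
      by_contra hcon
      have : k < 4 := not_le.1 hcon
      interval_cases k <;> simp at h4 h44 h48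
    calc 16 = 2 ^ 4 := by norm_num
      _ ≤ 2 ^ k := Nat.pow_le_pow_right (by norm_num) hk4
  obtain ⟨e, he, he1, t, ht, v0, hv0, htv0⟩ := RES E hE (by omega) h2 hR
  have hcomm : ∀ x ∈ E, ∀ y ∈ E, x * y = y * x := fun x hx y hy => comm_of hE hx hy
  have he2 := (hE e).1 he
  have hv2 := (hE v0).1 hv0
  have htv : t * v0 * t⁻¹ = v0 * e := (ht v0 hv0).resolve_left htv0
  have hte : t * e * t⁻¹ = e := by
    rcases ht e he with h | h
    · exact h
    · exfalso
      rw [he2] at h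
      apply he1
      calc e = t⁻¹ * (t * e * t⁻¹) * t := by group
        _ = 1 := by rw [h]; group
  have hv01 : v0 ≠ 1 := by
    rintro rfl
    exact htv0 (by group)
  have hv0e : v0 ≠ e := by
    rintro rfl
    exact htv0 hte
  obtain ⟨y, hy1, hy2⟩ := h2 v0 hv0 e he e he v0 hv0 hv01 he1 hv0e he1 hv01 hv0e.symm
  have hy1' : y⁻¹ * e * y = v0 := by rw [← hy1]; group
  have hy2' : y⁻¹ * v0 * y = e := by rw [← hy2]; group
  set t' : G := y * t * y⁻¹ with ht'
  have ht'v : ∀ v ∈ E, t' * v * t'⁻¹ = v ∨ t' * v * t'⁻¹ = v * v0 := by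
    intro v hv
    have h3 : y⁻¹ * v * y ∈ E := by
      have := ‹E.Normal›.conj_mem v hv y⁻¹
      simpa using this
    have h5 : t' * v * t'⁻¹ = y * (t * (y⁻¹ * v * y) * t⁻¹) * y⁻¹ := by rw [ht']; group
    rcases ht _ h3 with h | h
    · left
      rw [h5, h]; group
    · right
      rw [h5, h]
      calc y * (y⁻¹ * v * y * e) * y⁻¹ = v * (y * e * y⁻¹) := by group
        _ = v * v0 := by rw [hy2]
  have ht'e : t' * e * t'⁻¹ = e * v0 := by
    have h5 : t' * e * t'⁻¹ = y * (t * (y⁻¹ * e * y) * t⁻¹) * y⁻¹ := by rw [ht']; group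
    rw [h5, hy1', htv]
    calc y * (v0 * e) * y⁻¹ = (y * v0 * y⁻¹) * (y * e * y⁻¹) := by group
      _ = e * v0 := by rw [hy1, hy2]
  have ht'v0 : t' * v0 * t'⁻¹ = v0 := by
    have h5 : t' * v0 * t'⁻¹ = y * (t * (y⁻¹ * v0 * y) * t⁻¹) * y⁻¹ := by rw [ht']; group
    rw [h5, hy2', hte, hy2]
  -- the product
  set x : G := t * t' with hx
  have hxe : x * e * x⁻¹ = v0 := by
    calc x * e * x⁻¹ = t * (t' * e * t'⁻¹) * t⁻¹ := by rw [hx]; group
      _ = t * (e * v0) * t⁻¹ := by rw [ht'e]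
      _ = (t * e * t⁻¹) * (t * v0 * t⁻¹) := by group
      _ = e * (v0 * e) := by rw [hte, htv]
      _ = e * (e * v0) := by rw [hcomm v0 hv0 e he]
      _ = v0 := by rw [← mul_assoc, he2, one_mul]
  have hxv : x * v0 * x⁻¹ = v0 * e := by
    calc x * v0 * x⁻¹ = t * (t' * v0 * t'⁻¹) * t⁻¹ := by rw [hx]; group
      _ = v0 * e := by rw [ht'v0, htv]
  have hx3e : Commute (x ^ 3) e := by
    change x ^ 3 * e = e * x ^ 3
    have h5 : x ^ 3 * e * (x ^ 3)⁻¹ = e := by
      calc x ^ 3 * e * (x ^ 3)⁻¹ = x * (x * (x * e * x⁻¹) * x⁻¹) * x⁻¹ := by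
            rw [pow_succ, pow_two]; group
        _ = x * (v0 * e) * x⁻¹ := by rw [hxe, hxv]
        _ = (x * v0 * x⁻¹) * (x * e * x⁻¹) := by group
        _ = v0 * e * v0 := by rw [hxv, hxe]
        _ = e := by rw [mul_assoc, hcomm e he v0 hv0, ← mul_assoc, hv2, one_mul]
    calc x ^ 3 * e = (x ^ 3 * e * (x ^ 3)⁻¹) * x ^ 3 := by group
      _ = e * x ^ 3 := by rw [h5]
  obtain ⟨l, m, hm, hlm⟩ := Nat.exists_eq_pow_mul_and_not_dvd (orderOf_pos x).ne' 2 (by norm_num)
  have hmodd : Odd m := Nat.odd_iff.2 (by omega)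
  have hxodd : Odd (orderOf (x ^ (2 ^ l))) := by
    refine Odd.of_dvd_nat hmodd (orderOf_dvd_of_pow_eq_one ?_)
    rw [← pow_mul, ← hlm, pow_orderOf_eq_one]
  -- two fixed elements
  have hfix : ∃ a ∈ E, ∃ b ∈ E, a ≠ 1 ∧ b ≠ 1 ∧ a ≠ b ∧ x ^ (2 ^ l) * a = a * x ^ (2 ^ l) ∧
      x ^ (2 ^ l) * b = b * x ^ (2 ^ l) := by
    set J : Subgroup G := E ⊓ (Subgroup.centralizer {t} ⊓ Subgroup.centralizer {t'}) with hJ
    have hmemJ : ∀ g : G, g ∈ J ↔ g ∈ E ∧ g * t = t * g ∧ g * t' = t' * g := by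
      intro g
      rw [hJ, Subgroup.mem_inf, Subgroup.mem_inf, Subgroup.mem_centralizer_singleton_iff,
        Subgroup.mem_centralizer_singleton_iff]
    have hcardJ : Nat.card E ≤ Nat.card (Bool × Bool) * Nat.card J := by
      have hgen : ∀ (s f : G), f ∈ E → (∀ v ∈ E, s * v * s⁻¹ = v ∨ s * v * s⁻¹ = v * f) →
          ∀ v ∈ E, ∀ w ∈ E, (decide (v * s = s * v) = decide (w * s = s * w)) →
          (v⁻¹ * w) * s = s * (v⁻¹ * w) := by
        intro s f hf hs v hv w hw hd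
        have h5 : ∀ g : G, s * g * s⁻¹ = g → g * s = s * g := by
          intro g hg
          calc g * s = (s * g * s⁻¹) * s := by rw [hg]
            _ = s * g := by group
        have h6 : ∀ g : G, g * s = s * g → s * g * s⁻¹ = g := by
          intro g hg
          rw [← hg]; group
        by_cases hvs : v * s = s * v
        · have hws : w * s = s * w := by
            rw [decide_eq_true hvs] at hd
            exact of_decide_eq_true hd.symm
          have h7 : Commute v s := hvs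
          have h8 : Commute w s := hws
          exact h7.inv_left.mul_left h8
        · have hws : ¬ w * s = s * w := by
            rw [decide_eq_false hvs] at hd
            exact of_decide_eq_false hd.symm
          have h7 := (hs v hv).resolve_left (fun h => hvs (h5 v h))
          have h8 := (hs w hw).resolve_left (fun h => hws (h5 w h))
          apply h5
          have hf2 := (hE f).1 hf
          calc s * (v⁻¹ * w) * s⁻¹ = (s * v * s⁻¹)⁻¹ * (s * w * s⁻¹) := by group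
            _ = (v * f)⁻¹ * (w * f) := by rw [h7, h8]
            _ = (f * v)⁻¹ * (f * w) := by rw [hcomm v hv f hf, hcomm w hw f hf]
            _ = v⁻¹ * w := by group
      refine card_le_mul (X := E) (Y := J)
        (fun v => ((decide (v * t = t * v), decide (v * t' = t' * v)) : Bool × Bool))
        inf_le_left ?_
      intro v hv w hw hvw
      have h5 := congrArg Prod.fst hvw
      have h6 := congrArg Prod.snd hvw
      rw [hmemJ]
      exact ⟨E.mul_mem (E.inv_mem hv) hw, hgen t e he ht v hv w hw h5,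
        hgen t' v0 hv0 ht'v v hv w hw h6⟩
    have hJ4 : 4 ≤ Nat.card J := by
      have h5 : Nat.card (Bool × Bool) = 4 := by
        rw [Nat.card_prod]; simp
      rw [h5] at hcardJ
      omega
    have hxJ : ∀ a ∈ J, x ^ (2 ^ l) * a = a * x ^ (2 ^ l) := by
      intro a ha
      obtain ⟨-, h5, h6⟩ := (hmemJ a).1 ha
      have h7 : Commute t a := h5.symm
      have h8 : Commute t' a := h6.symm
      exact (h7.mul_left h8).pow_left _
    obtain ⟨a, ha, ha1⟩ : ∃ a ∈ J, a ≠ 1 := by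
      by_contra hcon
      push Not at hcon
      rw [(Subgroup.eq_bot_iff_forall _).2 hcon, Subgroup.card_bot] at hJ4
      omega
    obtain ⟨b, hb, hb1, hab⟩ : ∃ b ∈ J, b ≠ 1 ∧ a ≠ b := by
      by_contra hcon
      push Not at hcon
      have h5 : Nat.card J ≤ 2 := by
        have h6 : J ≤ Subgroup.zpowers a := by
          intro z hz
          by_cases hz1 : z = 1
          · rw [hz1]; exact Subgroup.one_mem _
          · rw [← hcon z hz hz1]; exact Subgroup.mem_zpowers a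
        refine (Subgroup.card_le_of_le h6).trans ?_
        rw [Nat.card_zpowers]
        exact Nat.le_of_dvd two_pos (orderOf_dvd_of_pow_eq_one (by
          rw [pow_two]; exact (hE a).1 ha.1))
      omega
    exact ⟨a, ha.1, b, hb.1, ha1, hb1, hab, hxJ a ha, hxJ b hb⟩
  have h5 : Commute (x ^ (2 ^ l)) e := hR _ hxodd hfix e he
  have h6 : ¬ 3 ∣ 2 ^ l := by
    intro h
    have := Nat.Prime.dvd_of_dvd_pow Nat.prime_three h
    omega
  have h7 : Commute x e := comm_of_pow h6 hx3e h5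
  apply hv0e
  rw [← hxe, h7.eq]; group

end Cfsg.Agent.H39.PyrSta
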