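import Mathlib
import Cfsg.Agent.H39.EForm3
import Cfsg.Agent.OCase.ExtForm

/-!
Orders of isometries of quadratic spaces of given type (characteristic two).
-/

set_option autoImplicit false

namespace Cfsg.Agent.H39.QOrd

open Module QuadraticMap Cfsg.Agent.Orth Cfsg.Agent.OCase Cfsg.Agent.H39.EForm Cfsg.Agent.H39.SpecBC

/-- there is an isometry of order `N` of a nondegenerate quadratic space of dimension `2 d` and type `ε` -/
def QO.{u, v} (F : Type u) [Field F] (ε : Prop) (d N : ℕ) : Prop :=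
  ∃ (V : Type v) (_ : AddCommGroup V) (_ : Module F V) (_ : FiniteDimensional F V) (Q : QuadraticForm F V)
    (g : OGrp Q), finrank F V = 2 * d ∧ (polarBilin Q).Nondegenerate ∧ (IsPlus Q ↔ ε) ∧ orderOf g = N

section pr

variable {F V W : Type*} [Field F] [AddCommGroup V] [Module F V] [AddCommGroup W] [Module F W]
  {Q : QuadraticForm F V} {S : QuadraticForm F W}

/-- direct sum of isometries -/
def prI (g : OGrp Q) (h : OGrp S) : OGrp (Q.prod S) :=
  mkIsom (Q.prod S)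
    (LinearMap.prodMap ((g : V ≃ₗ[F] V) : V →ₗ[F] V) ((h : W ≃ₗ[F] W) : W →ₗ[F] W))
    (LinearMap.prodMap (((g⁻¹ : OGrp Q) : V ≃ₗ[F] V) : V →ₗ[F] V) (((h⁻¹ : OGrp S) : W ≃ₗ[F] W) : W →ₗ[F] W))
    (fun x => by
      change ((g : V ≃ₗ[F] V) (((g⁻¹ : OGrp Q) : V ≃ₗ[F] V) x.1), (h : W ≃ₗ[F] W) (((h⁻¹ : OGrp S) : W ≃ₗ[F] W) x.2)) = x
      rw [coe_apply_inv_self, coe_apply_inv_self])
    (fun x => by
      change (((g⁻¹ : OGrp Q) : V ≃ₗ[F] V) ((g : V ≃ₗ[F] V) x.1), ((h⁻¹ : OGrp S) : W ≃ₗ[F] W) ((h : W ≃ₗ[F] W) x.2)) = x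
      rw [coe_inv_apply_self, coe_inv_apply_self])
    (fun x => by
      change (Q.prod S) ((g : V ≃ₗ[F] V) x.1, (h : W ≃ₗ[F] W) x.2) = _
      rw [QuadraticMap.prod_apply, QuadraticMap.prod_apply, OGrp_q, OGrp_q])

theorem prI_apply (g : OGrp Q) (h : OGrp S) (x : V × W) :
    (prI g h : (V × W) ≃ₗ[F] (V × W)) x = ((g : V ≃ₗ[F] V) x.1, (h : W ≃ₗ[F] W) x.2) := rfl

theorem prI_mul (g g' : OGrp Q) (h h' : OGrp S) : prI g h * prI g' h' = prI (g * g') (h * h') :=
  OGrp_ext fun _ => rfl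

theorem prI_one : prI (1 : OGrp Q) (1 : OGrp S) = 1 := OGrp_ext fun _ => rfl

theorem prI_pow (g : OGrp Q) (h : OGrp S) (i : ℕ) : prI g h ^ i = prI (g ^ i) (h ^ i) := by
  induction i with
  | zero => rw [pow_zero, pow_zero, pow_zero, prI_one]
  | succ i ih => rw [pow_succ, ih, prI_mul, ← pow_succ, ← pow_succ]

theorem prI_eq_one (g : OGrp Q) (h : OGrp S) : prI g h = 1 ↔ g = 1 ∧ h = 1 := by
  constructor
  · intro H
    constructor
    · refine OGrp_ext fun x => ?_
      have := congrArg (fun k : OGrp (Q.prod S) => ((k : (V × W) ≃ₗ[F] (V × W)) (x, 0)).1) H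
      exact this
    · refine OGrp_ext fun x => ?_
      have := congrArg (fun k : OGrp (Q.prod S) => ((k : (V × W) ≃ₗ[F] (V × W)) (0, x)).2) H
      exact this
  · rintro ⟨rfl, rfl⟩
    exact prI_one

theorem orderOf_prI (g : OGrp Q) (h : OGrp S) : orderOf (prI g h) = Nat.lcm (orderOf g) (orderOf h) := by
  apply Nat.dvd_antisymm
  · rw [orderOf_dvd_iff_pow_eq_one, prI_pow, prI_eq_one]
    exact ⟨orderOf_dvd_iff_pow_eq_one.1 (Nat.dvd_lcm_left _ _), orderOf_dvd_iff_pow_eq_one.1 (Nat.dvd_lcm_right _ _)⟩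
  · have := (prI_eq_one _ _).1 ((prI_pow g h (orderOf (prI g h))).symm.trans (pow_orderOf_eq_one _))
    exact Nat.lcm_dvd (orderOf_dvd_of_pow_eq_one this.1) (orderOf_dvd_of_pow_eq_one this.2)

theorem prI_mem_commutator [Finite F] [FiniteDimensional F V] [FiniteDimensional F W] {g : OGrp Q} {h : OGrp S}
    (hg : g ∈ commutator (OGrp Q)) (hh : h ∈ commutator (OGrp S)) : prI g h ∈ commutator (OGrp (Q.prod S)) := by
  let f : OGrp Q × OGrp S →* OGrp (Q.prod S) :=
    { toFun := fun x => prI x.1 x.2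
      map_one' := prI_one
      map_mul' := fun x y => (prI_mul _ _ _ _).symm }
  have h1 : Subgroup.map f (commutator (OGrp Q × OGrp S)) ≤ commutator (OGrp (Q.prod S)) := by
    rw [commutator_def, Subgroup.map_commutator]
    exact Subgroup.commutator_mono le_top le_top
  have hl : ∀ g ∈ commutator (OGrp Q), (g, (1 : OGrp S)) ∈ commutator (OGrp Q × OGrp S) := by
    intro g hg
    have h2 : Subgroup.map (MonoidHom.inl (OGrp Q) (OGrp S)) (commutator (OGrp Q)) ≤ commutator (OGrp Q × OGrp S) := by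
      rw [commutator_def, Subgroup.map_commutator]
      exact Subgroup.commutator_mono le_top le_top
    exact h2 ⟨g, hg, rfl⟩
  have hr : ∀ h ∈ commutator (OGrp S), ((1 : OGrp Q), h) ∈ commutator (OGrp Q × OGrp S) := by
    intro h hh
    have h2 : Subgroup.map (MonoidHom.inr (OGrp Q) (OGrp S)) (commutator (OGrp S)) ≤ commutator (OGrp Q × OGrp S) := by
      rw [commutator_def, Subgroup.map_commutator]
      exact Subgroup.commutator_mono le_top le_top
    exact h2 ⟨h, hh, rfl⟩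
  apply h1
  refine ⟨(g, h), ?_, rfl⟩
  have := Subgroup.mul_mem _ (hl g hg) (hr h hh)
  rwa [Prod.mk_mul_mk, mul_one, one_mul] at this

end pr

theorem QO.add.{u, v, w} {F : Type u} [Field F] [Finite F] {ε ε' : Prop} {d d' N N' : ℕ}
    (h : QO.{u, v} F ε d N) (h' : QO.{u, w} F ε' d' N') :
    QO.{u, max v w} F (ε ↔ ε') (d + d') (Nat.lcm N N') := by
  obtain ⟨V, i1, i2, i3, Q, g, hV, hQ, ht, hg⟩ := h
  obtain ⟨W, j1, j2, j3, S, g', hW, hS, ht', hg'⟩ := h'
  refine ⟨V × W, inferInstance, inferInstance, inferInstance, Q.prod S, prI g g', ?_, prod_nondeg hQ hS, ?_, ?_⟩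
  · rw [Module.finrank_prod, hV, hW]; ring
  · rw [isPlus_prod_iff hQ hS (by rw [hV]; exact even_two_mul d) (by rw [hW]; exact even_two_mul d'), ht, ht']
  · rw [orderOf_prI, hg, hg']

theorem QO.dvd.{u, v} {F : Type u} [Field F] {ε : Prop} {d N M : ℕ} (h : QO.{u, v} F ε d N) (hN : N ≠ 0)
    (hM : M ∣ N) : QO.{u, v} F ε d M := by
  obtain ⟨V, i1, i2, i3, Q, g, hV, hQ, ht, hg⟩ := h
  obtain ⟨k, rfl⟩ := hM
  have hk : k ≠ 0 := by rintro rfl; exact hN (mul_zero M)
  refine ⟨V, i1, i2, i3, Q, g ^ k, hV, hQ, ht, ?_⟩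
  rw [orderOf_pow_of_dvd hk (by rw [hg]; exact Dvd.intro_left _ rfl), hg]
  exact Nat.mul_div_cancel _ (Nat.pos_of_ne_zero hk)

theorem QO.congr.{u, v} {F : Type u} [Field F] {ε ε' : Prop} {d N : ℕ} (h : QO.{u, v} F ε d N) (he : ε ↔ ε') :
    QO.{u, v} F ε' d N := by
  rw [show ε' = ε from propext he.symm]
  exact h

/-- transport to a given space of the same type -/
theorem QO.to.{u, v, w} {F : Type u} [Field F] [Finite F] {ε : Prop} {d N : ℕ} (h : QO.{u, v} F ε d N)
    {W : Type w} [AddCommGroup W] [Module F W] [FiniteDimensional F W] {S : QuadraticForm F W}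
    (hS : (polarBilin S).Nondegenerate) (hW : finrank F W = 2 * d) (ht' : IsPlus S ↔ ε) :
    ∃ g : OGrp S, orderOf g = N := by
  obtain ⟨V, i1, i2, i3, Q, g, hV, hQ, ht, hg⟩ := h
  obtain ⟨e, he⟩ := exists_isom_of_type hQ hS (by rw [hV]; exact even_two_mul d) (by rw [hV, hW])
    (by rw [ht, ht'])
  exact ⟨AutO.trOE e 1 (fun v => by rw [he, Units.val_one, one_mul]) g, by rw [MulEquiv.orderOf_eq, hg]⟩

theorem qo_one_true.{u} (F : Type u) [Field F] [Finite F] (d : ℕ) : QO.{u, u} F True d 1 :=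
  ⟨Fin d ⊕ Fin d → F, inferInstance, inferInstance, inferInstance, qfPlus d F, 1, by
    rw [finrank_fintype_fun_eq_card, Fintype.card_sum, Fintype.card_fin]; ring, qfPlus_nondegenerate d F,
    by simp only [isPlus_qfPlus d], orderOf_one⟩

theorem qo_one_false.{u} (F : Type u) [Field F] [Finite F] {d : ℕ} (hd : 1 ≤ d) : QO.{u, u} F False d 1 := by
  obtain ⟨ζ, hζ⟩ := exists_zeta F
  obtain ⟨m, rfl⟩ : ∃ m, d = m + 1 := ⟨d - 1, by omega⟩
  refine ⟨(Fin m ⊕ Fin m) ⊕ Fin 2 → F, inferInstance, inferInstance, inferInstance, qfMinus m F 1 ζ, 1, ?_,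
    qfMinus_nondegenerate m F (disc_ne_zero_of_aniso (aniso_of_root hζ)), ?_, orderOf_one⟩
  · rw [finrank_fintype_fun_eq_card, Fintype.card_sum, Fintype.card_sum, Fintype.card_fin, Fintype.card_fin]
    ring
  · simp only [not_isPlus_qfMinus m hζ]

theorem qo_one.{u} (F : Type u) [Field F] [Finite F] (ε : Prop) {d : ℕ} (hd : 1 ≤ d) : QO.{u, u} F ε d 1 := by
  by_cases h : ε
  · exact (qo_one_true F d).congr (by simp [h])
  · exact (qo_one_false F hd).congr (by simp [h])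

/-- padding with a trivial space, choosing the type -/
theorem QO.pad.{u, v} {F : Type u} [Field F] [Finite F] {ε : Prop} {d N : ℕ} (h : QO.{u, v} F ε d N) (ε' : Prop)
    {e : ℕ} (he : d < e) : QO.{u, max v u} F ε' e N := by
  have h1 := h.add (qo_one F (ε ↔ ε') (d := e - d) (by omega))
  rw [Nat.lcm_one_right] at h1
  have h2 : d + (e - d) = e := by omega
  rw [h2] at h1
  exact h1.congr (by by_cases h3 : ε <;> by_cases h4 : ε' <;> simp [h3, h4])

theorem QO.pad'.{u, v} {F : Type u} [Field F] [Finite F] {ε : Prop} {d N : ℕ} (h : QO.{u, v} F ε d N)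
    {e : ℕ} (he : d ≤ e) : QO.{u, max v u} F ε e N := by
  have h1 := h.add (qo_one_true F (e - d))
  rw [Nat.lcm_one_right] at h1
  have h2 : d + (e - d) = e := by omega
  rw [h2] at h1
  exact h1.congr (by simp)

end Cfsg.Agent.H39.QOrd
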