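import Mathlib
import Cfsg.Agent.H39.QOrd

/-!
Tori of orthogonal groups: elements of orders `q ^ a + 1` and `q ^ a - 1`, with the type of the space.
-/

set_option autoImplicit false

namespace Cfsg.Agent.H39.QOrd

open Module QuadraticMap Cfsg.Agent.Orth Cfsg.Agent.OCase Cfsg.Agent.H39.EForm Cfsg.Agent.H39.SpecBC
  Cfsg.Agent.OrthCount Cfsg.Agent.H42.SpSpec

/-- a space with a fixed point free cyclic group of order `q ^ a + 1` is not of plus type -/
theorem not_isPlus_of_free {F V : Type*} [Field F] [Finite F] [AddCommGroup V] [Module F V] [FiniteDimensional F V]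
    {Q : QuadraticForm F V} (hQ : (polarBilin Q).Nondegenerate) {a : ℕ} (ha : 1 ≤ a) (hV : finrank F V = 2 * a)
    (hex : ¬ (Nat.card F = 3 ∧ a = 1)) (g : OGrp Q) (hg : orderOf g = Nat.card F ^ a + 1)
    (hfree : ∀ (i : ℕ) (x : V), x ≠ 0 → ((g ^ i : OGrp Q) : V ≃ₗ[F] V) x = x → g ^ i = 1) : ¬ IsPlus Q := by
  classical
  intro hp
  haveI : Finite V := Module.finite_of_finite F
  have hfo : IsOfFinOrder g := by rw [← orderOf_pos_iff, hg]; exact Nat.succ_pos _
  obtain ⟨e, he⟩ := hp.exists_isom hQ hV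
  set q := Nat.card F with hq
  have hq2 : 1 < q := Finite.one_lt_card
  have hZ := zeros_plus (F := F) a
  have hZ1 : Nat.card {v : Fin a ⊕ Fin a → F // Cfsg.quadFormPlus a F v = 0} = Nat.card {v : V // Q v = 0} := by
    refine Nat.card_congr (Equiv.subtypeEquiv e.toEquiv fun v => ?_)
    change _ ↔ Q (e v) = 0
    rw [he]
    rfl
  rw [hZ1] at hZ
  set Z := Nat.card {v : V // Q v = 0} with hZdef
  -- the nonzero zeros
  let X := {v : V // Q v = 0 ∧ v ≠ 0}
  have hX : Nat.card X + 1 = Z := by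
    have h1 : Nat.card {v : {v : V // Q v = 0} // v.1 ≠ 0} = Nat.card X :=
      Nat.card_congr (Equiv.subtypeSubtypeEquivSubtypeInter (fun v : V => Q v = 0) (fun v => v ≠ 0))
    rw [← h1]
    have h2 : Nat.card {v : {v : V // Q v = 0} // v.1 ≠ 0} =
        Nat.card {v : {v : V // Q v = 0} // v ≠ ⟨0, QuadraticMap.map_zero Q⟩} := by
      refine Nat.card_congr (Equiv.subtypeEquivRight fun v => ?_)
      rw [Ne, Ne, Subtype.ext_iff]
    rw [h2]
    haveI : Fintype {v : V // Q v = 0} := Fintype.ofFinite _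
    rw [hZdef, Nat.card_eq_fintype_card, Nat.card_eq_fintype_card, Fintype.card_subtype_compl,
      Fintype.card_subtype_eq]
    have : 0 < Fintype.card {v : V // Q v = 0} := Fintype.card_pos_iff.2 ⟨⟨0, QuadraticMap.map_zero Q⟩⟩
    omega
  let G := Subgroup.zpowers g
  letI act : MulAction G X :=
    { smul := fun h x => ⟨((h : OGrp Q) : V ≃ₗ[F] V) x.1, by
        rw [OGrp_q]; exact x.2.1, fun h0 => x.2.2 ((LinearEquiv.map_eq_zero_iff _).1 h0)⟩
      one_smul := fun x => Subtype.ext rfl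
      mul_smul := fun h h' x => Subtype.ext rfl }
  have hsmul : ∀ (h : G) (x : X), ((h • x : X) : V) = ((h : OGrp Q) : V ≃ₗ[F] V) x.1 := fun h x => rfl
  have hstab : ∀ x : X, MulAction.stabilizer G x = ⊥ := by
    intro x
    rw [eq_bot_iff]
    intro h hh
    rw [MulAction.mem_stabilizer_iff] at hh
    have h1 : ((h : OGrp Q) : V ≃ₗ[F] V) x.1 = x.1 := by rw [← hsmul, hh]
    obtain ⟨i, hi⟩ := (Submonoid.mem_powers_iff _ _).1 (hfo.mem_powers_iff_mem_zpowers.2 h.2)
    rw [← hi] at h1
    have h2 := hfree i x.1 x.2.2 h1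
    rw [Subgroup.mem_bot]
    apply Subtype.ext
    rw [← hi, h2]
    rfl
  have hdvd : q ^ a + 1 ∣ Nat.card X := by
    rw [Nat.card_congr (MulAction.selfEquivOrbitsQuotientProd hstab), Nat.card_prod, Nat.card_zpowers, hg]
    exact Dvd.intro_left _ rfl
  obtain ⟨c, hc⟩ := hdvd
  set A := q ^ a with hA
  have hAq : q ≤ A := by
    calc q = q ^ 1 := (pow_one q).symm
      _ ≤ q ^ a := Nat.pow_le_pow_right (by omega) ha
  have h1 : (q : ℤ) * ((A + 1) * c + 1) + A = A ^ 2 + q * A := by
    have e1 : q ^ (2 * a) = A ^ 2 := by rw [hA, ← pow_mul, mul_comm]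
    have e2 : q ^ (a + 1) = q * A := by rw [hA, pow_succ]; ring
    rw [e1, e2, ← hX, hc] at hZ
    exact_mod_cast hZ
  have h2 : ((A : ℤ) + 1) ∣ 2 * ((q : ℤ) - 1) := by
    refine ⟨(A + q - 2) - q * c, ?_⟩
    linear_combination h1
  have h3 : (A + 1 : ℕ) ∣ 2 * (q - 1) := by
    have h4 : ((A + 1 : ℕ) : ℤ) ∣ ((2 * (q - 1) : ℕ) : ℤ) := by
      push_cast [Nat.cast_sub (by omega : 1 ≤ q)]
      exact h2
    exact_mod_cast h4
  have h4 := Nat.le_of_dvd (by omega) h3
  by_cases ha1 : a = 1
  · have hAq' : A = q := by rw [hA, ha1, pow_one]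
    rw [hAq'] at h3
    have h5 : (q + 1) ∣ 4 := by
      have h6 : 2 * (q + 1) = 2 * (q - 1) + 4 := by omega
      have h7 : (q + 1) ∣ 2 * (q + 1) := Dvd.intro_left _ rfl
      rw [h6] at h7
      exact (Nat.dvd_add_right h3).1 h7
    have h6 := Nat.le_of_dvd (by norm_num) h5
    have h7 : q ≠ 3 := fun h => hex ⟨h, ha1⟩
    have h8 : q = 2 := by omega
    rw [h8] at h5
    omega
  · have h5 : q ^ 2 ≤ A := Nat.pow_le_pow_right (by omega) (by omega)
    have h6 : 2 * (q - 1) ≤ q ^ 2 := by
      obtain ⟨k, hk⟩ : ∃ k, q = k + 1 := ⟨q - 1, by omega⟩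
      rw [hk, Nat.add_sub_cancel]
      nlinarith
    omega

/-- the quadratic form of an algebra with involution -/
theorem qo_minus {F : Type*} [Field F] [Finite F] (p : ℕ) [Fact p.Prime] [CharP F p] {a : ℕ} (ha : 1 ≤ a)
    (hex : ¬ (Nat.card F = 3 ∧ a = 1)) : QO.{_, 0} F False a (Nat.card F ^ a + 1) := by
  classical
  haveI : NeZero (2 * a) := ⟨by omega⟩
  let E := FiniteField.Extension F p (2 * a)
  set q := Nat.card F with hq
  have hq2 : 1 < q := Finite.one_lt_card
  have hE : Nat.card E = q ^ (2 * a) := FiniteField.natCard_extension F p (2 * a)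
  have hqa : q < q ^ (2 * a) ∧ q ^ a < q ^ (2 * a) := by
    constructor
    · calc q = q ^ 1 := (pow_one q).symm
        _ < q ^ (2 * a) := Nat.pow_lt_pow_right hq2 (by omega)
    · exact Nat.pow_lt_pow_right hq2 (by omega)
  have hqa1 : 1 ≤ q ^ a := Nat.one_le_pow _ _ (by omega)
  let φ : E →ₐ[F] E := ((FiniteField.Extension.frob F p (2 * a)) ^ a : Gal(E/F)).toAlgHom
  have hφ : ∀ x : E, φ x = x ^ (q ^ a) := fun x => FiniteField.Extension.frob_iterate_apply F p (2 * a) a
  have hcard : ∀ x : E, x ^ (q ^ (2 * a)) = x := by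
    intro x
    haveI : Fintype E := Fintype.ofFinite E
    have := FiniteField.pow_card x
    rwa [← Nat.card_eq_fintype_card, hE] at this
  have hφφ : ∀ x, φ (φ x) = x := by
    intro x
    rw [hφ, hφ, ← pow_mul, ← pow_add, ← two_mul]
    exact hcard x
  have hdvd : q ^ (2 * a) - 1 = (q ^ a + 1) * (q ^ a - 1) := by
    have := Nat.sq_sub_sq (q ^ a) 1
    rw [one_pow, ← pow_mul, mul_comm a 2] at this
    exact this
  -- h with h + φ h ≠ 0
  obtain ⟨h, hh⟩ : ∃ h : E, h + φ h ≠ 0 := by
    by_contra hcon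
    push Not at hcon
    have h2 : (2 : E) = 0 := by
      have := hcon 1
      rw [map_one, one_add_one_eq_two] at this
      exact this
    obtain ⟨ε, hε0, hε⟩ := exists_orderOf_unit (E := E) (N := Nat.card E - 1) dvd_rfl
    have h0 := hcon ε
    have h0' : φ ε = ε := by linear_combination h0 - ε * h2
    rw [hφ] at h0'
    have h1 : ε ^ (q ^ a - 1) = 1 := by
      have h2 : ε ^ (q ^ a - 1) * ε = 1 * ε := by
        rw [← pow_succ, Nat.sub_add_cancel hqa1, one_mul]
        exact h0'
      exact mul_right_cancel₀ hε0 h2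
    have h3 : orderOf ε ∣ q ^ a - 1 := orderOf_dvd_of_pow_eq_one h1
    rw [hε, hE] at h3
    have h4 : 0 < q ^ a - 1 := by
      have : 1 < q ^ a := Nat.one_lt_pow (by omega) hq2
      omega
    have h5 := Nat.le_of_dvd h4 h3
    omega
  obtain ⟨l, hl⟩ : ∃ l : E →ₗ[F] F, l (h + φ h) ≠ 0 := by
    by_contra hcon
    push Not at hcon
    exact hh ((Module.forall_dual_apply_eq_zero_iff F _).mp hcon)
  let B : LinearMap.BilinForm F E := LinearMap.mk₂ F (fun x y => l (x * φ y))
    (fun a b c => by rw [add_mul, map_add])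
    (fun a b c => by rw [smul_mul_assoc, map_smul])
    (fun a b c => by rw [map_add, mul_add, map_add])
    (fun a b c => by rw [map_smul, mul_smul_comm, map_smul])
  let Q : QuadraticForm F E := B.toQuadraticMap
  have hQa : ∀ x, Q x = l (x * φ x) := fun x => rfl
  have hp : ∀ x y, polar Q x y = l (x * φ y + φ (x * φ y)) := by
    intro x y
    rw [polar, hQa, hQa, hQa, _root_.map_mul φ, hφφ, map_add φ]
    have : (x + y) * (φ x + φ y) = x * φ x + y * φ y + (x * φ y + φ x * y) := by ring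
    rw [this, map_add, map_add]
    ring
  have hnd : (polarBilin Q).Nondegenerate := by
    refine nondeg_of (ε := 1) (fun u v => by rw [one_mul, pbil, pbil, pc]) ?_
    intro x hx
    by_contra hx0
    have h1 := hx (φ (x⁻¹ * h))
    rw [pbil, hp, hφφ, mul_inv_cancel_left₀ hx0] at h1
    exact hl h1
  obtain ⟨t, ht0, ht⟩ := exists_orderOf_unit (E := E) (N := q ^ a + 1) (by
    rw [hE, hdvd]
    exact Dvd.intro _ rfl)
  have htφ : t * φ t = 1 := by
    rw [hφ, ← pow_succ', ← ht, pow_orderOf_eq_one]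
  let g : OGrp Q := mkIsom Q (LinearMap.mulLeft F t) (LinearMap.mulLeft F t⁻¹)
    (fun x => by
      rw [LinearMap.mulLeft_apply, LinearMap.mulLeft_apply, mul_inv_cancel_left₀ ht0])
    (fun x => by
      rw [LinearMap.mulLeft_apply, LinearMap.mulLeft_apply, inv_mul_cancel_left₀ ht0])
    (fun x => by
      rw [LinearMap.mulLeft_apply, hQa, hQa, _root_.map_mul φ]
      have : t * x * (φ t * φ x) = (t * φ t) * (x * φ x) := by ring
      rw [this, htφ, one_mul])
  have hgp : ∀ (i : ℕ) (x : E), ((g ^ i : OGrp Q) : E ≃ₗ[F] E) x = t ^ i * x := by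
    intro i
    induction i with
    | zero => intro x; rw [pow_zero, pow_zero, one_mul, coe_one_apply]
    | succ i ih =>
      intro x
      rw [pow_succ, coe_mul_apply, ih]
      change t ^ i * (t * x) = _
      ring
  have hg1 : ∀ i : ℕ, g ^ i = 1 ↔ t ^ i = 1 := by
    intro i
    constructor
    · intro H
      have := hgp i 1
      rw [H, coe_one_apply, mul_one] at this
      exact this.symm
    · intro H
      refine OGrp_ext fun x => ?_
      rw [hgp, H, one_mul, coe_one_apply]
  have hgo : orderOf g = q ^ a + 1 := by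
    rw [← ht]
    apply Nat.dvd_antisymm
    · rw [orderOf_dvd_iff_pow_eq_one, hg1, pow_orderOf_eq_one]
    · rw [orderOf_dvd_iff_pow_eq_one, ← hg1, pow_orderOf_eq_one]
  have hfr : finrank F E = 2 * a := FiniteField.finrank_extension F p (2 * a)
  refine ⟨E, inferInstance, inferInstance, inferInstance, Q, g, hfr, hnd, ?_, hgo⟩
  have := not_isPlus_of_free hnd ha hfr hex g hgo (fun i x hx H => by
    rw [hg1]
    rw [hgp] at H
    have : t ^ i * x = 1 * x := by rw [H, one_mul]
    exact mul_right_cancel₀ hx this)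
  simp only [this]

theorem qo_plus {F : Type*} [Field F] [Finite F] (p : ℕ) [Fact p.Prime] [CharP F p] {a : ℕ} (ha : 1 ≤ a) :
    QO.{_, 0} F True a (Nat.card F ^ a - 1) := by
  classical
  haveI : NeZero a := ⟨by omega⟩
  let E := FiniteField.Extension F p a
  set q := Nat.card F with hq
  have hE : Nat.card E = q ^ a := FiniteField.natCard_extension F p a
  obtain ⟨l, hl⟩ : ∃ l : E →ₗ[F] F, l 1 ≠ 0 := by
    by_contra hcon
    push Not at hcon
    exact one_ne_zero ((Module.forall_dual_apply_eq_zero_iff F _).mp hcon)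
  let B : LinearMap.BilinForm F (E × E) := LinearMap.mk₂ F (fun x y => l (x.1 * y.2))
    (fun a b c => by rw [Prod.fst_add, add_mul, map_add])
    (fun a b c => by rw [Prod.smul_fst, smul_mul_assoc, map_smul])
    (fun a b c => by rw [Prod.snd_add, mul_add, map_add])
    (fun a b c => by rw [Prod.smul_snd, mul_smul_comm, map_smul])
  let Q : QuadraticForm F (E × E) := B.toQuadraticMap
  have hQa : ∀ x, Q x = l (x.1 * x.2) := fun x => rfl
  have hp : ∀ x y, polar Q x y = l (x.1 * y.2 + y.1 * x.2) := by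
    intro x y
    rw [polar, hQa, hQa, hQa, Prod.fst_add, Prod.snd_add]
    have : (x.1 + y.1) * (x.2 + y.2) = x.1 * x.2 + y.1 * y.2 + (x.1 * y.2 + y.1 * x.2) := by ring
    rw [this, map_add, map_add]
    ring
  have hnd : (polarBilin Q).Nondegenerate := by
    refine nondeg_of (ε := 1) (fun u v => by rw [one_mul, pbil, pbil, pc]) ?_
    rintro ⟨x, y⟩ hx
    by_contra hx0
    by_cases hx1 : x = 0
    · have hy : y ≠ 0 := by
        rintro rfl
        exact hx0 (by rw [hx1]; rfl)
      have h1 := hx (y⁻¹, 0)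
      rw [pbil, hp] at h1
      simp only [mul_zero, zero_add] at h1
      rw [inv_mul_cancel₀ hy] at h1
      exact hl h1
    · have h1 := hx (0, x⁻¹)
      rw [pbil, hp] at h1
      simp only [zero_mul, add_zero] at h1
      rw [mul_inv_cancel₀ hx1] at h1
      exact hl h1
  obtain ⟨t, ht0, ht⟩ := exists_orderOf_unit (E := E) (N := q ^ a - 1) (by rw [hE])
  let g : OGrp Q := mkIsom Q
    (LinearMap.prodMap (LinearMap.mulLeft F t) (LinearMap.mulLeft F t⁻¹))
    (LinearMap.prodMap (LinearMap.mulLeft F t⁻¹) (LinearMap.mulLeft F t))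
    (fun x => by
      change (t * (t⁻¹ * x.1), t⁻¹ * (t * x.2)) = x
      rw [mul_inv_cancel_left₀ ht0, inv_mul_cancel_left₀ ht0])
    (fun x => by
      change (t⁻¹ * (t * x.1), t * (t⁻¹ * x.2)) = x
      rw [mul_inv_cancel_left₀ ht0, inv_mul_cancel_left₀ ht0])
    (fun x => by
      change l ((t * x.1) * (t⁻¹ * x.2)) = l (x.1 * x.2)
      have : (t * x.1) * (t⁻¹ * x.2) = (t * t⁻¹) * (x.1 * x.2) := by ring
      rw [this, mul_inv_cancel₀ ht0, one_mul])
  have hgp : ∀ (i : ℕ) (x : E × E), ((g ^ i : OGrp Q) : (E × E) ≃ₗ[F] (E × E)) x = (t ^ i * x.1, t⁻¹ ^ i * x.2) := by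
    intro i
    induction i with
    | zero => intro x; rw [pow_zero, pow_zero, pow_zero, one_mul, one_mul, coe_one_apply]
    | succ i ih =>
      intro x
      rw [pow_succ, coe_mul_apply, ih]
      change (t ^ i * (t * x.1), t⁻¹ ^ i * (t⁻¹ * x.2)) = _
      rw [pow_succ, pow_succ, mul_assoc, mul_assoc]
  have hg1 : ∀ i : ℕ, g ^ i = 1 ↔ t ^ i = 1 := by
    intro i
    constructor
    · intro H
      have := hgp i (1, 0)
      rw [H, coe_one_apply] at this
      have := congrArg Prod.fst this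
      simpa using this.symm
    · intro H
      refine OGrp_ext fun x => ?_
      rw [hgp, inv_pow, H, inv_one, one_mul, one_mul, coe_one_apply]
  have hgo : orderOf g = q ^ a - 1 := by
    rw [← ht]
    apply Nat.dvd_antisymm
    · rw [orderOf_dvd_iff_pow_eq_one, hg1, pow_orderOf_eq_one]
    · rw [orderOf_dvd_iff_pow_eq_one, ← hg1, pow_orderOf_eq_one]
  have hfr : finrank F (E × E) = 2 * a := by
    rw [Module.finrank_prod, FiniteField.finrank_extension F p a]
    ring
  refine ⟨E × E, inferInstance, inferInstance, inferInstance, Q, g, hfr, hnd, ?_, hgo⟩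
  have : IsPlus Q := by
    refine ⟨LinearMap.range (LinearMap.inl F E E), ?_, ?_⟩
    · rintro _ ⟨x, rfl⟩
      rw [hQa]
      simp
    · rw [LinearMap.finrank_range_of_inj LinearMap.inl_injective, hfr, FiniteField.finrank_extension F p a]
  simp only [this]

end Cfsg.Agent.H39.QOrd
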