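import Mathlib
import Cfsg.Agent.H39.QTor

/-!
Elements of 2-power order in orthogonal groups in characteristic two.
-/

set_option autoImplicit false

namespace Cfsg.Agent.H39.QOrd

open Module QuadraticMap Cfsg.Agent.Orth Cfsg.Agent.OCase Cfsg.Agent.H39.EForm Cfsg.Agent.H39.SpecBC

section lift

variable {F V : Type*} [Field F] [AddCommGroup V] [Module F V] {Q : QuadraticForm F V}

/-- the norm sum -/
def ns (g : OGrp Q) (N : ℕ) (b : V) : V := ∑ i ∈ Finset.range N, ((g ^ i : OGrp Q) : V ≃ₗ[F] V) b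

theorem ns_succ (g : OGrp Q) (N : ℕ) (b : V) : ns g (N + 1) b = (g : V ≃ₗ[F] V) (ns g N b) + b := by
  rw [ns, ns, Finset.sum_range_succ', map_sum, pow_zero, coe_one_apply]
  congr 1
  refine Finset.sum_congr rfl fun i _ => ?_
  rw [← coe_mul_apply, ← pow_succ']

variable (Q) in
/-- the singular vector of the hyperbolic plane -/
noncomputable def hs : V × (Fin 1 ⊕ Fin 1 → F) := (0, Pi.single (Sum.inl 0) 1)

variable (Q) in
noncomputable def hs' : V × (Fin 1 ⊕ Fin 1 → F) := (0, Pi.single (Sum.inr 0) 1)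

theorem q_hs : (Q.prod (qfPlus 1 F)) (hs (F := F) (V := V)) = 0 := by
  rw [hs, QuadraticMap.prod_apply, QuadraticMap.map_zero, zero_add, qfPlus_apply]
  simp

theorem polar_hs_inl (v : V) : polar (Q.prod (qfPlus 1 F)) (hs (F := F) (V := V)) (v, 0) = 0 := by
  rw [hs, QuadraticMap.polar_prod, polar_zero_left, polar_zero_right, add_zero]

theorem polar_hs_hs' : polar (Q.prod (qfPlus 1 F)) (hs' (F := F) (V := V)) (hs (F := F) (V := V)) = 1 := by
  rw [hs, hs', QuadraticMap.polar_prod, polar_zero_left, zero_add, polar_qfPlus]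
  simp [Pi.single_apply]

/-- Eichler transformation of the product -/
noncomputable def El (Q : QuadraticForm F V) (v : V) : OGrp (Q.prod (qfPlus 1 F)) :=
  eich (Q.prod (qfPlus 1 F)) (hs (F := F) (V := V)) (v, 0) q_hs (polar_hs_inl v)

theorem El_apply (v : V) (x : V × (Fin 1 ⊕ Fin 1 → F)) :
    (El Q v : (V × (Fin 1 ⊕ Fin 1 → F)) ≃ₗ[F] (V × (Fin 1 ⊕ Fin 1 → F))) x = x + polar (Q.prod (qfPlus 1 F)) x (v, 0) • hs (F := F) (V := V)
      - polar (Q.prod (qfPlus 1 F)) x (hs (F := F) (V := V)) • (v, 0)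
      - (Q v * polar (Q.prod (qfPlus 1 F)) x (hs (F := F) (V := V))) • hs (F := F) (V := V) := by
  rw [El, eich_apply]
  have : (Q.prod (qfPlus 1 F)) (v, 0) = Q v := by
    rw [QuadraticMap.prod_apply, QuadraticMap.map_zero, add_zero]
  rw [this]

theorem El_mul (v w : V) : El Q v * El Q w = El Q (v + w) := by
  rw [El, El, eich_mul, El]
  congr 1
  rw [Prod.mk_add_mk, add_zero]

theorem El_zero : El Q 0 = 1 := by
  refine OGrp_ext fun x => ?_
  rw [El_apply, coe_one_apply]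
  have : ((0 : V), (0 : Fin 1 ⊕ Fin 1 → F)) = 0 := rfl
  rw [this, polar_zero_right, QuadraticMap.map_zero]
  simp

theorem El_comm (c : OGrp Q) (v : V) :
    prI c (1 : OGrp (qfPlus 1 F)) * El Q v = El Q ((c : V ≃ₗ[F] V) v) * prI c 1 := by
  have ha : (prI c (1 : OGrp (qfPlus 1 F)) : (V × (Fin 1 ⊕ Fin 1 → F)) ≃ₗ[F] (V × (Fin 1 ⊕ Fin 1 → F))) (hs (F := F) (V := V)) = hs (F := F) (V := V) := by
    rw [prI_apply, hs, map_zero, coe_one_apply]
  have hv : (prI c (1 : OGrp (qfPlus 1 F)) : (V × (Fin 1 ⊕ Fin 1 → F)) ≃ₗ[F] (V × (Fin 1 ⊕ Fin 1 → F))) (v, 0) = ((c : V ≃ₗ[F] V) v, 0) := by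
    rw [prI_apply, coe_one_apply]
  refine OGrp_ext fun x => ?_
  rw [coe_mul_apply, coe_mul_apply, El_apply, El_apply]
  simp only [map_sub, map_add, map_smul]
  rw [ha, hv, OGrp_q]
  have h1 : polar (Q.prod (qfPlus 1 F)) ((prI c (1 : OGrp (qfPlus 1 F)) : (V × (Fin 1 ⊕ Fin 1 → F)) ≃ₗ[F] (V × (Fin 1 ⊕ Fin 1 → F))) x)
      ((c : V ≃ₗ[F] V) v, 0) = polar (Q.prod (qfPlus 1 F)) x (v, 0) := by
    rw [← hv, OGrp_polar]
  have h2 : polar (Q.prod (qfPlus 1 F)) ((prI c (1 : OGrp (qfPlus 1 F)) : (V × (Fin 1 ⊕ Fin 1 → F)) ≃ₗ[F] (V × (Fin 1 ⊕ Fin 1 → F))) x)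
      (hs (F := F) (V := V)) = polar (Q.prod (qfPlus 1 F)) x (hs (F := F) (V := V)) := by
    conv_lhs => rw [← ha]
    rw [OGrp_polar]
  rw [h1, h2]

theorem lift_pow (c : OGrp Q) (b : V) (n : ℕ) :
    (El Q b * prI c (1 : OGrp (qfPlus 1 F))) ^ n = El Q (ns c n b) * prI (c ^ n) 1 := by
  induction n with
  | zero =>
    rw [pow_zero, pow_zero, prI_one, mul_one, ns, Finset.sum_range_zero, El_zero]
  | succ n ih =>
    rw [pow_succ', ih]
    calc El Q b * prI c 1 * (El Q (ns c n b) * prI (c ^ n) 1) =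
        El Q b * (prI c 1 * El Q (ns c n b)) * prI (c ^ n) 1 := by group
      _ = (El Q b * El Q ((c : V ≃ₗ[F] V) (ns c n b))) * (prI c 1 * prI (c ^ n) 1) := by
        rw [El_comm]; group
      _ = El Q (ns c (n + 1) b) * prI (c ^ (n + 1)) 1 := by
        rw [El_mul, prI_mul, ns_succ, add_comm, ← pow_succ', one_mul]

theorem El_eq_one_iff (hQ : (polarBilin Q).Nondegenerate) (v : V) : El Q v = 1 ↔ v = 0 := by
  constructor
  · intro h
    have h1 : (El Q v : (V × (Fin 1 ⊕ Fin 1 → F)) ≃ₗ[F] (V × (Fin 1 ⊕ Fin 1 → F))) (hs' (F := F) (V := V)) = hs' (F := F) (V := V) := by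
      rw [h, coe_one_apply]
    rw [El_apply, polar_hs_hs'] at h1
    have h2 := congrArg Prod.fst h1
    simp only [Prod.fst_sub, Prod.fst_add, Prod.smul_fst, hs, hs', smul_zero, add_zero, one_smul,
      sub_zero, zero_sub] at h2
    exact neg_eq_zero.1 h2
  · rintro rfl
    exact El_zero

theorem lift_order (h2 : (2 : F) = 0) (hQ : (polarBilin Q).Nondegenerate) (c : OGrp Q) (b : V) {N : ℕ} (hN : orderOf c = N)
    (hb : ns c N b ≠ 0) :
    orderOf (El Q b * prI c (1 : OGrp (qfPlus 1 F))) = 2 * N := by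
  set g := El Q b * prI c (1 : OGrp (qfPlus 1 F)) with hg
  have hcN : c ^ N = 1 := by rw [← hN, pow_orderOf_eq_one]
  have hgN : g ^ N = El Q (ns c N b) := by rw [hg, lift_pow, hcN, prI_one, mul_one]
  have h2e : El Q (ns c N b) ^ 2 = 1 := by
    rw [pow_two, El_mul, El_eq_one_iff hQ, ← two_smul F, h2, zero_smul]
  apply Nat.dvd_antisymm
  · rw [orderOf_dvd_iff_pow_eq_one, mul_comm, pow_mul, hgN, h2e]
  · -- N divides the order
    have h3 : g ^ orderOf g = 1 := pow_orderOf_eq_one g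
    have h4 : c ^ orderOf g = 1 := by
      rw [hg, lift_pow] at h3
      rw [← hg] at h3
      refine OGrp_ext fun x => ?_
      have h5 : (El Q (ns c (orderOf g) b) * prI (c ^ orderOf g) 1 : OGrp (Q.prod (qfPlus 1 F))) = 1 := h3
      have h6 := congrArg (fun k : OGrp (Q.prod (qfPlus 1 F)) => ((k : (V × (Fin 1 ⊕ Fin 1 → F)) ≃ₗ[F] (V × (Fin 1 ⊕ Fin 1 → F))) (x, 0)).1) h5
      simp only [coe_mul_apply, prI_apply, El_apply, coe_one_apply] at h6
      have h7 : polar (Q.prod (qfPlus 1 F)) (((c ^ orderOf g : OGrp Q) : V ≃ₗ[F] V) x, (0 : Fin 1 ⊕ Fin 1 → F))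
          (hs (F := F) (V := V)) = 0 := by rw [pc, polar_hs_inl]
      rw [h7] at h6
      simp only [Prod.fst_sub, Prod.fst_add, Prod.smul_fst, hs, smul_zero, add_zero, zero_smul, sub_zero,
        mul_zero] at h6
      exact h6
    have h5 : N ∣ orderOf g := by rw [← hN]; exact orderOf_dvd_of_pow_eq_one h4
    obtain ⟨m, hm⟩ := h5
    rw [hm, pow_mul, hgN] at h3
    have h6 : 2 ∣ m := by
      by_contra hodd
      have h7 : m = 2 * (m / 2) + 1 := by omega
      rw [h7, pow_succ, pow_mul, h2e, one_pow, one_mul, El_eq_one_iff hQ] at h3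
      exact hb h3
    obtain ⟨k, hk⟩ := h6
    rw [hm, hk]
    exact ⟨k, by ring⟩

/-- the vector for the element of order four -/
theorem ns_four (h2 : (2 : F) = 0) (hQ : (polarBilin Q).Nondegenerate) {w b : V} (hw : Q w ≠ 0)
    (hbw : polar Q b w ≠ 0) :
    ns (El Q b * prI (refl Q w hw) (1 : OGrp (qfPlus 1 F))) 4 (hs' (F := F) (V := V)) ≠ 0 := by
  set c := refl Q w hw with hc
  set g := El Q b * prI c (1 : OGrp (qfPlus 1 F)) with hg
  set x := hs' (F := F) (V := V) with hx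
  set e := ns c 2 b with he
  have hneg : ∀ v : V × (Fin 1 ⊕ Fin 1 → F), v + v = 0 := by
    intro v; rw [← two_smul F, h2, zero_smul]
  have hnegV : ∀ v : V, v + v = 0 := by
    intro v; rw [← two_smul F, h2, zero_smul]
  have hneg' : ∀ v : V × (Fin 1 ⊕ Fin 1 → F), - v = v := fun v => neg_eq_of_add_eq_zero_left (hneg v)
  have he' : e = ((Q w)⁻¹ * polar Q b w) • w := by
    have h3 : e = (c : V ≃ₗ[F] V) b + b := by
      rw [he, ns_succ, ns_succ, ns, Finset.sum_range_zero, map_zero, zero_add]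
    rw [h3, hc, refl_apply]
    have h4 : b - ((Q w)⁻¹ * polar Q b w) • w + b = (b + b) - ((Q w)⁻¹ * polar Q b w) • w := by abel
    rw [h4, hnegV, zero_sub]
    exact neg_eq_of_add_eq_zero_left (hnegV _)
  have hg2 : g ^ 2 = El Q e := by
    rw [hg, lift_pow, ← he]
    have : c ^ 2 = 1 := by rw [pow_two, hc, refl_mul_self]
    rw [this, prI_one, mul_one]
  set y := x + (g : (V × (Fin 1 ⊕ Fin 1 → F)) ≃ₗ[F] (V × (Fin 1 ⊕ Fin 1 → F))) x with hy
  have hns : ns g 4 x = (El Q e : (V × (Fin 1 ⊕ Fin 1 → F)) ≃ₗ[F] (V × (Fin 1 ⊕ Fin 1 → F))) y + y := by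
    rw [ns, Finset.sum_range_succ, Finset.sum_range_succ, Finset.sum_range_succ, Finset.sum_range_succ,
      Finset.sum_range_zero, pow_zero, pow_one]
    have h3 : ((g ^ 3 : OGrp (Q.prod (qfPlus 1 F))) : (V × (Fin 1 ⊕ Fin 1 → F)) ≃ₗ[F] (V × (Fin 1 ⊕ Fin 1 → F))) x =
        (El Q e : (V × (Fin 1 ⊕ Fin 1 → F)) ≃ₗ[F] (V × (Fin 1 ⊕ Fin 1 → F))) ((g : (V × (Fin 1 ⊕ Fin 1 → F)) ≃ₗ[F] (V × (Fin 1 ⊕ Fin 1 → F))) x) := by
      rw [← hg2, ← coe_mul_apply, ← pow_succ]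
    rw [h3, hg2, coe_one_apply, hy, map_add]
    abel
  have hpe : polar (Q.prod (qfPlus 1 F)) y (e, 0) = - polar Q b e := by
    have h3 : polar (Q.prod (qfPlus 1 F)) x (e, 0) = 0 := by
      rw [hx, hs', QuadraticMap.polar_prod, polar_zero_left, polar_zero_right, add_zero]
    have h4 : (g : (V × (Fin 1 ⊕ Fin 1 → F)) ≃ₗ[F] (V × (Fin 1 ⊕ Fin 1 → F))) x = (El Q b : (V × (Fin 1 ⊕ Fin 1 → F)) ≃ₗ[F] (V × (Fin 1 ⊕ Fin 1 → F))) x := by
      rw [hg, coe_mul_apply, prI_apply, hx, hs', map_zero, coe_one_apply]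
    have h5 : polar (Q.prod (qfPlus 1 F)) (b, 0) (e, 0) = polar Q b e := by
      rw [QuadraticMap.polar_prod, polar_zero_left, add_zero]
    rw [hy, pal, h3, h4, El_apply, pdl, pdl, pal, psl, psl, psl, h3, polar_hs_inl, polar_hs_hs', h5]
    ring
  have hya : polar (Q.prod (qfPlus 1 F)) y (hs (F := F) (V := V)) = 0 := by
    have h4 : (g : (V × (Fin 1 ⊕ Fin 1 → F)) ≃ₗ[F] (V × (Fin 1 ⊕ Fin 1 → F))) (hs (F := F) (V := V)) = hs (F := F) (V := V) := by
      rw [hg, coe_mul_apply, prI_apply, hs, map_zero, coe_one_apply]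
      rw [← hs, El_apply, polar_hs_inl, pself, q_hs]
      simp
    have h5 : polar (Q.prod (qfPlus 1 F)) ((g : (V × (Fin 1 ⊕ Fin 1 → F)) ≃ₗ[F] (V × (Fin 1 ⊕ Fin 1 → F))) x) (hs (F := F) (V := V)) = 1 := by
      conv_lhs => rw [← h4]
      rw [OGrp_polar, hx, polar_hs_hs']
    rw [hy, pal, h5, hx, polar_hs_hs', one_add_one_eq_two, h2]
  have hfin : ns g 4 x = (- polar Q b e) • hs (F := F) (V := V) := by
    rw [hns, El_apply, hya, hpe]
    simp only [zero_smul, sub_zero, mul_zero]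
    have h6 : y + (-polar Q b e) • hs (F := F) (V := V) + y = (y + y) + (-polar Q b e) • hs (F := F) (V := V) := by abel
    rw [h6, hneg, zero_add]
  rw [hfin]
  intro h0
  have h3 := congrArg (fun z : V × (Fin 1 ⊕ Fin 1 → F) => z.2 (Sum.inl 0)) h0
  simp only [hs, Prod.smul_snd, Pi.smul_apply, Pi.single_eq_same, smul_eq_mul, mul_one] at h3
  change -polar Q b e = 0 at h3
  rw [neg_eq_zero, he', psr] at h3
  have h4 : (Q w)⁻¹ ≠ 0 := inv_ne_zero hw
  exact (mul_ne_zero (mul_ne_zero h4 hbw) hbw) h3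

end lift

end Cfsg.Agent.H39.QOrd
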