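import Mathlib
import Cfsg.Agent.H39.QUni
import Cfsg.Agent.H42.SpAnal
import Cfsg.Agent.Witt.Bases

/-!
Orders of isometries of symplectic spaces in characteristic two: torus part and unipotent part.
-/

set_option autoImplicit false

namespace Cfsg.Agent.H39.QOrd

open Module QuadraticMap Cfsg.Agent.Orth Cfsg.Agent.OCase Cfsg.Agent.H39.EForm Cfsg.Agent.H39.SpecBC
open Cfsg.Agent.H42.SpSpec

/-- least common multiples of divisors of `q ^ b ± 1` -/
inductive TD (q : ℕ) : ℕ → ℕ → Prop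
  | nil : TD q 0 1
  | cons {a σ b τ : ℕ} : TD q a σ → 1 ≤ b → (τ ∣ q ^ b + 1 ∨ τ ∣ q ^ b - 1) → TD q (a + b) (Nat.lcm σ τ)

theorem TD.one {q b τ : ℕ} (hb : 1 ≤ b) (h : τ ∣ q ^ b + 1 ∨ τ ∣ q ^ b - 1) : TD q b τ := by
  have := TD.nil.cons hb h
  rwa [zero_add, Nat.lcm_one_left] at this

theorem TD.add {q a σ b τ : ℕ} (h1 : TD q a σ) (h2 : TD q b τ) : TD q (a + b) (Nat.lcm σ τ) := by
  induction h2 with
  | nil => rwa [add_zero, Nat.lcm_one_right]
  | cons h hb hd ih =>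
    rw [← add_assoc, ← Nat.lcm_assoc]
    exact ih.cons hb hd

theorem TD.odd {q a σ : ℕ} (hq : 2 ∣ q) (hq2 : 2 ≤ q) (h : TD q a σ) : Odd σ := by
  induction h with
  | nil => exact odd_one
  | @cons a σ b τ h hb hd ih =>
    have h1 : 2 ∣ q ^ b := dvd_pow hq (by omega)
    have h2 : 0 < q ^ b := by positivity
    have h3 : Odd τ := by
      rcases hd with hd | hd
      · refine Odd.of_dvd_nat ?_ hd
        rw [Nat.odd_iff]; omega
      · refine Odd.of_dvd_nat ?_ hd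
        rw [Nat.odd_iff]; omega
    exact Odd.of_dvd_nat (ih.mul h3) (Nat.lcm_dvd_mul σ τ)

section anal

theorem sp_dec.{u, v} {F : Type u} [Field F] {V : Type v} [AddCommGroup V] [Module F V] [Module.Finite F V]
    {B : LinearMap.BilinForm F V} (hA : B.IsAlt) (hB : B.Nondegenerate) {n : ℕ} (hV : finrank F V = 2 * n)
    {T : V →ₗ[F] V} (hT : ∀ u v, B (T u) (T v) = B u v) (hdec : Dec B T) :
    ∃ (V₁ V₂ : Type v) (_ : AddCommGroup V₁) (_ : Module F V₁) (_ : Module.Finite F V₁)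
      (_ : AddCommGroup V₂) (_ : Module F V₂) (_ : Module.Finite F V₂) (B₁ : LinearMap.BilinForm F V₁)
      (B₂ : LinearMap.BilinForm F V₂) (T₁ : V₁ →ₗ[F] V₁) (T₂ : V₂ →ₗ[F] V₂) (n₁ n₂ : ℕ),
      finrank F V₁ = 2 * n₁ ∧ finrank F V₂ = 2 * n₂ ∧ 1 ≤ n₁ ∧ 1 ≤ n₂ ∧ n₁ + n₂ = n ∧ B₁.IsAlt ∧ B₂.IsAlt ∧
      B₁.Nondegenerate ∧ B₂.Nondegenerate ∧ (∀ u v, B₁ (T₁ u) (T₁ v) = B₁ u v) ∧
      (∀ u v, B₂ (T₂ u) (T₂ v) = B₂ u v) ∧ ∀ N : ℕ, T ^ N = 1 ↔ (T₁ ^ N = 1 ∧ T₂ ^ N = 1) := by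
  obtain ⟨V₁, V₂, hc, h1, h2, hT1, hT2, ho⟩ := hdec
  have ho' : ∀ u ∈ V₂, ∀ v ∈ V₁, B u v = 0 := by
    intro u hu v hv
    rw [← LinearMap.BilinForm.IsAlt.neg_eq hA, ho v hv u hu, neg_zero]
  have nd : ∀ (W W' : Submodule F V), IsCompl W W' → (∀ u ∈ W, ∀ v ∈ W', B u v = 0) →
      (B.restrict W).Nondegenerate := by
    intro W W' hWW ho
    have hleft : ∀ x : W, (∀ y : W, B (x : V) (y : V) = 0) → x = 0 := by
      intro x hx
      apply Subtype.ext
      apply hB.1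
      intro y
      obtain ⟨a, ha, b, hb, rfl⟩ := Submodule.mem_sup.mp (by rw [hWW.sup_eq_top]; trivial : y ∈ W ⊔ W')
      rw [map_add, hx ⟨a, ha⟩, ho x x.2 b hb, add_zero]
    refine ⟨fun x hx => hleft x fun y => hx y, fun x hx => hleft x fun y => ?_⟩
    rw [← LinearMap.BilinForm.IsAlt.neg_eq hA]
    have : B (y : V) (x : V) = 0 := hx y
    rw [this, neg_zero]
  have alt : ∀ W : Submodule F V, (B.restrict W).IsAlt := fun W x => hA x
  have nd1 := nd V₁ V₂ hc ho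
  have nd2 := nd V₂ V₁ hc.symm ho'
  obtain ⟨n₁, -, -, -, -, -, -, hn₁⟩ := Cfsg.Agent.Witt.exists_darboux (B.restrict V₁) (alt V₁) nd1
  obtain ⟨n₂, -, -, -, -, -, -, hn₂⟩ := Cfsg.Agent.Witt.exists_darboux (B.restrict V₂) (alt V₂) nd2
  have hn := Submodule.finrank_add_eq_of_isCompl hc
  have p1 : 0 < finrank F V₁ := by
    rw [Module.finrank_pos_iff, Submodule.nontrivial_iff_ne_bot]
    exact h1
  have p2 : 0 < finrank F V₂ := by
    rw [Module.finrank_pos_iff, Submodule.nontrivial_iff_ne_bot]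
    exact h2
  refine ⟨V₁, V₂, inferInstance, inferInstance, inferInstance, inferInstance, inferInstance, inferInstance,
    B.restrict V₁, B.restrict V₂, T.restrict hT1, T.restrict hT2, n₁, n₂, hn₁.symm, hn₂.symm, by omega, by omega, by omega,
    alt V₁, alt V₂, nd1, nd2, fun u v => hT u v, fun u v => hT u v, fun N => ?_⟩
  have e1 : ∀ v, (((T.restrict hT1) ^ N : V₁ →ₗ[F] V₁) v : V) = (T ^ N) v :=
    fun v => Cfsg.Agent.H42.IrrLin.coe_pow_restrict T V₁ hT1 N v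
  have e2 : ∀ v, (((T.restrict hT2) ^ N : V₂ →ₗ[F] V₂) v : V) = (T ^ N) v :=
    fun v => Cfsg.Agent.H42.IrrLin.coe_pow_restrict T V₂ hT2 N v
  constructor
  · intro h
    constructor
    · apply LinearMap.ext
      intro v
      apply Subtype.ext
      rw [e1, h]
      rfl
    · apply LinearMap.ext
      intro v
      apply Subtype.ext
      rw [e2, h]
      rfl
  · rintro ⟨a1, a2⟩
    apply LinearMap.ext
    intro v
    obtain ⟨a, ha, b, hb, rfl⟩ := Submodule.mem_sup.mp (by rw [hc.sup_eq_top]; trivial : v ∈ V₁ ⊔ V₂)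
    have f1 := e1 ⟨a, ha⟩
    have f2 := e2 ⟨b, hb⟩
    rw [a1] at f1
    rw [a2] at f2
    rw [map_add, ← f1, ← f2]
    rfl

theorem sp_anal.{u, v} {F : Type u} [Field F] [Finite F] [CharP F 2] : ∀ (n : ℕ) (V : Type v) [AddCommGroup V]
    [Module F V] [Module.Finite F V] (B : LinearMap.BilinForm F V), finrank F V = 2 * n → B.IsAlt →
    B.Nondegenerate → ∀ T : V →ₗ[F] V, (∀ u v, B (T u) (T v) = B u v) → 0 < orderOf T →
    ∃ a m k σ, a + m = n ∧ (k = 0 ∨ 2 ^ (k - 1) < 2 * m) ∧ TD (Nat.card F) a σ ∧ orderOf T ∣ 2 ^ k * σ := by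
  intro n
  induction n using Nat.strong_induction_on with
  | _ n ih =>
  intro V _ _ _ B hV hA hB T hT ho
  rcases Nat.eq_zero_or_pos n with rfl | hn
  · haveI : Subsingleton V := Module.finrank_zero_iff.1 (by rw [hV])
    refine ⟨0, 0, 0, 1, rfl, Or.inl rfl, TD.nil, ?_⟩
    rw [pow_zero, mul_one]
    exact orderOf_dvd_of_pow_eq_one (LinearMap.ext fun v => Subsingleton.elim _ _)
  by_cases hdec : Dec B T
  · obtain ⟨V₁, V₂, i1, i2, i3, j1, j2, j3, B₁, B₂, T₁, T₂, n₁, n₂, hV₁, hV₂, hn₁, hn₂, hnn, hA₁, hA₂, hB₁, hB₂, hT₁,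
      hT₂, hTT⟩ := sp_dec hA hB hV hT hdec
    have h0 := (hTT _).1 (pow_orderOf_eq_one T)
    have ho₁ : 0 < orderOf T₁ := orderOf_pos_iff.2 (isOfFinOrder_iff_pow_eq_one.2 ⟨_, ho, h0.1⟩)
    have ho₂ : 0 < orderOf T₂ := orderOf_pos_iff.2 (isOfFinOrder_iff_pow_eq_one.2 ⟨_, ho, h0.2⟩)
    obtain ⟨a₁, m₁, k₁, σ₁, e₁, f₁, t₁, d₁⟩ := ih n₁ (by omega) V₁ B₁ hV₁ hA₁ hB₁ T₁ hT₁ ho₁
    obtain ⟨a₂, m₂, k₂, σ₂, e₂, f₂, t₂, d₂⟩ := ih n₂ (by omega) V₂ B₂ hV₂ hA₂ hB₂ T₂ hT₂ ho₂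
    refine ⟨a₁ + a₂, m₁ + m₂, max k₁ k₂, Nat.lcm σ₁ σ₂, by omega, ?_, t₁.add t₂, ?_⟩
    · rcases le_total k₁ k₂ with hk | hk
      · rw [max_eq_right hk]
        rcases f₂ with f₂ | f₂
        · exact Or.inl f₂
        · right; omega
      · rw [max_eq_left hk]
        rcases f₁ with f₁ | f₁
        · exact Or.inl f₁
        · right; omega
    · rw [orderOf_dvd_iff_pow_eq_one, hTT, ← orderOf_dvd_iff_pow_eq_one, ← orderOf_dvd_iff_pow_eq_one]
      exact ⟨d₁.trans (mul_dvd_mul (pow_dvd_pow 2 (le_max_left _ _)) (Nat.dvd_lcm_left _ _)),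
        d₂.trans (mul_dvd_mul (pow_dvd_pow 2 (le_max_right _ _)) (Nat.dvd_lcm_right _ _))⟩
  · obtain ⟨j, σ, hσ2, hT0⟩ := Nat.exists_eq_pow_mul_and_not_dvd ho.ne' 2 (by norm_num)
    have hσodd : Odd σ := by rw [Nat.odd_iff]; omega
    rcases Nat.eq_zero_or_pos j with rfl | hj
    · rw [pow_zero, one_mul] at hT0
      refine ⟨n, 0, 0, σ, by omega, Or.inl rfl, ?_, by rw [pow_zero, one_mul, hT0]⟩
      have := semisimple_case 2 hn hV hA hB hT (by rw [hT0]; exact hσodd) (by rw [hT0]; exact hσ2) hdec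
      rw [hT0] at this
      exact TD.one hn this
    obtain ⟨i, rfl⟩ : ∃ i, j = i + 1 := ⟨j - 1, by omega⟩
    by_cases hσ1 : σ = 1
    · rw [hσ1, mul_one] at hT0
      refine ⟨0, n, i + 1, 1, by omega, Or.inr ?_, TD.nil, by rw [mul_one, hT0]⟩
      rw [Nat.add_sub_cancel]
      exact unipotent_case 2 hV T hT0
    · obtain ⟨a, ha1, han, had⟩ := mixed_case 2 hV hA hB hT hT0 hσ2 hσodd hσ1 hdec
      refine ⟨a, n - a, i + 1, σ, ?_, Or.inr ?_, TD.one ha1 had, by rw [hT0]⟩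
      · have : 1 ≤ 2 ^ i + 1 := Nat.le_add_left _ _
        have h1 : 1 * a ≤ (2 ^ i + 1) * a := Nat.mul_le_mul_right a this
        omega
      · rw [Nat.add_sub_cancel]
        have h1 : (2 ^ i + 1) * a = 2 ^ i * a + a := by ring
        have h2 : 2 ^ i ≤ 2 ^ i * a := Nat.le_mul_of_pos_right _ ha1
        have h3 : 0 < 2 ^ i := by positivity
        omega

end anal

section two

theorem exists_anis {F V : Type*} [Field F] [AddCommGroup V] [Module F V] {Q : QuadraticForm F V}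
    (hQ : (polarBilin Q).Nondegenerate) (hV : Nontrivial V) : ∃ w, Q w ≠ 0 := by
  by_contra hcon
  push Not at hcon
  obtain ⟨x, hx⟩ := exists_ne (0 : V)
  apply hx
  apply hQ.1
  intro y
  change polar Q x y = 0
  rw [polar, hcon, hcon, hcon, sub_zero, sub_zero]

theorem ns_refl {F V : Type*} [Field F] [AddCommGroup V] [Module F V] {Q : QuadraticForm F V} (h2 : (2 : F) = 0)
    {w b : V} (hw : Q w ≠ 0) (hbw : polar Q b w ≠ 0) : ns (refl Q w hw) 2 b ≠ 0 := by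
  have hnegV : ∀ v : V, v + v = 0 := by
    intro v; rw [← two_smul F, h2, zero_smul]
  have h3 : ns (refl Q w hw) 2 b = (refl Q w hw : V ≃ₗ[F] V) b + b := by
    rw [ns_succ, ns_succ, ns, Finset.sum_range_zero, map_zero, zero_add]
  rw [h3, refl_apply]
  have h4 : b - ((Q w)⁻¹ * polar Q b w) • w + b = (b + b) - ((Q w)⁻¹ * polar Q b w) • w := by abel
  rw [h4, hnegV, zero_sub, neg_ne_zero]
  have hw0 : w ≠ 0 := by rintro rfl; exact hw (QuadraticMap.map_zero Q)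
  exact smul_ne_zero (mul_ne_zero (inv_ne_zero hw) hbw) hw0

theorem orderOf_refl {F V : Type*} [Field F] [AddCommGroup V] [Module F V] {Q : QuadraticForm F V}
    {w b : V} (hw : Q w ≠ 0) (hbw : polar Q b w ≠ 0) : orderOf (refl Q w hw) = 2 := by
  apply orderOf_eq_prime
  · rw [pow_two, refl_mul_self]
  · intro h
    have h1 : (refl Q w hw : V ≃ₗ[F] V) b = b := by rw [h, coe_one_apply]
    rw [refl_apply, sub_eq_self] at h1
    have hw0 : w ≠ 0 := by rintro rfl; exact hw (QuadraticMap.map_zero Q)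
    exact smul_ne_zero (mul_ne_zero (inv_ne_zero hw) hbw) hw0 h1

variable {F : Type*} [Field F] [Finite F]

/-- there is an isometry of order `N` of type `ε` with nonzero norm -/
def QN.{u, v} (F : Type u) [Field F] (ε : Prop) (d N : ℕ) : Prop :=
  ∃ (V : Type v) (_ : AddCommGroup V) (_ : Module F V) (_ : FiniteDimensional F V) (Q : QuadraticForm F V)
    (g : OGrp Q) (b : V), finrank F V = 2 * d ∧ (polarBilin Q).Nondegenerate ∧ (IsPlus Q ↔ ε) ∧ orderOf g = N ∧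
    ns g N b ≠ 0

theorem QN.qo.{u, v} {F : Type u} [Field F] {ε : Prop} {d N : ℕ} (h : QN.{u, v} F ε d N) : QO.{u, v} F ε d N := by
  obtain ⟨V, i1, i2, i3, Q, g, b, h1, h2, h3, h4, -⟩ := h
  exact ⟨V, i1, i2, i3, Q, g, h1, h2, h3, h4⟩

omit [Finite F] in
theorem finrank_lift {V : Type*} [AddCommGroup V] [Module F V] [FiniteDimensional F V] {d : ℕ}
    (hV : finrank F V = 2 * d) : finrank F (V × (Fin 1 ⊕ Fin 1 → F)) = 2 * (d + 1) := by
  rw [Module.finrank_prod, hV, finrank_fintype_fun_eq_card, Fintype.card_sum, Fintype.card_fin]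
  ring

theorem isPlus_lift {V : Type*} [AddCommGroup V] [Module F V] [FiniteDimensional F V] {Q : QuadraticForm F V}
    (hQ : (polarBilin Q).Nondegenerate) {d : ℕ} (hV : finrank F V = 2 * d) {ε : Prop} (h : IsPlus Q ↔ ε) :
    IsPlus (Q.prod (qfPlus 1 F)) ↔ ε := by
  rw [isPlus_prod_iff hQ (qfPlus_nondegenerate 1 F) (by rw [hV]; exact even_two_mul d)
    (by rw [finrank_fintype_fun_eq_card, Fintype.card_sum, Fintype.card_fin]; exact even_two_mul 1), h]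
  simp only [isPlus_qfPlus 1, iff_true]

theorem QN.lift.{u} {F : Type u} [Field F] [Finite F] (h2 : (2 : F) = 0) {ε : Prop} {d N : ℕ}
    (h : QN.{u, u} F ε d N) : QO.{u, u} F ε (d + 1) (2 * N) := by
  obtain ⟨V, i1, i2, i3, Q, g, b, hV, hQ, ht, hg, hb⟩ := h
  exact ⟨V × (Fin 1 ⊕ Fin 1 → F), inferInstance, inferInstance, inferInstance, Q.prod (qfPlus 1 F), _,
    finrank_lift hV, prod_nondeg hQ (qfPlus_nondegenerate 1 F), isPlus_lift hQ hV ht, lift_order h2 hQ g b hg hb⟩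

/-- planes of both types -/
theorem exists_plane.{u} (F : Type u) [Field F] [Finite F] (ε : Prop) :
    ∃ (V : Type u) (_ : AddCommGroup V) (_ : Module F V) (_ : FiniteDimensional F V) (Q : QuadraticForm F V)
    (w b : V), finrank F V = 2 * 1 ∧ (polarBilin Q).Nondegenerate ∧ (IsPlus Q ↔ ε) ∧ Q w ≠ 0 ∧ polar Q b w ≠ 0 := by
  obtain ⟨V, i1, i2, i3, Q, g, hV, hQ, ht, -⟩ := qo_one F ε (d := 1) le_rfl
  haveI : Nontrivial V := Module.finrank_pos_iff.mp (by omega : 0 < finrank F V)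
  obtain ⟨w, hw⟩ := exists_anis hQ inferInstance
  obtain ⟨b, hb⟩ : ∃ b, polar Q b w ≠ 0 := by
    by_contra hcon
    push Not at hcon
    have : w = 0 := hQ.1 w fun y => by
      change polar Q w y = 0
      rw [pc, hcon]
    exact hw (by rw [this, QuadraticMap.map_zero])
  exact ⟨V, i1, i2, i3, Q, w, b, hV, hQ, ht, hw, hb⟩

theorem qn_two.{u} {F : Type u} [Field F] [Finite F] (h2 : (2 : F) = 0) (ε : Prop) : QN.{u, u} F ε 1 2 := by
  obtain ⟨V, i1, i2, i3, Q, w, b, hV, hQ, ht, hw, hb⟩ := exists_plane F ε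
  exact ⟨V, i1, i2, i3, Q, refl Q w hw, b, hV, hQ, ht, orderOf_refl hw hb, ns_refl h2 hw hb⟩

theorem qn_four.{u} {F : Type u} [Field F] [Finite F] (h2 : (2 : F) = 0) (ε : Prop) : QN.{u, u} F ε 2 4 := by
  obtain ⟨V, i1, i2, i3, Q, w, b, hV, hQ, ht, hw, hb⟩ := exists_plane F ε
  exact ⟨V × (Fin 1 ⊕ Fin 1 → F), inferInstance, inferInstance, inferInstance, Q.prod (qfPlus 1 F), _, _,
    finrank_lift hV, prod_nondeg hQ (qfPlus_nondegenerate 1 F), isPlus_lift hQ hV ht,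
    lift_order h2 hQ (refl Q w hw) b (orderOf_refl hw hb) (ns_refl h2 hw hb), ns_four h2 hQ hw hb⟩

theorem qo_pow_two.{u} {F : Type u} [Field F] [Finite F] (h2 : (2 : F) = 0) (ε : Prop) {k m : ℕ} (hk : 1 ≤ k)
    (hkm : 2 ^ (k - 1) < 2 * m) (hm : m ≤ 4) : QO.{u, u} F ε m (2 ^ k) := by
  have hk4 : k < 4 := by
    by_contra hcon
    push Not at hcon
    have : 2 ^ 3 ≤ 2 ^ (k - 1) := Nat.pow_le_pow_right (by norm_num) (by omega)
    omega
  interval_cases k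
  · exact (qn_two h2 ε).qo.pad' (by omega)
  · exact (qn_four h2 ε).qo.pad' (by omega)
  · exact ((qn_four h2 ε).lift h2).pad' (by omega)

end two

theorem qo_lift.{u} {F : Type u} [Field F] [Finite F] {ε : Prop} {d N : ℕ} (h : QO.{u, 0} F ε d N) :
    QO.{u, u} F ε d N := h.pad' le_rfl

theorem TD.qo.{u} {F : Type u} [Field F] [Finite F] [CharP F 2] {a σ : ℕ} (h : TD (Nat.card F) a σ) :
    ∃ δ, QO.{u, u} F δ a σ := by
  haveI : Fact (Nat.Prime 2) := ⟨Nat.prime_two⟩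
  have h2 : (2 : F) = 0 := CharTwo.two_eq_zero
  have hq : 1 < Nat.card F := Finite.one_lt_card
  induction h with
  | nil => exact ⟨True, qo_one_true F 0⟩
  | @cons a σ b τ h hb hd ih =>
    obtain ⟨δ, hδ⟩ := ih
    rcases hd with hd | hd
    · refine ⟨_, hδ.add (qo_lift ((qo_minus 2 hb ?_).dvd (Nat.succ_ne_zero _) hd))⟩
      rintro ⟨h3, -⟩
      haveI := Fintype.ofFinite F
      rw [Nat.card_eq_fintype_card] at h3
      obtain ⟨n, -, hn⟩ := FiniteField.card F 2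
      rw [h3] at hn
      have : 2 ∣ 3 := by rw [hn]; exact dvd_pow_self 2 n.ne_zero
      omega
    · refine ⟨_, hδ.add (qo_lift ((qo_plus 2 hb).dvd ?_ hd))⟩
      have : 1 < Nat.card F ^ b := Nat.one_lt_pow (by omega) hq
      omega

end Cfsg.Agent.H39.QOrd
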