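import Mathlib
import Cfsg.Agent.H39.QTD

/-!
Orders of isometries of symplectic spaces of dimension eight in characteristic two are orders of
isometries of quadratic spaces of minus type.
-/

set_option autoImplicit false

namespace Cfsg.Agent.H39.QOrd

open Module QuadraticMap Cfsg.Agent.Orth Cfsg.Agent.OCase Cfsg.Agent.H39.EForm Cfsg.Agent.H39.SpecBC
open Cfsg.Agent.H42.SpSpec

theorem TD.zero {q σ : ℕ} (h : TD q 0 σ) : σ = 1 := by
  generalize hn : 0 = n at h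
  cases h with
  | nil => rfl
  | cons h hb hd => omega

theorem pm_dvd {q τ : ℕ} (h : τ ∣ q ^ 1 + 1 ∨ τ ∣ q ^ 1 - 1) : τ ∣ q ^ 2 - 1 := by
  have : q ^ 2 - 1 = (q + 1) * (q - 1) := by
    have := Nat.sq_sub_sq q 1
    rwa [one_pow] at this
  rw [this]
  rw [pow_one] at h
  rcases h with h | h
  · exact h.trans (Dvd.intro _ rfl)
  · exact h.trans (Dvd.intro_left _ rfl)

theorem pm_dvd2 {q τ : ℕ} (h : τ ∣ q ^ 2 + 1 ∨ τ ∣ q ^ 2 - 1) : τ ∣ q ^ 4 - 1 := by
  have : q ^ 4 - 1 = (q ^ 2 + 1) * (q ^ 2 - 1) := by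
    have := Nat.sq_sub_sq (q ^ 2) 1
    rwa [one_pow, ← pow_mul] at this
  rw [this]
  rcases h with h | h
  · exact h.trans (Dvd.intro _ rfl)
  · exact h.trans (Dvd.intro_left _ rfl)

theorem TD.one' {q σ : ℕ} (h : TD q 1 σ) : σ ∣ q ^ 1 + 1 ∨ σ ∣ q ^ 1 - 1 := by
  generalize hn : 1 = n at h
  cases h with
  | nil => omega
  | @cons a σ b τ h hb hd =>
    obtain ⟨rfl, rfl⟩ : a = 0 ∧ b = 1 := by omega
    rw [h.zero, Nat.lcm_one_left]
    exact hd

theorem TD.two {q σ : ℕ} (h : TD q 2 σ) : σ ∣ q ^ 2 + 1 ∨ σ ∣ q ^ 2 - 1 := by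
  generalize hn : 2 = n at h
  cases h with
  | nil => omega
  | @cons a σ b τ h hb hd =>
    have hb : b = 1 ∨ b = 2 := by omega
    rcases hb with rfl | rfl
    · obtain rfl : a = 1 := by omega
      exact Or.inr (Nat.lcm_dvd (pm_dvd h.one') (pm_dvd hd))
    · obtain rfl : a = 0 := by omega
      rw [h.zero, Nat.lcm_one_left]
      exact hd

theorem TD.three {q σ : ℕ} (h : TD q 3 σ) : (σ ∣ q ^ 3 + 1 ∨ σ ∣ q ^ 3 - 1) ∨ σ ∣ q ^ 4 - 1 := by
  generalize hn : 3 = n at h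
  cases h with
  | nil => omega
  | @cons a σ b τ h hb hd =>
    have hb : b = 1 ∨ b = 2 ∨ b = 3 := by omega
    rcases hb with rfl | rfl | rfl
    · obtain rfl : a = 2 := by omega
      exact Or.inr (Nat.lcm_dvd (pm_dvd2 h.two) (pm_dvd2 (Or.inr (pm_dvd hd))))
    · obtain rfl : a = 1 := by omega
      exact Or.inr (Nat.lcm_dvd (pm_dvd2 (Or.inr (pm_dvd h.one'))) (pm_dvd2 hd))
    · obtain rfl : a = 0 := by omega
      rw [h.zero, Nat.lcm_one_left]
      exact Or.inl hd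

theorem TD.four {q σ : ℕ} (h : TD q 4 σ) : σ ∣ q ^ 4 + 1 ∨ σ ∣ q ^ 4 - 1 ∨
    ∃ σ' τ, σ = Nat.lcm σ' τ ∧ (σ' ∣ q ^ 3 + 1 ∨ σ' ∣ q ^ 3 - 1) ∧ (τ ∣ q ^ 1 + 1 ∨ τ ∣ q ^ 1 - 1) := by
  generalize hn : 4 = n at h
  cases h with
  | nil => omega
  | @cons a σ b τ h hb hd =>
    have hb : b = 1 ∨ b = 2 ∨ b = 3 ∨ b = 4 := by omega
    rcases hb with rfl | rfl | rfl | rfl
    · obtain rfl : a = 3 := by omega
      rcases h.three with h | h
      · exact Or.inr (Or.inr ⟨σ, τ, rfl, h, hd⟩)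
      · exact Or.inr (Or.inl (Nat.lcm_dvd h (pm_dvd2 (Or.inr (pm_dvd hd)))))
    · obtain rfl : a = 2 := by omega
      exact Or.inr (Or.inl (Nat.lcm_dvd (pm_dvd2 h.two) (pm_dvd2 hd)))
    · obtain rfl : a = 1 := by omega
      exact Or.inr (Or.inr ⟨τ, σ, Nat.lcm_comm _ _, hd, h.one'⟩)
    · obtain rfl : a = 0 := by omega
      rw [h.zero, Nat.lcm_one_left]
      rcases hd with hd | hd
      · exact Or.inl hd
      · exact Or.inr (Or.inl hd)

theorem add_one_dvd_cube (q : ℕ) : q ^ 1 + 1 ∣ q ^ 3 + 1 := by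
  have := Odd.nat_add_dvd_pow_add_pow q 1 (by decide : Odd 3)
  rw [one_pow] at this
  rwa [pow_one]

theorem sub_one_dvd_cube (q : ℕ) : q ^ 1 - 1 ∣ q ^ 3 - 1 := by
  have := Nat.sub_dvd_pow_sub_pow q 1 3
  rwa [one_pow, ← pow_one (q), ← pow_mul] at this

section real

variable {F : Type*} [Field F] [Finite F] [CharP F 2]

omit [CharP F 2] in
theorem card_ne_three_of_char_two [CharP F 2] {a : ℕ} : ¬ (Nat.card F = 3 ∧ a = 1) := by
  rintro ⟨h3, -⟩
  haveI := Fintype.ofFinite F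
  rw [Nat.card_eq_fintype_card] at h3
  obtain ⟨n, -, hn⟩ := FiniteField.card F 2
  rw [h3] at hn
  have : 2 ∣ 3 := by rw [hn]; exact dvd_pow_self 2 n.ne_zero
  omega

theorem qo_minus_dvd {a σ : ℕ} (ha : 1 ≤ a) (h : σ ∣ Nat.card F ^ a + 1) : QO.{_, 0} F False a σ := by
  haveI : Fact (Nat.Prime 2) := ⟨Nat.prime_two⟩
  exact (qo_minus 2 ha card_ne_three_of_char_two).dvd (Nat.succ_ne_zero _) h

theorem qo_plus_dvd {a σ : ℕ} (ha : 1 ≤ a) (h : σ ∣ Nat.card F ^ a - 1) : QO.{_, 0} F True a σ := by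
  haveI : Fact (Nat.Prime 2) := ⟨Nat.prime_two⟩
  have hq : 1 < Nat.card F := Finite.one_lt_card
  refine (qo_plus 2 ha).dvd ?_ h
  have : 1 < Nat.card F ^ a := Nat.one_lt_pow (by omega) hq
  omega

theorem card_even : 2 ∣ Nat.card F := by
  haveI := Fintype.ofFinite F
  rw [Nat.card_eq_fintype_card]
  obtain ⟨n, -, hn⟩ := FiniteField.card F 2
  rw [hn]
  exact dvd_pow_self 2 n.ne_zero

theorem TD.qo_four.{u} {F : Type u} [Field F] [Finite F] [CharP F 2] {σ : ℕ} (h : TD (Nat.card F) 4 σ) :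
    QO.{u, u} F False 4 σ := by
  have hq : 1 < Nat.card F := Finite.one_lt_card
  rcases h.four with h | h | ⟨σ', τ, rfl, h1 | h1, h2 | h2⟩
  · exact qo_lift (qo_minus_dvd (by norm_num) h)
  · have e1 := (qo_minus_dvd (F := F) (a := 2) (by norm_num) dvd_rfl).add
      (qo_plus_dvd (F := F) (a := 2) (by norm_num) dvd_rfl)
    have e2 := e1.congr (ε' := False) (by simp)
    have e3 : Nat.lcm (Nat.card F ^ 2 + 1) (Nat.card F ^ 2 - 1) = Nat.card F ^ 4 - 1 := by
      have hc : Nat.Coprime (Nat.card F ^ 2 + 1) (Nat.card F ^ 2 - 1) := by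
        have h4 : 0 < Nat.card F ^ 2 := by positivity
        have h5 : 2 ∣ Nat.card F ^ 2 := dvd_pow card_even (by norm_num)
        have h6 : Nat.card F ^ 2 + 1 = (Nat.card F ^ 2 - 1) + 2 := by omega
        rw [h6, Nat.coprime_self_add_left]
        rw [Nat.coprime_two_left, Nat.odd_iff]
        omega
      rw [hc.lcm_eq_mul]
      have := Nat.sq_sub_sq (Nat.card F ^ 2) 1
      rw [one_pow, ← pow_mul] at this
      exact this.symm
    rw [e3] at e2
    refine qo_lift (e2.dvd ?_ h)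
    have : 1 < Nat.card F ^ 4 := Nat.one_lt_pow (by norm_num) hq
    omega
  · have h3 : Nat.lcm σ' τ ∣ Nat.card F ^ 3 + 1 := Nat.lcm_dvd h1 (h2.trans (add_one_dvd_cube _))
    exact (qo_minus_dvd (by norm_num) h3).pad False (by norm_num)
  · exact qo_lift (((qo_minus_dvd (by norm_num) h1).add (qo_plus_dvd (by norm_num) h2)).congr (by simp))
  · exact qo_lift (((qo_plus_dvd (by norm_num) h1).add (qo_minus_dvd (by norm_num) h2)).congr (by simp))
  · have h3 : Nat.lcm σ' τ ∣ Nat.card F ^ 3 - 1 := Nat.lcm_dvd h1 (h2.trans (sub_one_dvd_cube _))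
    exact (qo_plus_dvd (by norm_num) h3).pad False (by norm_num)

/-- orders of symplectic isometries in dimension eight -/
theorem qo_of_sp.{u, v} {F : Type u} [Field F] [Finite F] [CharP F 2] {V : Type v} [AddCommGroup V]
    [Module F V] [Module.Finite F V] (B : LinearMap.BilinForm F V) (hV : finrank F V = 2 * 4) (hA : B.IsAlt)
    (hB : B.Nondegenerate) (T : V →ₗ[F] V) (hT : ∀ u v, B (T u) (T v) = B u v) (ho : 0 < orderOf T) :
    QO.{u, u} F False 4 (orderOf T) := by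
  obtain ⟨a, m, k, σ, ham, hk, ht, hd⟩ := sp_anal 4 V B hV hA hB T hT ho
  have h2 : (2 : F) = 0 := CharTwo.two_eq_zero
  have hodd := ht.odd card_even Finite.one_lt_card
  have hne : 2 ^ k * σ ≠ 0 := by
    have := hodd.pos
    positivity
  suffices h : QO.{u, u} F False 4 (2 ^ k * σ) from h.dvd hne hd
  rcases Nat.eq_zero_or_pos k with rfl | hk0
  · rw [pow_zero, one_mul]
    rcases Nat.eq_zero_or_pos m with rfl | hm
    · obtain rfl : a = 4 := by omega
      exact ht.qo_four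
    · obtain ⟨δ, hδ⟩ := ht.qo
      exact hδ.pad False (by omega)
  · have hk' : 2 ^ (k - 1) < 2 * m := by omega
    obtain ⟨δ, hδ⟩ := ht.qo
    have h3 := hδ.add (qo_pow_two h2 (¬ δ) hk0 hk' (by omega))
    rw [ham] at h3
    have h4 : Nat.lcm σ (2 ^ k) = 2 ^ k * σ := by
      have : Nat.Coprime σ (2 ^ k) := Nat.Coprime.pow_right k (Nat.coprime_two_right.2 hodd)
      rw [this.lcm_eq_mul, mul_comm]
    rw [h4] at h3
    exact h3.congr (by by_cases h : δ <;> simp [h])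

end real

theorem not_isPlus_minus {F : Type*} [Field F] [Finite F] (m : ℕ) {a b : F}
    (han : ∀ z₁ z₂ : F, z₁ ^ 2 + a * z₁ * z₂ + b * z₂ ^ 2 = 0 → z₁ = 0 ∧ z₂ = 0) : ¬ IsPlus (qfMinus m F a b) := by
  rintro ⟨U, hU, hd⟩
  have h1 := TS.finrank_le_minus (disc_ne_zero_of_aniso han) han hU
  rw [finrank_fintype_fun_eq_card, Fintype.card_sum, Fintype.card_sum, Fintype.card_fin, Fintype.card_fin] at hd
  omega

end Cfsg.Agent.H39.QOrd
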