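import Mathlib
import Cfsg.Agent.H39.QMin
import Cfsg.Agent.Orth.Comm

/-!
Elements of the commutator subgroup of the orthogonal group with nonzero norm (characteristic two).
-/

set_option autoImplicit false

namespace Cfsg.Agent.H39.QOrd

open Module QuadraticMap Cfsg.Agent.Orth Cfsg.Agent.OCase Cfsg.Agent.H39.EForm Cfsg.Agent.H39.SpecBC
open Cfsg.Agent.H42.SpSpec

section ns

variable {F V : Type*} [Field F] [AddCommGroup V] [Module F V] {Q : QuadraticForm F V}

theorem ns_zero (g : OGrp Q) (b : V) : ns g 0 b = 0 := by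
  rw [ns, Finset.sum_range_zero]

theorem ns_one (g : OGrp Q) (b : V) : ns g 1 b = b := by
  rw [ns, Finset.sum_range_one, pow_zero, coe_one_apply]

theorem ns_two (g : OGrp Q) (b : V) : ns g 2 b = (g : V ≃ₗ[F] V) b + b := by
  rw [ns_succ, ns_one]

theorem ns_add (g : OGrp Q) (m n : ℕ) (b : V) :
    ns g (m + n) b = ns g m b + ((g ^ m : OGrp Q) : V ≃ₗ[F] V) (ns g n b) := by
  rw [ns, Finset.sum_range_add, ns, ns, map_sum]
  congr 1
  refine Finset.sum_congr rfl fun i _ => ?_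
  rw [pow_add, coe_mul_apply]

theorem ns_mul (g : OGrp Q) {N : ℕ} (hN : g ^ N = 1) (t : ℕ) (b : V) : ns g (N * t) b = (t : F) • ns g N b := by
  induction t with
  | zero => rw [mul_zero, ns_zero, Nat.cast_zero, zero_smul]
  | succ t ih =>
    rw [mul_add, mul_one, ns_add, ih, pow_mul, hN, one_pow, coe_one_apply, Nat.cast_add, Nat.cast_one, add_smul,
      one_smul]

theorem ns_mul_odd (h2 : (2 : F) = 0) (g : OGrp Q) {N : ℕ} (hN : g ^ N = 1) {t : ℕ} (ht : Odd t) (b : V) :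
    ns g (N * t) b = ns g N b := by
  rw [ns_mul g hN]
  obtain ⟨k, rfl⟩ := ht
  rw [Nat.cast_add, Nat.cast_mul, Nat.cast_ofNat, h2, zero_mul, Nat.cast_one, zero_add, one_smul]

theorem ns_prI {W : Type*} [AddCommGroup W] [Module F W] {S : QuadraticForm F W} (g : OGrp Q) (h : OGrp S)
    (N : ℕ) (x : V × W) : ns (prI g h) N x = (ns g N x.1, ns h N x.2) := by
  induction N with
  | zero => rw [ns_zero, ns_zero, ns_zero]; rfl
  | succ N ih => rw [ns_succ, ih, ns_succ, ns_succ, prI_apply]; rfl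

theorem prI_refl_left {W : Type*} [AddCommGroup W] [Module F W] {S : QuadraticForm F W} {w : V} (hw : Q w ≠ 0) :
    ∃ h, prI (refl Q w hw) (1 : OGrp S) = refl (Q.prod S) (w, 0) h := by
  have h1 : (Q.prod S) (w, 0) = Q w := by
    rw [QuadraticMap.prod_apply, QuadraticMap.map_zero, add_zero]
  have h2 : (Q.prod S) (w, 0) ≠ 0 := by rw [h1]; exact hw
  refine ⟨h2, OGrp_ext fun x => ?_⟩
  rw [prI_apply, refl_apply, refl_apply, coe_one_apply, h1, QuadraticMap.polar_prod, polar_zero_right, add_zero]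
  ext
  · rfl
  · simp

theorem prI_refl_right {W : Type*} [AddCommGroup W] [Module F W] {S : QuadraticForm F W} {w : W} (hw : S w ≠ 0) :
    ∃ h, prI (1 : OGrp Q) (refl S w hw) = refl (Q.prod S) (0, w) h := by
  have h1 : (Q.prod S) (0, w) = S w := by
    rw [QuadraticMap.prod_apply, QuadraticMap.map_zero, zero_add]
  have h2 : (Q.prod S) (0, w) ≠ 0 := by rw [h1]; exact hw
  refine ⟨h2, OGrp_ext fun x => ?_⟩
  rw [prI_apply, refl_apply, refl_apply, coe_one_apply, h1, QuadraticMap.polar_prod, polar_zero_right, zero_add]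
  ext
  · simp
  · rfl

/-- products of two reflections are in the commutator subgroup (characteristic two) -/
theorem refl_mul_refl_mem [Finite F] [FiniteDimensional F V] (h2 : (2 : F) = 0)
    (hQ : (polarBilin Q).Nondegenerate) {v w : V} (hv : Q v ≠ 0) (hw : Q w ≠ 0) :
    refl Q v hv * refl Q w hw ∈ commutator (OGrp Q) := by
  have := reflProd_mem_commutator hQ (l := [⟨v, hv⟩, ⟨w, hw⟩]) (by simp) (isSquare_of_two_eq_zero h2 _)
  simpa [reflProd] using this

theorem odd_mem_commutator [Finite F] [FiniteDimensional F V] (hQ : (polarBilin Q).Nondegenerate) (g : OGrp Q)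
    (hg : Odd (orderOf g)) : g ∈ commutator (OGrp Q) := by
  obtain ⟨k, hk⟩ := hg
  have h1 : g = g ^ (k + 1) * g ^ (k + 1) := by
    rw [← pow_add, show k + 1 + (k + 1) = orderOf g + 1 by omega, pow_succ, pow_orderOf_eq_one, one_mul]
  rw [h1]
  exact mul_self_mem_commutator hQ _

end ns

/-- element of the commutator subgroup of order `N` with nonzero norm -/
def QC.{u, v} (F : Type u) [Field F] (ε : Prop) (d N : ℕ) : Prop :=
  ∃ (V : Type v) (_ : AddCommGroup V) (_ : Module F V) (_ : FiniteDimensional F V) (Q : QuadraticForm F V)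
    (g : OGrp Q) (b : V), finrank F V = 2 * d ∧ (polarBilin Q).Nondegenerate ∧ (IsPlus Q ↔ ε) ∧
    g ∈ commutator (OGrp Q) ∧ orderOf g = N ∧ ns g N b ≠ 0

theorem QC.congr.{u, v} {F : Type u} [Field F] {ε ε' : Prop} {d N : ℕ} (h : QC.{u, v} F ε d N) (he : ε ↔ ε') :
    QC.{u, v} F ε' d N := by
  rw [show ε' = ε from propext he.symm]
  exact h

theorem QC.pad.{u, v} {F : Type u} [Field F] [Finite F] {ε : Prop} {d N : ℕ} (h : QC.{u, v} F ε d N)
    {e : ℕ} (he : d ≤ e) : QC.{u, max v u} F ε e N := by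
  obtain ⟨V, i1, i2, i3, Q, g, b, hV, hQ, ht, hc, hg, hb⟩ := h
  refine ⟨V × (Fin (e - d) ⊕ Fin (e - d) → F), inferInstance, inferInstance, inferInstance,
    Q.prod (qfPlus (e - d) F), prI g 1, (b, 0), ?_, prod_nondeg hQ (qfPlus_nondegenerate (e - d) F), ?_, ?_, ?_, ?_⟩
  · rw [Module.finrank_prod, hV, finrank_fintype_fun_eq_card, Fintype.card_sum, Fintype.card_fin]
    omega
  · rw [isPlus_prod_iff hQ (qfPlus_nondegenerate (e - d) F) (by rw [hV]; exact even_two_mul d)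
      (by rw [finrank_fintype_fun_eq_card, Fintype.card_sum, Fintype.card_fin, ← two_mul]; exact even_two_mul _), ht]
    simp only [isPlus_qfPlus (e - d), iff_true]
  · exact prI_mem_commutator hc (Subgroup.one_mem _)
  · rw [orderOf_prI, orderOf_one, Nat.lcm_one_right, hg]
  · rw [ns_prI]
    intro h0
    exact hb (congrArg Prod.fst h0)

theorem QC.add.{u, v, w} {F : Type u} [Field F] [Finite F] (h2 : (2 : F) = 0) {δ ε : Prop} {a m σ j : ℕ}
    (hσ : QO.{u, v} F δ a σ) (hodd : Odd σ) (h : QC.{u, w} F ε m (2 ^ j)) :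
    QC.{u, max v w} F (δ ↔ ε) (a + m) (2 ^ j * σ) := by
  obtain ⟨V, i1, i2, i3, Q, y, hV, hQ, ht, hy⟩ := hσ
  obtain ⟨W, j1, j2, j3, S, g, b, hW, hS, ht', hc, hg, hb⟩ := h
  have hcop : Nat.Coprime σ (2 ^ j) := Nat.Coprime.pow_right j (Nat.coprime_two_right.2 hodd)
  refine ⟨V × W, inferInstance, inferInstance, inferInstance, Q.prod S, prI y g, (0, b), ?_, prod_nondeg hQ hS,
    ?_, ?_, ?_, ?_⟩
  · rw [Module.finrank_prod, hV, hW]; ring
  · rw [isPlus_prod_iff hQ hS (by rw [hV]; exact even_two_mul a) (by rw [hW]; exact even_two_mul m), ht, ht']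
  · exact prI_mem_commutator (odd_mem_commutator hQ y (by rw [hy]; exact hodd)) hc
  · rw [orderOf_prI, hy, hg, hcop.lcm_eq_mul, mul_comm]
  · rw [ns_prI, ns_mul_odd h2 g (by rw [← hg, pow_orderOf_eq_one]) hodd]
    intro h0
    exact hb (congrArg Prod.snd h0)

/-- transport to a given space of the same type -/
theorem QC.to.{u, v, w} {F : Type u} [Field F] [Finite F] {ε : Prop} {d N : ℕ} (h : QC.{u, v} F ε d N)
    {W : Type w} [AddCommGroup W] [Module F W] [FiniteDimensional F W] {S : QuadraticForm F W}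
    (hS : (polarBilin S).Nondegenerate) (hW : finrank F W = 2 * d) (ht' : IsPlus S ↔ ε) :
    ∃ (g : OGrp S) (b : W), g ∈ commutator (OGrp S) ∧ orderOf g = N ∧ ns g N b ≠ 0 := by
  obtain ⟨V, i1, i2, i3, Q, g, b, hV, hQ, ht, hc, hg, hb⟩ := h
  obtain ⟨e, he⟩ := exists_isom_of_type hQ hS (by rw [hV]; exact even_two_mul d) (by rw [hV, hW])
    (by rw [ht, ht'])
  set τ := AutO.trOE e 1 (fun v => by rw [he, Units.val_one, one_mul]) with hτ
  have hτa : ∀ (k : OGrp Q) (x : V), (τ k : W ≃ₗ[F] W) (e x) = e ((k : V ≃ₗ[F] V) x) := by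
    intro k x
    have : (τ k : W ≃ₗ[F] W) (e x) = e ((k : V ≃ₗ[F] V) (e.symm (e x))) := rfl
    rw [this, LinearEquiv.symm_apply_apply]
  have hτn : ∀ (n : ℕ) (x : V), ns (τ g) n (e x) = e (ns g n x) := by
    intro n x
    rw [ns, ns, map_sum]
    refine Finset.sum_congr rfl fun i _ => ?_
    rw [← map_pow, hτa]
  refine ⟨τ g, e b, ?_, by rw [MulEquiv.orderOf_eq, hg], ?_⟩
  · rwa [← mem_commutator_equiv]
  · rw [hτn]
    intro h0
    exact hb (e.injective (by rw [h0, map_zero]))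

section base

theorem nsc {F V : Type*} [Field F] [AddCommGroup V] [Module F V] {Q : QuadraticForm F V} (h2 : (2 : F) = 0)
    {w b : V} (hw : Q w ≠ 0) (hbw : polar Q b w ≠ 0) : polar Q b ((refl Q w hw : V ≃ₗ[F] V) b) ≠ 0 := by
  rw [refl_apply, pdr, psr, pself, h2, zero_mul, zero_sub, neg_ne_zero]
  exact mul_ne_zero (mul_ne_zero (inv_ne_zero hw) hbw) hbw

/-- the vector for the element of order four, general version -/
theorem ns_four' {F V : Type*} [Field F] [AddCommGroup V] [Module F V] {Q : QuadraticForm F V}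
    (h2 : (2 : F) = 0) {c : OGrp Q} (hc : c * c = 1) {b : V}
    (hbc : polar Q b ((c : V ≃ₗ[F] V) b) ≠ 0) :
    ns (El Q b * prI c (1 : OGrp (qfPlus 1 F))) 4 (hs' (F := F) (V := V)) ≠ 0 := by
  set g := El Q b * prI c (1 : OGrp (qfPlus 1 F)) with hg
  set x := hs' (F := F) (V := V) with hx
  set e := ns c 2 b with he
  have hneg : ∀ v : V × (Fin 1 ⊕ Fin 1 → F), v + v = 0 := by
    intro v; rw [← two_smul F, h2, zero_smul]
  have hpbe : polar Q b e ≠ 0 := by
    rw [he, ns_two, par, pself, h2, zero_mul, add_zero]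
    exact hbc
  have hg2 : g ^ 2 = El Q e := by
    rw [hg, lift_pow, ← he]
    have : c ^ 2 = 1 := by rw [pow_two, hc]
    rw [this, prI_one, mul_one]
  set y := x + (g : (V × (Fin 1 ⊕ Fin 1 → F)) ≃ₗ[F] (V × (Fin 1 ⊕ Fin 1 → F))) x with hy
  have hns : ns g 4 x = (El Q e : (V × (Fin 1 ⊕ Fin 1 → F)) ≃ₗ[F] (V × (Fin 1 ⊕ Fin 1 → F))) y + y := by
    rw [ns, Finset.sum_range_succ, Finset.sum_range_succ, Finset.sum_range_succ, Finset.sum_range_succ,
      Finset.sum_range_zero, pow_zero, pow_one]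
    have h3 : ((g ^ 3 : OGrp (Q.prod (qfPlus 1 F))) : (V × (Fin 1 ⊕ Fin 1 → F)) ≃ₗ[F] (V × (Fin 1 ⊕ Fin 1 → F))) x =
        (El Q e : (V × (Fin 1 ⊕ Fin 1 → F)) ≃ₗ[F] (V × (Fin 1 ⊕ Fin 1 → F))) ((g : (V × (Fin 1 ⊕ Fin 1 → F)) ≃ₗ[F] (V × (Fin 1 ⊕ Fin 1 → F))) x) := by
      rw [← hg2, ← coe_mul_apply, ← pow_succ]
    rw [h3, hg2, coe_one_apply, hy, map_add]
    abel
  have hpe : polar (Q.prod (qfPlus 1 F)) y (e, 0) = - polar Q b e := by
    have h3 : polar (Q.prod (qfPlus 1 F)) x (e, 0) = 0 := by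
      rw [hx, hs', QuadraticMap.polar_prod, polar_zero_left, polar_zero_right, add_zero]
    have h4 : (g : (V × (Fin 1 ⊕ Fin 1 → F)) ≃ₗ[F] (V × (Fin 1 ⊕ Fin 1 → F))) x = (El Q b : (V × (Fin 1 ⊕ Fin 1 → F)) ≃ₗ[F] (V × (Fin 1 ⊕ Fin 1 → F))) x := by
      rw [hg, coe_mul_apply, prI_apply, hx, hs', map_zero, coe_one_apply]
    have h5 : polar (Q.prod (qfPlus 1 F)) (b, 0) (e, 0) = polar Q b e := by
      rw [QuadraticMap.polar_prod, polar_zero_left, add_zero]
    rw [hy, pal, h3, h4, El_apply, pdl, pdl, pal, psl, psl, psl, h3, polar_hs_inl, polar_hs_hs', h5]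
    ring
  have hya : polar (Q.prod (qfPlus 1 F)) y (hs (F := F) (V := V)) = 0 := by
    have h4 : (g : (V × (Fin 1 ⊕ Fin 1 → F)) ≃ₗ[F] (V × (Fin 1 ⊕ Fin 1 → F))) (hs (F := F) (V := V)) = hs (F := F) (V := V) := by
      rw [hg, coe_mul_apply, prI_apply, hs, map_zero, coe_one_apply]
      rw [← hs, El_apply, polar_hs_inl, pself, q_hs]
      simp
    have h5 : polar (Q.prod (qfPlus 1 F)) ((g : (V × (Fin 1 ⊕ Fin 1 → F)) ≃ₗ[F] (V × (Fin 1 ⊕ Fin 1 → F))) x) (hs (F := F) (V := V)) = 1 := by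
      conv_lhs => rw [← h4]
      rw [OGrp_polar, hx, polar_hs_hs']
    rw [hy, pal, h5, hx, polar_hs_hs', one_add_one_eq_two, h2]
  have hfin : ns g 4 x = (- polar Q b e) • hs (F := F) (V := V) := by
    rw [hns, El_apply, hya, hpe]
    simp only [zero_smul, sub_zero, mul_zero]
    have h6 : y + (-polar Q b e) • hs (F := F) (V := V) + y = (y + y) + (-polar Q b e) • hs (F := F) (V := V) := by abel
    rw [h6, hneg, zero_add]
  rw [hfin]
  intro h0
  have h3 := congrArg (fun z : V × (Fin 1 ⊕ Fin 1 → F) => z.2 (Sum.inl 0)) h0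
  simp only [hs, Prod.smul_snd, Pi.smul_apply, Pi.single_eq_same, smul_eq_mul, mul_one] at h3
  change -polar Q b e = 0 at h3
  rw [neg_eq_zero] at h3
  exact hpbe h3

theorem El_mem_commutator {F V : Type*} [Field F] [Finite F] [AddCommGroup V] [Module F V] [FiniteDimensional F V]
    {Q : QuadraticForm F V} (h2 : (2 : F) = 0) (hQ : (polarBilin Q).Nondegenerate) {b : V} (hb : Q b ≠ 0) :
    El Q b ∈ commutator (OGrp (Q.prod (qfPlus 1 F))) := by
  have h1 : (Q.prod (qfPlus 1 F)) (b, 0) = Q b := by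
    rw [QuadraticMap.prod_apply, QuadraticMap.map_zero, add_zero]
  have hb1 : (Q.prod (qfPlus 1 F)) (b, 0) ≠ 0 := by rw [h1]; exact hb
  have hb' : (Q.prod (qfPlus 1 F)) ((b, 0) - (Q.prod (qfPlus 1 F)) (b, 0) • hs (F := F) (V := V)) ≠ 0 := by
    rw [qsub, qsmul, psr, pc _ (b, 0) (hs (F := F) (V := V)), polar_hs_inl, q_hs]
    simpa using hb1
  rw [El, eich_eq_refl_mul q_hs (polar_hs_inl b) hb1 hb']
  exact refl_mul_refl_mem h2 (prod_nondeg hQ (qfPlus_nondegenerate 1 F)) _ _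

theorem qc_one.{u} {F : Type u} [Field F] [Finite F] (ε : Prop) : QC.{u, u} F ε 1 1 := by
  obtain ⟨V, i1, i2, i3, Q, w, b, hV, hQ, ht, hw, hb⟩ := exists_plane F ε
  refine ⟨V, i1, i2, i3, Q, 1, w, hV, hQ, ht, Subgroup.one_mem _, orderOf_one, ?_⟩
  rw [ns_one]
  rintro rfl
  exact hw (QuadraticMap.map_zero Q)

theorem qc_two.{u} {F : Type u} [Field F] [Finite F] (h2 : (2 : F) = 0) (ε : Prop) : QC.{u, u} F ε 2 2 := by
  obtain ⟨V, i1, i2, i3, Q, w, b, hV, hQ, ht, hw, hb⟩ := exists_plane F ε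
  obtain ⟨V', i1', i2', i3', Q', w', b', hV', hQ', ht', hw', hb'⟩ := exists_plane F True
  refine ⟨V × V', inferInstance, inferInstance, inferInstance, Q.prod Q', prI (refl Q w hw) (refl Q' w' hw'), (b, 0),
    ?_, prod_nondeg hQ hQ', ?_, ?_, ?_, ?_⟩
  · rw [Module.finrank_prod, hV, hV']
  · rw [isPlus_prod_iff hQ hQ' (by rw [hV]; exact even_two_mul _) (by rw [hV']; exact even_two_mul _), ht, ht']
    simp
  · obtain ⟨h3, e3⟩ := prI_refl_left (S := Q') hw
    obtain ⟨h4, e4⟩ := prI_refl_right (Q := Q) hw'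
    have h5 : prI (refl Q w hw) (refl Q' w' hw') = prI (refl Q w hw) 1 * prI 1 (refl Q' w' hw') := by
      rw [prI_mul, mul_one, one_mul]
    rw [h5, e3, e4]
    exact refl_mul_refl_mem h2 (prod_nondeg hQ hQ') _ _
  · rw [orderOf_prI, orderOf_refl hw hb, orderOf_refl hw' hb', Nat.lcm_self]
  · rw [ns_prI]
    intro h0
    exact ns_refl h2 hw hb (congrArg Prod.fst h0)

theorem qc_four.{u} {F : Type u} [Field F] [Finite F] (h2 : (2 : F) = 0) (ε : Prop) : QC.{u, u} F ε 3 4 := by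
  obtain ⟨V, i1, i2, i3, Q, w, b, hV, hQ, ht, hw, hb⟩ := exists_plane F ε
  obtain ⟨V', i1', i2', i3', Q', w', b', hV', hQ', ht', hw', hb'⟩ := exists_plane F True
  set c := prI (refl Q w hw) (refl Q' w' hw') with hc
  have hcc : c * c = 1 := by rw [hc, prI_mul, refl_mul_self, refl_mul_self, prI_one]
  have hcm : c ∈ commutator (OGrp (Q.prod Q')) := by
    obtain ⟨h3, e3⟩ := prI_refl_left (S := Q') hw
    obtain ⟨h4, e4⟩ := prI_refl_right (Q := Q) hw'
    have h5 : prI (refl Q w hw) (refl Q' w' hw') = prI (refl Q w hw) 1 * prI 1 (refl Q' w' hw') := by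
      rw [prI_mul, mul_one, one_mul]
    rw [hc, h5, e3, e4]
    exact refl_mul_refl_mem h2 (prod_nondeg hQ hQ') _ _
  have hV4 : finrank F (V × V') = 2 * 2 := by rw [Module.finrank_prod, hV, hV']
  have hn4 := prod_nondeg hQ hQ'
  have ht4 : IsPlus (Q.prod Q') ↔ ε := by
    rw [isPlus_prod_iff hQ hQ' (by rw [hV]; exact even_two_mul _) (by rw [hV']; exact even_two_mul _), ht, ht']
    simp
  -- the vector
  obtain ⟨z, hz1, hz2⟩ : ∃ z : V × V', (Q.prod Q') z ≠ 0 ∧
      polar (Q.prod Q') z ((c : (V × V') ≃ₗ[F] (V × V')) z) ≠ 0 := by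
    have key : ∀ t : F, polar (Q.prod Q') (b, t • w') ((c : (V × V') ≃ₗ[F] (V × V')) (b, t • w')) ≠ 0 := by
      intro t
      rw [hc, prI_apply, QuadraticMap.polar_prod]
      have h3 : polar Q' (t • w') ((refl Q' w' hw' : V' ≃ₗ[F] V') (t • w')) = 0 := by
        rw [map_smul, refl_apply_self, psl, psr, polar_neg_right, pself, h2]
        ring
      change polar Q b _ + polar Q' (t • w') _ ≠ 0
      rw [h3, add_zero]
      exact nsc h2 hw hb
    by_cases hb0 : Q b = 0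
    · refine ⟨(b, (1 : F) • w'), ?_, key 1⟩
      rw [QuadraticMap.prod_apply]
      change Q b + Q' ((1 : F) • w') ≠ 0
      rw [hb0, one_smul, zero_add]
      exact hw'
    · refine ⟨(b, (0 : F) • w'), ?_, key 0⟩
      rw [QuadraticMap.prod_apply]
      change Q b + Q' ((0 : F) • w') ≠ 0
      rw [zero_smul, QuadraticMap.map_zero, add_zero]
      exact hb0
  have hc2 : orderOf c = 2 := by
    rw [hc, orderOf_prI, orderOf_refl hw hb, orderOf_refl hw' hb', Nat.lcm_self]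
  have hns : ns c 2 z ≠ 0 := by
    intro h0
    apply hz2
    rw [ns_two] at h0
    have h3 : polar (Q.prod Q') z ((c : (V × V') ≃ₗ[F] (V × V')) z + z) = 0 := by rw [h0, polar_zero_right]
    rw [par, pself, h2, zero_mul, add_zero] at h3
    exact h3
  refine ⟨(V × V') × (Fin 1 ⊕ Fin 1 → F), inferInstance, inferInstance, inferInstance,
    (Q.prod Q').prod (qfPlus 1 F), El (Q.prod Q') z * prI c 1, hs' (F := F) (V := V × V'),
    finrank_lift hV4, prod_nondeg hn4 (qfPlus_nondegenerate 1 F), isPlus_lift hn4 hV4 ht4, ?_, ?_, ?_⟩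
  · exact Subgroup.mul_mem _ (El_mem_commutator h2 hn4 hz1) (prI_mem_commutator hcm (Subgroup.one_mem _))
  · exact lift_order h2 hn4 c z hc2 hns
  · exact ns_four' h2 hcc hz2

theorem qc_pow_two.{u} {F : Type u} [Field F] [Finite F] (h2 : (2 : F) = 0) (ε : Prop) {k m : ℕ} (hk : 1 ≤ k)
    (hkm : 2 ^ (k - 1) < 2 * m) (hm : m ≤ 4) : QC.{u, u} F ε m (2 ^ (k - 1)) := by
  have hk4 : k < 4 := by
    by_contra hcon
    push Not at hcon
    have : 2 ^ 3 ≤ 2 ^ (k - 1) := Nat.pow_le_pow_right (by norm_num) (by omega)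
    omega
  interval_cases k
  · exact (qc_one ε).pad (by omega)
  · exact (qc_two h2 ε).pad (by omega)
  · exact (qc_four h2 ε).pad (by omega)

end base

end Cfsg.Agent.H39.QOrd
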