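import Mathlib
import Cfsg.Agent.H39.QCom

/-!
Elements of the commutator subgroup with nonzero norm: bound for the unipotent part
(characteristic two).
-/

set_option autoImplicit false

namespace Cfsg.Agent.H39.QOrd

open Module QuadraticMap Cfsg.Agent.Orth Cfsg.Agent.OCase Cfsg.Agent.H39.EForm Cfsg.Agent.H39.SpecBC
open Cfsg.Agent.H42.SpSpec

section nil

variable {F W : Type*} [Field F] [AddCommGroup W] [Module F W] [FiniteDimensional F W]

/-- kernel of a nilpotent map with nonzero power -/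
theorem finrank_ker_add_le (D : W →ₗ[F] W) {s : ℕ} (hs : D ^ s = 0) {t : ℕ} (ht : D ^ t ≠ 0) :
    finrank F (LinearMap.ker D) + t ≤ finrank F W := by
  have hts : t < s := by
    by_contra hcon
    push Not at hcon
    apply ht
    rw [← Nat.sub_add_cancel hcon, pow_add, hs, mul_zero]
  have hstep : ∀ i, i < t → finrank F (LinearMap.range (D ^ (i + 1))) < finrank F (LinearMap.range (D ^ i)) := by
    intro i hi
    have hle : LinearMap.range (D ^ (i + 1)) ≤ LinearMap.range (D ^ i) := by
      rw [pow_succ]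
      exact LinearMap.range_comp_le_range D (D ^ i)
    apply Submodule.finrank_lt_finrank_of_lt
    refine lt_of_le_of_ne hle ?_
    intro heq
    -- then all further ranges agree
    have h1 : ∀ n, LinearMap.range (D ^ (i + n)) = LinearMap.range (D ^ i) := by
      intro n
      induction n with
      | zero => rw [add_zero]
      | succ n ih =>
        rw [← add_assoc, pow_succ', Module.End.mul_eq_comp, LinearMap.range_comp, ih, ← LinearMap.range_comp,
          ← Module.End.mul_eq_comp, ← pow_succ', heq]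
    have h2 := h1 (s - i)
    rw [Nat.add_sub_cancel' (by omega), hs, LinearMap.range_zero] at h2
    have h3 : D ^ i = 0 := LinearMap.range_eq_bot.1 h2.symm
    apply ht
    rw [← Nat.sub_add_cancel hi.le, pow_add, h3, mul_zero]
  have hrank : ∀ i, i + 1 ≤ t → finrank F (LinearMap.range (D ^ (i + 1))) + i ≤
      finrank F (LinearMap.range D) := by
    intro i
    induction i with
    | zero => intro _; rw [zero_add, pow_one, add_zero]
    | succ i ih =>
      intro hi
      have h1 := ih (by omega)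
      have h2 := hstep (i + 1) (by omega)
      omega
  have hrn := LinearMap.finrank_range_add_finrank_ker D
  rcases Nat.eq_zero_or_pos t with rfl | htp
  · omega
  · have h1 := hrank (t - 1) (by omega)
    rw [Nat.sub_add_cancel htp] at h1
    have h2 : 0 < finrank F (LinearMap.range (D ^ t)) := by
      rw [Module.finrank_pos_iff, Submodule.nontrivial_iff_ne_bot, Ne, LinearMap.range_eq_bot]
      exact ht
    omega

end nil

section geom

/-- geometric sums in characteristic two -/
theorem geom_two_pow {F R : Type*} [Field F] [CharP F 2] [Ring R] [Algebra F R] (t : R) (k : ℕ) :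
    ∑ i ∈ Finset.range (2 ^ k), t ^ i = (t - 1) ^ (2 ^ k - 1) := by
  have key : ∑ i ∈ Finset.range (2 ^ k), (Polynomial.X : Polynomial F) ^ i =
      (Polynomial.X - 1) ^ (2 ^ k - 1) := by
    have h1 : (Polynomial.X - 1 : Polynomial F) ≠ 0 := by
      have := Polynomial.X_sub_C_ne_zero (1 : F)
      rwa [map_one] at this
    haveI : Fact (Nat.Prime 2) := ⟨Nat.prime_two⟩
    apply mul_right_cancel₀ h1
    rw [geom_sum_mul, ← pow_succ, Nat.sub_add_cancel Nat.one_le_two_pow, sub_pow_char_pow, one_pow]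
  have h2 := congrArg (Polynomial.aeval t) key
  rw [map_sum, map_pow, map_sub, Polynomial.aeval_X, map_one] at h2
  rw [← h2]
  refine Finset.sum_congr rfl fun i _ => ?_
  rw [map_pow, Polynomial.aeval_X]

end geom

section red

variable {F V : Type*} [Field F] [AddCommGroup V] [Module F V] {Q : QuadraticForm F V}

/-- the linear map -/
def li (g : OGrp Q) : V →ₗ[F] V := ((g : V ≃ₗ[F] V) : V →ₗ[F] V)

theorem li_apply (g : OGrp Q) (v : V) : li g v = (g : V ≃ₗ[F] V) v := rfl

theorem li_pow (g : OGrp Q) (i : ℕ) : li g ^ i = li (g ^ i) := by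
  induction i with
  | zero => rw [pow_zero, pow_zero]; rfl
  | succ i ih => rw [pow_succ, ih, pow_succ]; rfl

theorem li_one : li (1 : OGrp Q) = 1 := rfl

theorem li_inj {g h : OGrp Q} (H : li g = li h) : g = h := OGrp_ext fun x => LinearMap.congr_fun H x

theorem ns_li (g : OGrp Q) (N : ℕ) (b : V) : ns g N b = (∑ i ∈ Finset.range N, li g ^ i) b := by
  rw [ns, LinearMap.sum_apply]
  refine Finset.sum_congr rfl fun i _ => ?_
  rw [li_pow]
  rfl

/-- elements of the commutator subgroup have even rank -/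
theorem even_fx [Finite F] [FiniteDimensional F V] (hQ : (polarBilin Q).Nondegenerate) {n : ℕ}
    (hV : finrank F V = 2 * n) (h4 : finrank F V ≠ 4) {g : OGrp Q} (hg : g ∈ commutator (OGrp Q)) :
    Even (finrank F (fx g)) := by
  obtain ⟨l, rfl, h1, -⟩ := exists_of_mem_commutator (RGrp_eq_top hQ (Or.inr h4)) hg
  obtain ⟨k, u, hu⟩ := exists_wall (reflProd Q l)
  obtain ⟨h2, -⟩ := wall_reflProd hQ l hu
  have h3 := hu.card
  have h5 := LinearMap.finrank_range_add_finrank_ker (dmap (reflProd Q l))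
  have h6 : LinearMap.ker (dmap (reflProd Q l)) = fx (reflProd Q l) := by
    ext v
    rw [LinearMap.mem_ker, dmap_apply, mem_fx, sub_eq_zero, eq_comm]
  rw [h6, ← h3, hV] at h5
  have h7 : Even k := h2.2 h1
  obtain ⟨a, ha⟩ := h7
  exact ⟨n - a, by omega⟩

theorem fx_pow_le (g : OGrp Q) (i : ℕ) : fx g ≤ fx (g ^ i) := by
  intro v hv
  rw [mem_fx] at hv ⊢
  exact pow_apply_of_fixed hv i

/-- main bound -/
theorem two_pow_lt [Finite F] [CharP F 2] [FiniteDimensional F V] (hQ : (polarBilin Q).Nondegenerate) {n : ℕ}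
    (hV : finrank F V = 2 * n) (h4 : finrank F V ≠ 4) {g : OGrp Q} (hg : g ∈ commutator (OGrp Q)) {k σ : ℕ}
    (ho : orderOf g = 2 ^ k * σ) {v : V} (hv : ns g (2 ^ k * σ) v ≠ 0) :
    2 ^ k < finrank F (fx (g ^ 2 ^ k)) := by
  haveI : Fact (Nat.Prime 2) := ⟨Nat.prime_two⟩
  set T := li g with hT
  have hTN : T ^ (2 ^ k * σ) = 1 := by rw [hT, li_pow, ← ho, pow_orderOf_eq_one]; rfl
  -- the vector in the fixed space
  set E := ∑ j ∈ Finset.range σ, (T ^ 2 ^ k) ^ j with hE
  have hsum : ∑ i ∈ Finset.range (2 ^ k * σ), T ^ i = (∑ i ∈ Finset.range (2 ^ k), T ^ i) * E := by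
    rw [hE, mul_comm (2 ^ k) σ, Finset.sum_mul_sum, ← Finset.sum_product']
    rw [Finset.sum_nbij' (i := fun m => (m % 2 ^ k, m / 2 ^ k)) (j := fun x => x.1 + 2 ^ k * x.2)]
    · intro m hm
      rw [Finset.mem_range] at hm
      rw [Finset.mem_product, Finset.mem_range, Finset.mem_range]
      exact ⟨Nat.mod_lt _ (by positivity), (Nat.div_lt_iff_lt_mul (by positivity)).2 hm⟩
    · rintro ⟨a, b⟩ hab
      rw [Finset.mem_product, Finset.mem_range, Finset.mem_range] at hab
      rw [Finset.mem_range]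
      obtain ⟨ha, hb⟩ := hab
      simp only at ha hb ⊢
      calc a + 2 ^ k * b < 2 ^ k + 2 ^ k * b := by omega
        _ = 2 ^ k * (b + 1) := by ring
        _ ≤ 2 ^ k * σ := Nat.mul_le_mul_left _ hb
        _ = σ * 2 ^ k := mul_comm _ _
    · intro m _
      simp only
      exact Nat.mod_add_div m (2 ^ k)
    · rintro ⟨a, b⟩ hab
      rw [Finset.mem_product, Finset.mem_range, Finset.mem_range] at hab
      obtain ⟨ha, hb⟩ := hab
      simp only at ha ⊢
      rw [Nat.add_mul_mod_self_left, Nat.mod_eq_of_lt ha, Nat.add_mul_div_left _ _ (by positivity),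
        Nat.div_eq_of_lt ha, zero_add]
    · intro m _
      simp only
      rw [← pow_mul, ← pow_add, Nat.mod_add_div]
  set X := fx (g ^ 2 ^ k) with hX
  have hsE : T ^ 2 ^ k * E = E := by
    have h1 := mul_geom_sum (T ^ 2 ^ k) σ
    rw [← pow_mul, hTN, sub_self, sub_mul, one_mul, sub_eq_zero] at h1
    exact h1
  have hEX : ∀ x, E x ∈ X := by
    intro x
    rw [hX, mem_fx]
    have := LinearMap.congr_fun hsE x
    rw [hT, li_pow] at this
    exact this
  have hTX : ∀ x ∈ X, T x ∈ X := by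
    intro x hx
    rw [hX, mem_fx] at hx ⊢
    rw [hT, li_apply, ← coe_mul_apply, ← pow_succ, pow_succ', coe_mul_apply, hx]
  -- the nilpotent map
  set D := T.restrict hTX - 1 with hD
  have hDk : ∀ i, ∀ x : X, ((D ^ i : X →ₗ[F] X) x : V) = ((T - 1) ^ i) x := by
    intro i
    induction i with
    | zero => intro x; rw [pow_zero, pow_zero]; rfl
    | succ i ih =>
      intro x
      rw [pow_succ, pow_succ, Module.End.mul_apply, Module.End.mul_apply, ih]
      rfl
  haveI : Nontrivial V := ⟨⟨_, 0, hv⟩⟩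
  haveI : CharP (Module.End F V) 2 := charP_of_injective_algebraMap (algebraMap F (Module.End F V)).injective 2
  have hpow : (T - 1) ^ 2 ^ k = T ^ 2 ^ k - 1 := by
    have h := sub_pow_char_pow_of_commute (R := Module.End F V) 2 k (Commute.one_right T)
    rw [one_pow] at h
    exact h
  have hD0 : D ^ 2 ^ k = 0 := by
    apply LinearMap.ext
    intro x
    apply Subtype.ext
    rw [hDk, hpow, LinearMap.sub_apply, hT, li_pow]
    have hx : ((g ^ 2 ^ k : OGrp Q) : V ≃ₗ[F] V) x = x := mem_fx.1 x.2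
    change ((g ^ 2 ^ k : OGrp Q) : V ≃ₗ[F] V) x - x = 0
    rw [hx, sub_self]
  have hD1 : D ^ (2 ^ k - 1) ≠ 0 := by
    intro h0
    apply hv
    rw [ns_li, ← hT, hsum, Module.End.mul_apply, geom_two_pow (F := F)]
    have h1 := hDk (2 ^ k - 1) ⟨E v, hEX v⟩
    rw [h0] at h1
    exact h1.symm
  have hker : finrank F (LinearMap.ker D) = finrank F (fx g) := by
    have h1 : fx g ≤ X := fx_pow_le g _
    have h2 : fx g = Submodule.map X.subtype (LinearMap.ker D) := by
      ext x
      rw [Submodule.mem_map]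
      constructor
      · intro hx
        refine ⟨⟨x, h1 hx⟩, ?_, rfl⟩
        rw [mem_fx] at hx
        rw [LinearMap.mem_ker]
        apply Subtype.ext
        change T x - x = 0
        rw [hT, li_apply, hx, sub_self]
      · rintro ⟨y, hy, rfl⟩
        rw [LinearMap.mem_ker] at hy
        have h3 := congrArg Subtype.val hy
        change T y - y = 0 at h3
        rw [sub_eq_zero] at h3
        exact mem_fx.2 h3
    rw [h2]
    exact (LinearEquiv.finrank_eq (Submodule.equivMapOfInjective X.subtype X.injective_subtype _))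
  have hle := finrank_ker_add_le D hD0 hD1
  rw [hker] at hle
  have heven := even_fx hQ hV h4 hg
  -- the fixed space is not trivial
  have hpos : 0 < finrank F (fx g) := by
    rw [Module.finrank_pos_iff, Submodule.nontrivial_iff_ne_bot, Submodule.ne_bot_iff]
    refine ⟨ns g (2 ^ k * σ) v, ?_, hv⟩
    rw [mem_fx]
    exact sum_fixed (by rw [← ho, pow_orderOf_eq_one]) v
  obtain ⟨c, hc⟩ := heven
  have h2k : 0 < 2 ^ k := by positivity
  omega

/-- splitting off the fixed space of an element of odd order -/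
theorem qo_compl.{u, v} {F : Type u} {V : Type v} [Field F] [CharP F 2] [AddCommGroup V] [Module F V]
    [FiniteDimensional F V] {Q : QuadraticForm F V} (hQ : (polarBilin Q).Nondegenerate) {n : ℕ}
    (hV : finrank F V = 2 * n) (s : OGrp Q) (hs : Odd (orderOf s)) :
    ∃ m δ, finrank F (fx s) = 2 * m ∧ m ≤ n ∧ QO.{u, v} F δ (n - m) (orderOf s) := by
  have hsF : ((orderOf s : ℕ) : F) ≠ 0 := by
    rw [Ne, CharP.cast_eq_zero_iff F 2, ← even_iff_two_dvd, Nat.not_even_iff_odd]
    exact hs
  have h1 := inf_fx_nondeg s (pow_orderOf_eq_one s) hsF (X := ⊤) (fun _ _ => trivial) (by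
    rw [top_inf_eq, eq_bot_iff]
    intro x hx
    rw [Submodule.mem_bot]
    exact hQ.2 x fun y => hx y trivial)
  rw [top_inf_eq] at h1
  have hdis : ∀ x, x ∈ fx s → x ∈ perp Q (fx s) → x = 0 := by
    intro x hx hx'
    have : x ∈ fx s ⊓ perp Q (fx s) := ⟨hx, hx'⟩
    rwa [h1, Submodule.mem_bot] at this
  have hfr := finrank_perp hQ (fx s)
  have hcomp : IsCompl (fx s) (perp Q (fx s)) := by
    refine IsCompl.of_eq h1 ?_
    apply Submodule.eq_top_of_finrank_eq
    have := Submodule.finrank_sup_add_finrank_inf_eq (fx s) (perp Q (fx s))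
    rw [h1, finrank_bot] at this
    omega
  obtain ⟨m, hm⟩ := even_rank (polarBilin Q) (fx s) ⊥ bot_le
    (fun x _ => by change polar Q x x = 0; rw [pself, CharTwo.two_eq_zero, zero_mul]) (by
      intro x hx
      rw [Submodule.mem_bot]
      constructor
      · intro h
        refine hdis x hx fun y hy => ?_
        change polar Q y x = 0
        rw [pc]
        exact h y hy
      · rintro rfl y _
        change polar Q 0 y = 0
        rw [polar_zero_left])
  rw [finrank_bot, add_zero] at hm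
  set W := perp Q (fx s) with hW
  have hinv : ∀ (t : OGrp Q), (∀ x ∈ fx s, (t : V ≃ₗ[F] V) x = x) → ∀ x ∈ W, (t : V ≃ₗ[F] V) x ∈ W := by
    intro t ht x hx y hy
    change polar Q y ((t : V ≃ₗ[F] V) x) = 0
    rw [← ht y hy, OGrp_polar]
    exact hx y hy
  have hpw : ∀ (i : ℕ), ∀ x ∈ fx s, ((s ^ i : OGrp Q) : V ≃ₗ[F] V) x = x :=
    fun i x hx => pow_apply_of_fixed (mem_fx.1 hx) i
  have hinv1 : ∀ x ∈ W, (s : V ≃ₗ[F] V) x ∈ W := hinv s fun x hx => mem_fx.1 hx
  have hinv2 : ∀ x ∈ W, ((s⁻¹ : OGrp Q) : V ≃ₗ[F] V) x ∈ W := hinv s⁻¹ fun x hx => by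
    have h3 := mem_fx.1 hx
    have h4 : ((s⁻¹ : OGrp Q) : V ≃ₗ[F] V) ((s : V ≃ₗ[F] V) x) = x := coe_inv_apply_self s x
    rwa [h3] at h4
  let Q' : QuadraticForm F W := Q.comp W.subtype
  have hQ'p : ∀ x y : W, polar Q' x y = polar Q (x : V) (y : V) := fun x y => rfl
  have hQ' : (polarBilin Q').Nondegenerate := by
    have hleft : ∀ x : W, (∀ y : W, polar Q (x : V) (y : V) = 0) → x = 0 := by
      intro x hx
      apply Subtype.ext
      apply hQ.1
      intro y
      obtain ⟨a, ha, b, hb, rfl⟩ := Submodule.mem_sup.mp (by rw [hcomp.sup_eq_top]; trivial : y ∈ fx s ⊔ W)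
      change polar Q (x : V) (a + b) = 0
      rw [par, hx ⟨b, hb⟩, add_zero, pc]
      exact x.2 a ha
    refine ⟨fun x hx => hleft x fun y => hx y, fun x hx => hleft x fun y => ?_⟩
    rw [pc]
    exact hx y
  let f : W →ₗ[F] W := (li s).restrict hinv1
  let f' : W →ₗ[F] W := (li s⁻¹).restrict hinv2
  let s' : OGrp Q' := mkIsom Q' f f'
    (fun x => Subtype.ext (coe_apply_inv_self s (x : V)))
    (fun x => Subtype.ext (coe_inv_apply_self s (x : V)))
    (fun x => OGrp_q s (x : V))
  have hs'a : ∀ x : W, (((s' : OGrp Q') : W ≃ₗ[F] W) x : V) = (s : V ≃ₗ[F] V) x := fun x => rfl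
  have hs'p : ∀ (i : ℕ) (x : W), (((s' ^ i : OGrp Q') : W ≃ₗ[F] W) x : V) = ((s ^ i : OGrp Q) : V ≃ₗ[F] V) x := by
    intro i
    induction i with
    | zero => intro x; rfl
    | succ i ih => intro x; rw [pow_succ, coe_mul_apply, ih, hs'a, pow_succ, coe_mul_apply]
  refine ⟨m, IsPlus Q', hm, by omega, W, inferInstance, inferInstance, inferInstance, Q', s', by omega, hQ',
    Iff.rfl, ?_⟩
  apply Nat.dvd_antisymm
  · rw [orderOf_dvd_iff_pow_eq_one]
    refine OGrp_ext fun x => Subtype.ext ?_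
    rw [hs'p, pow_orderOf_eq_one]
    rfl
  · rw [orderOf_dvd_iff_pow_eq_one]
    refine OGrp_ext fun x => ?_
    obtain ⟨a, ha, b, hb, rfl⟩ := Submodule.mem_sup.mp (by rw [hcomp.sup_eq_top]; trivial : x ∈ fx s ⊔ W)
    have h3 := hs'p (orderOf s') ⟨b, hb⟩
    rw [pow_orderOf_eq_one] at h3
    rw [map_add, hpw _ a ha, coe_one_apply, ← h3]
    rfl

/-- elements of the commutator subgroup with nonzero norm -/
theorem qo_of_ns.{u} {F : Type u} {V : Type u} [Field F] [Finite F] [CharP F 2] [AddCommGroup V] [Module F V]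
    [FiniteDimensional F V] {Q : QuadraticForm F V} (hQ : (polarBilin Q).Nondegenerate)
    (hV : finrank F V = 2 * 4) {g : OGrp Q} (hg : g ∈ commutator (OGrp Q)) (ho : 0 < orderOf g) {v : V}
    (hv : ns g (orderOf g) v ≠ 0) : ∃ δ, QO.{u, u} F δ 4 (2 * orderOf g) := by
  have h2 : (2 : F) = 0 := CharTwo.two_eq_zero
  obtain ⟨k, σ, hσ2, hT0⟩ := Nat.exists_eq_pow_mul_and_not_dvd ho.ne' 2 (by norm_num)
  have hσodd : Odd σ := by rw [Nat.odd_iff]; omega
  rw [hT0] at hv
  have hlt := two_pow_lt hQ hV (by rw [hV]; norm_num) hg hT0 hv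
  have hso : orderOf (g ^ 2 ^ k) = σ := by
    rw [orderOf_pow_of_dvd (by positivity) (by rw [hT0]; exact Dvd.intro _ rfl), hT0]
    exact Nat.mul_div_cancel_left _ (by positivity)
  obtain ⟨m, δ, hm, hmn, hqo⟩ := qo_compl hQ hV (g ^ 2 ^ k) (by rw [hso]; exact hσodd)
  rw [hm] at hlt
  rw [hso] at hqo
  have h3 := hqo.add (qo_pow_two h2 True (k := k + 1) (m := m) (by omega) (by rw [Nat.add_sub_cancel]; exact hlt) hmn)
  rw [Nat.sub_add_cancel hmn] at h3
  have hcop : Nat.Coprime σ (2 ^ (k + 1)) := Nat.Coprime.pow_right _ (Nat.coprime_two_right.2 hσodd)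
  rw [hcop.lcm_eq_mul] at h3
  refine ⟨(δ ↔ True), ?_⟩
  rw [hT0, show 2 * (2 ^ k * σ) = σ * 2 ^ (k + 1) by ring]
  exact h3

end red

end Cfsg.Agent.H39.QOrd
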