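import Mathlib
import Cfsg.Agent.H39.QRed

/-!
The semidirect product of copies of the natural module with the commutator subgroup of the
orthogonal group.
-/

set_option autoImplicit false

namespace Cfsg.Agent.H39.QOrd

open Module QuadraticMap Cfsg.Agent.Orth Cfsg.Agent.OCase Cfsg.Agent.H39.EForm Cfsg.Agent.H39.SpecBC

section semi

variable {F V : Type*} [Field F] [AddCommGroup V] [Module F V] (Q : QuadraticForm F V) (M : ℕ)

/-- diagonal action on copies of the natural module -/
def dact (G : Subgroup (OGrp Q)) : G →* MulAut (Multiplicative (Fin M → V)) where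
  toFun g :=
    { toFun := fun f => Multiplicative.ofAdd fun i => (((g : OGrp Q) : V ≃ₗ[F] V)) (Multiplicative.toAdd f i)
      invFun := fun f => Multiplicative.ofAdd fun i =>
        ((((g : OGrp Q)⁻¹ : OGrp Q) : V ≃ₗ[F] V)) (Multiplicative.toAdd f i)
      left_inv := fun f => by
        apply Multiplicative.toAdd.injective
        funext i
        exact coe_inv_apply_self (g : OGrp Q) _
      right_inv := fun f => by
        apply Multiplicative.toAdd.injective
        funext i
        exact coe_apply_inv_self (g : OGrp Q) _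
      map_mul' := fun f f' => by
        apply Multiplicative.toAdd.injective
        funext i
        exact map_add (((g : OGrp Q) : V ≃ₗ[F] V)) _ _ }
  map_one' := by
    apply MulEquiv.ext
    intro f
    rfl
  map_mul' := fun g h => by
    apply MulEquiv.ext
    intro f
    rfl

/-- the semidirect product -/
abbrev SD (G : Subgroup (OGrp Q)) : Type _ := Multiplicative (Fin M → V) ⋊[dact Q M G] G

variable {Q M} {G : Subgroup (OGrp Q)}

theorem sd_pow (f : Fin M → V) (g : G) (n : ℕ) :
    ((⟨Multiplicative.ofAdd f, g⟩ : SD Q M G)) ^ n =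
      ⟨Multiplicative.ofAdd fun i => ns (g : OGrp Q) n (f i), g ^ n⟩ := by
  induction n with
  | zero =>
    rw [pow_zero, pow_zero]
    apply SemidirectProduct.ext
    · apply Multiplicative.toAdd.injective
      funext i
      exact (ns_zero (g : OGrp Q) (f i)).symm
    · rfl
  | succ n ih =>
    rw [pow_succ', ih]
    apply SemidirectProduct.ext
    · apply Multiplicative.toAdd.injective
      funext i
      change f i + (((g : OGrp Q) : V ≃ₗ[F] V)) (ns (g : OGrp Q) n (f i)) = ns (g : OGrp Q) (n + 1) (f i)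
      rw [ns_succ, add_comm]
    · change g * g ^ n = g ^ (n + 1)
      rw [pow_succ']

theorem sd_eq_one_iff (f : Fin M → V) (g : G) :
    ((⟨Multiplicative.ofAdd f, g⟩ : SD Q M G)) = 1 ↔ (∀ i, f i = 0) ∧ g = 1 := by
  constructor
  · intro h
    have h1 := congrArg SemidirectProduct.left h
    have h2 := congrArg SemidirectProduct.right h
    refine ⟨fun i => ?_, h2⟩
    exact congrFun (congrArg Multiplicative.toAdd h1) i
  · rintro ⟨h1, rfl⟩
    apply SemidirectProduct.ext
    · apply Multiplicative.toAdd.injective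
      funext i
      exact h1 i
    · rfl

theorem sd_dvd_of_ne (h2 : (2 : F) = 0) (f : Fin M → V) (g : G) {i : Fin M}
    (hi : ns (g : OGrp Q) (orderOf g) (f i) ≠ 0) :
    2 * orderOf g ∣ orderOf (⟨Multiplicative.ofAdd f, g⟩ : SD Q M G) := by
  set z : SD Q M G := ⟨Multiplicative.ofAdd f, g⟩ with hz
  have h1 := pow_orderOf_eq_one z
  rw [hz, sd_pow, sd_eq_one_iff] at h1
  obtain ⟨h3, h4⟩ := h1
  obtain ⟨t, ht⟩ := orderOf_dvd_of_pow_eq_one h4
  rw [← hz] at h3 ht
  have hg1 : (g : OGrp Q) ^ orderOf g = 1 := by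
    have := congrArg Subtype.val (pow_orderOf_eq_one g)
    exact this
  have h5 := h3 i
  rw [ht, ns_mul _ hg1] at h5
  have h6 : (t : F) = 0 := (smul_eq_zero.1 h5).resolve_right hi
  have h7 : Even t := by
    rw [← Nat.not_odd_iff_even]
    rintro ⟨c, hc⟩
    rw [hc, Nat.cast_add, Nat.cast_mul, Nat.cast_ofNat, h2, zero_mul, zero_add, Nat.cast_one] at h6
    exact one_ne_zero h6
  obtain ⟨c, hc⟩ := h7
  rw [ht, hc]
  exact ⟨c, by ring⟩

theorem sd_dvd (h2 : (2 : F) = 0) (f : Fin M → V) (g : G) :
    orderOf (⟨Multiplicative.ofAdd f, g⟩ : SD Q M G) ∣ 2 * orderOf g ∧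
      ((∀ i, ns (g : OGrp Q) (orderOf g) (f i) = 0) →
        orderOf (⟨Multiplicative.ofAdd f, g⟩ : SD Q M G) ∣ orderOf g) := by
  have hg1 : (g : OGrp Q) ^ orderOf g = 1 := by
    have := congrArg Subtype.val (pow_orderOf_eq_one g)
    exact this
  constructor
  · rw [orderOf_dvd_iff_pow_eq_one, sd_pow, sd_eq_one_iff]
    constructor
    · intro i
      rw [mul_comm, ns_mul _ hg1, Nat.cast_ofNat, h2, zero_smul]
    · rw [mul_comm, pow_mul, pow_orderOf_eq_one, one_pow]
  · intro h
    rw [orderOf_dvd_iff_pow_eq_one, sd_pow, sd_eq_one_iff]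
    exact ⟨h, pow_orderOf_eq_one g⟩

end semi

end Cfsg.Agent.H39.QOrd
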