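import Mathlib
import Cfsg.Prelude.Def_Characters
import Cfsg.Agent.Char.Induced
import Cfsg.Agent.Char.IndRep
import Cfsg.Agent.Char.Linear
import Cfsg.Agent.CharBase.Ortho

/-!
Induction from a subgroup `B` of a finite group `G = B ⊔ ⋃ u x w B`.
-/

set_option autoImplicit false
set_option linter.unusedSectionVars false
set_option linter.unusedSimpArgs false

namespace Cfsg.Agent.H39

open Cfsg Cfsg.Agent.Char Cfsg.Agent.CharBase
open scoped ComplexConjugate

section
variable {G : Type*} [Group G] {F : Type*}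

/-- the Bruhat map -/
def brMap (B : Subgroup G) (u : F → G) (w : G) : Option F × B → G := fun p =>
  match p.1 with
  | none => (p.2 : G)
  | some x => u x * w * p.2

variable (B : Subgroup G) (u : F → G) (w : G)

theorem sum_brMap [Fintype G] [Fintype F] [Fintype B] (hb : Function.Bijective (brMap B u w)) (f : G → ℂ) :
    ∑ g, f g = ∑ b : B, f b + ∑ x : F, ∑ b : B, f (u x * w * b) := by
  rw [← Function.Bijective.sum_comp hb f, Fintype.sum_prod_type, Fintype.sum_option]
  rfl

theorem card_brMap [Fintype G] [Fintype F] (hb : Function.Bijective (brMap B u w)) :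
    Nat.card G = (Fintype.card F + 1) * Nat.card B := by
  rw [← Nat.card_congr (Equiv.ofBijective _ hb), Nat.card_prod, Nat.card_eq_fintype_card (α := Option F),
    Fintype.card_option]

theorem extendByZero_conj_mem (θ : B → ℂ) (hθ : IsClassFunction B θ) (g : G) (b : B) :
    extendByZero B θ ((b : G)⁻¹ * g * b) = extendByZero B θ g := by
  by_cases hg : g ∈ B
  · have h1 : (b : G)⁻¹ * g * b ∈ B := B.mul_mem (B.mul_mem (B.inv_mem b.2) hg) b.2
    rw [extendByZero_of_mem B θ h1, extendByZero_of_mem B θ hg]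
    have h2 := hθ ⟨g, hg⟩ b⁻¹
    rw [← h2]
    congr 1
    apply Subtype.ext
    simp
  · have h1 : (b : G)⁻¹ * g * b ∉ B := by
      intro h1
      apply hg
      have := B.mul_mem (B.mul_mem b.2 h1) (B.inv_mem b.2)
      convert this using 1
      group
    rw [extendByZero_of_notMem B θ h1, extendByZero_of_notMem B θ hg]

theorem indFun_brMap [Fintype G] [Fintype F] (hb : Function.Bijective (brMap B u w)) (θ : B → ℂ)
    (hθ : IsClassFunction B θ) (g : G) :
    indFun B θ g = extendByZero B θ g + ∑ x : F, extendByZero B θ ((u x * w)⁻¹ * g * (u x * w)) := by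
  classical
  haveI : Fintype B := Fintype.ofFinite _
  have hB : (Nat.card B : ℂ) ≠ 0 := card_ne_zero_complex B
  rw [indFun, sum_brMap B u w hb]
  have h1 : ∀ b : B, extendByZero B θ ((b : G)⁻¹ * g * b) = extendByZero B θ g :=
    fun b => extendByZero_conj_mem B θ hθ g b
  have h2 : ∀ (x : F) (b : B), extendByZero B θ ((u x * w * b)⁻¹ * g * (u x * w * b)) =
      extendByZero B θ ((u x * w)⁻¹ * g * (u x * w)) := by
    intro x b
    rw [← extendByZero_conj_mem B θ hθ ((u x * w)⁻¹ * g * (u x * w)) b]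
    congr 1
    group
  simp only [h1, h2, Finset.sum_const, Finset.card_univ, nsmul_eq_mul, ← Finset.mul_sum]
  rw [← mul_add, ← Nat.card_eq_fintype_card, ← mul_assoc, inv_mul_cancel₀ hB, one_mul]

/-- Mackey's formula for two induced class functions. -/
theorem classInner_indFun [Fintype G] [Fintype F] [Fintype B] (hb : Function.Bijective (brMap B u w))
    (hu : ∀ x, u x ∈ B) (θ η : B → ℂ) (hη : IsClassFunction B η) (hθ : IsClassFunction B θ) :
    classInner (indFun B θ) (indFun B η) = classInner θ η +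
      (Fintype.card F : ℂ) / (Nat.card B : ℂ) * ∑ b : B, θ b * conj (extendByZero B η (w⁻¹ * b * w)) := by
  classical
  rw [frobenius_reciprocity B θ _ (indFun_isClassFunction B η)]
  simp only [classInner]
  have h1 : ∀ b : B, θ b * conj (indFun B η b) = θ b * conj (η b) +
      ∑ x : F, θ b * conj (extendByZero B η ((u x * w)⁻¹ * b * (u x * w))) := by
    intro b
    rw [indFun_brMap B u w hb η hη, extendByZero_coe, map_add, mul_add, map_sum, Finset.mul_sum]
  rw [Finset.sum_congr rfl (fun b _ => h1 b), Finset.sum_add_distrib, mul_add]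
  congr 1
  rw [Finset.sum_comm]
  have h2 : ∀ x : F, ∑ b : B, θ b * conj (extendByZero B η ((u x * w)⁻¹ * b * (u x * w))) =
      ∑ b : B, θ b * conj (extendByZero B η (w⁻¹ * b * w)) := by
    intro x
    rw [← Equiv.sum_comp (MulAut.conj (⟨u x, hu x⟩ : B)).toEquiv]
    refine Finset.sum_congr rfl fun b _ => ?_
    have h3 : (MulAut.conj (⟨u x, hu x⟩ : B)).toEquiv b = ⟨u x, hu x⟩ * b * (⟨u x, hu x⟩)⁻¹ := rfl
    rw [h3, hθ]
    congr 3
    simp only [Subgroup.coe_mul, Subgroup.coe_inv]
    group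
  rw [Finset.sum_congr rfl (fun x _ => h2 x), Finset.sum_const, Finset.card_univ, nsmul_eq_mul]
  ring

end

section two
variable {G : Type*} [Group G] [Fintype G]

/-- A character of norm two is a sum of two different irreducible characters. -/
theorem exists_add_of_norm_two {φ : G → ℂ} (hφ : IsCharacter G φ) (h : classInner φ φ = 2) :
    ∃ χ₁ χ₂ : IrrCharacter G, χ₁ ≠ χ₂ ∧ φ = (χ₁ : G → ℂ) + (χ₂ : G → ℂ) := by
  classical
  haveI : Finite (IrrCharacter G) := inferInstance
  haveI : Fintype (IrrCharacter G) := Fintype.ofFinite _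
  obtain ⟨m, hm, hm2⟩ := exists_mult_of_isCharacter hφ
  have hcl := isClassFunction_of_isCharacter hφ
  have h1 : (∑ ψ : IrrCharacter G, (m ψ) ^ 2 : ℕ) = 2 := by
    have h2 := classInner_eq_sum (f' := φ) hcl
    rw [h] at h2
    have h3 : ∀ ψ : IrrCharacter G, classInner φ (ψ : G → ℂ) * classInner (ψ : G → ℂ) φ = ((m ψ ^ 2 : ℕ) : ℂ) := by
      intro ψ
      rw [classInner_comm_of_isCharacter (irr_isCharacter ψ) hφ, hm]
      push_cast; ring
    rw [Finset.sum_congr rfl (fun ψ _ => h3 ψ)] at h2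
    exact_mod_cast h2.symm
  have h2 : ∀ ψ, m ψ ≤ 1 := by
    intro ψ
    by_contra hc
    push Not at hc
    have h3 : m ψ ^ 2 ≤ ∑ ψ : IrrCharacter G, m ψ ^ 2 :=
      Finset.single_le_sum (f := fun ψ => m ψ ^ 2) (fun _ _ => Nat.zero_le _) (Finset.mem_univ ψ)
    rw [h1] at h3
    nlinarith
  have h3 : ∀ ψ, m ψ ^ 2 = m ψ := by
    intro ψ
    have := h2 ψ
    interval_cases m ψ <;> rfl
  have h4 : (Finset.univ.filter (fun ψ : IrrCharacter G => m ψ = 1)).card = 2 := by
    rw [Finset.card_filter, ← h1]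
    refine Finset.sum_congr rfl fun ψ _ => ?_
    rw [h3]
    have := h2 ψ
    interval_cases m ψ <;> rfl
  obtain ⟨χ₁, χ₂, hne, hset⟩ := Finset.card_eq_two.1 h4
  refine ⟨χ₁, χ₂, hne, ?_⟩
  rw [classFun_eq_sum hcl]
  have h5 : ∀ ψ : IrrCharacter G, classInner φ (ψ : G → ℂ) • (ψ : G → ℂ) =
      if ψ ∈ Finset.univ.filter (fun ψ : IrrCharacter G => m ψ = 1) then (ψ : G → ℂ) else 0 := by
    intro ψ
    rw [hm]
    have := h2 ψ
    simp only [Finset.mem_filter, Finset.mem_univ, true_and]
    interval_cases hmm : m ψ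
    · simp
    · simp
  rw [Finset.sum_congr rfl (fun ψ _ => h5 ψ), ← Finset.sum_filter, Finset.filter_mem_eq_inter, Finset.univ_inter,
    hset, Finset.sum_pair hne]

end two

end Cfsg.Agent.H39
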