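import Mathlib
import Cfsg.Agent.H43.RankOne

set_option autoImplicit false

/-!
# Traces of products of two conjugacy classes of `SL_n` (helper39)
-/

namespace Cfsg.Agent.H39.TrProd

open Matrix Cfsg.Agent.H43

variable {F : Type*} [Field F] {n : ℕ}

local notation "SLn" => Matrix.SpecialLinearGroup (Fin n) F

theorem exists_flag_SL (hn : 3 ≤ n) {a b φ ψ : Fin n → F} (ha : a ≠ 0) (hb : b ≠ 0) (hφ : φ ≠ 0) (hψ : ψ ≠ 0)
    (hφa : φ ⬝ᵥ a = 0) (hψb : ψ ⬝ᵥ b = 0) :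
    ∃ G : SLn, (G : Matrix (Fin n) (Fin n) F) *ᵥ a = b ∧ ψ ᵥ* (G : Matrix (Fin n) (Fin n) F) = φ := by
  classical
  obtain ⟨g, hgdet, hga, hgψ⟩ := exists_flag_map ha hb hφ hψ hφa hψb
  obtain ⟨v, hvψ, hvb⟩ : ∃ v : Fin n → F, ψ ⬝ᵥ v = 0 ∧ v ∉ Submodule.span F {b} := by
    by_contra hcon
    push Not at hcon
    have hle : LinearMap.ker (dotL ψ) ≤ Submodule.span F {b} := fun v hv => hcon v hv
    have h1 := Submodule.finrank_mono hle
    have h2 := finrank_ker_dotL hψ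
    rw [finrank_span_singleton hb] at h1
    rw [Fintype.card_fin] at h2
    omega
  obtain ⟨f, hfv, hfb⟩ := Submodule.exists_le_ker_of_notMem hvb
  obtain ⟨χ, rfl⟩ := exists_dotL f
  rw [dotL_apply] at hfv
  have hχb : χ ⬝ᵥ b = 0 := hfb (Submodule.mem_span_singleton_self b)
  obtain ⟨u, hu⟩ : ∃ u : Fin n → F, u = ((g.det⁻¹ - 1) * (χ ⬝ᵥ v)⁻¹) • v := ⟨_, rfl⟩
  have hχu : χ ⬝ᵥ u = g.det⁻¹ - 1 := by
    rw [hu, dotProduct_smul, smul_eq_mul, mul_assoc, inv_mul_cancel₀ hfv, mul_one]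
  have hψu : ψ ⬝ᵥ u = 0 := by
    rw [hu, dotProduct_smul, hvψ, smul_zero]
  have hdet : (dil u χ * g).det = 1 := by
    rw [Matrix.det_mul, det_dil, hχu]
    rw [add_sub_cancel, inv_mul_cancel₀ hgdet]
  refine ⟨⟨dil u χ * g, hdet⟩, ?_, ?_⟩
  · change (dil u χ * g) *ᵥ a = b
    rw [← Matrix.mulVec_mulVec, hga, dil_mulVec, hχb, zero_smul, add_zero]
  · change ψ ᵥ* (dil u χ * g) = φ
    rw [← Matrix.vecMul_vecMul, dil_vecMul, hψu, zero_smul, add_zero, hgψ]

/-- a nonscalar matrix moves some flag -/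
theorem exists_of_nonscalar {A : Matrix (Fin n) (Fin n) F} (hA : ∀ c : F, A ≠ c • (1 : Matrix (Fin n) (Fin n) F)) :
    ∃ u v : Fin n → F, v ⬝ᵥ u = 0 ∧ v ⬝ᵥ (A *ᵥ u) ≠ 0 := by
  classical
  by_contra hcon
  push Not at hcon
  have h1 : ∀ i j, i ≠ j → A j i = 0 := by
    intro i j hij
    have := hcon (Pi.single i 1) (Pi.single j 1) (by simp [Pi.single_apply, hij.symm, hij])
    simpa using this
  have h2 : ∀ i j, A i i = A j j := by
    intro i j
    by_cases hij : i = j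
    · rw [hij]
    have := hcon (Pi.single i 1 + Pi.single j 1) (Pi.single i 1 - Pi.single j 1) (by
      simp [Pi.single_apply, hij, Ne.symm hij, add_dotProduct, sub_dotProduct])
    rw [sub_dotProduct, Matrix.mulVec_add, dotProduct_add, dotProduct_add] at this
    simp [h1 i j hij, h1 j i (Ne.symm hij)] at this
    exact sub_eq_zero.1 this
  rcases Nat.eq_zero_or_pos n with rfl | hn
  · apply hA 0
    ext i
    exact i.elim0
  · apply hA (A ⟨0, hn⟩ ⟨0, hn⟩)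
    ext i j
    by_cases hij : i = j
    · subst hij
      simp [h2 i ⟨0, hn⟩]
    · simp [Matrix.one_apply, hij, h1 j i (Ne.symm hij)]

theorem conj_vecMulVec (G : SLn) (w v : Fin n → F) :
    (G : Matrix (Fin n) (Fin n) F) * vecMulVec w v * ((G⁻¹ : SLn) : Matrix (Fin n) (Fin n) F) =
      vecMulVec ((G : Matrix (Fin n) (Fin n) F) *ᵥ w) (v ᵥ* ((G⁻¹ : SLn) : Matrix (Fin n) (Fin n) F)) := by
  rw [mul_vecMulVec', vecMulVec_mul']

theorem coe_mul_inv (G : SLn) : (G : Matrix (Fin n) (Fin n) F) * ((G⁻¹ : SLn) : Matrix (Fin n) (Fin n) F) = 1 := by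
  rw [← Matrix.SpecialLinearGroup.coe_mul, mul_inv_cancel, Matrix.SpecialLinearGroup.coe_one]

theorem coe_inv_mul (G : SLn) : ((G⁻¹ : SLn) : Matrix (Fin n) (Fin n) F) * (G : Matrix (Fin n) (Fin n) F) = 1 := by
  rw [← Matrix.SpecialLinearGroup.coe_mul, inv_mul_cancel, Matrix.SpecialLinearGroup.coe_one]

/-- the elementary element `1 + u vᵀ` of `SL_n` -/
def el (u v : Fin n → F) (h : v ⬝ᵥ u = 0) : SLn :=
  ⟨1 + vecMulVec u v, by
    have := det_dil u v
    unfold dil at this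
    rw [this, h, add_zero]⟩

theorem el_inv (u v : Fin n → F) (h : v ⬝ᵥ u = 0) : ((el u v h)⁻¹ : SLn) = el (-u) v (by rw [dotProduct_neg, h, neg_zero]) := by
  rw [inv_eq_iff_mul_eq_one]
  apply Subtype.ext
  rw [Matrix.SpecialLinearGroup.coe_mul, Matrix.SpecialLinearGroup.coe_one]
  change (1 + vecMulVec u v) * (1 + vecMulVec (-u) v) = 1
  rw [add_mul, mul_add, mul_add, one_mul, one_mul, mul_one, Matrix.vecMulVec_mul_vecMulVec]
  have h2 : v ⬝ᵥ (-u) = 0 := by rw [dotProduct_neg, h, neg_zero]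
  rw [h2]
  ext i j
  simp [vecMulVec_apply]

/-- `N` orthogonal to the class of a nonscalar `A` for the trace form is scalar -/
theorem key (hn : 3 ≤ n) {A N : Matrix (Fin n) (Fin n) F} (hA : ∀ c : F, A ≠ c • (1 : Matrix (Fin n) (Fin n) F))
    (hAN : ∀ G : SLn, ((G : Matrix (Fin n) (Fin n) F) * A * ((G⁻¹ : SLn) : Matrix (Fin n) (Fin n) F) * N).trace = 0)
    (u' v' : Fin n → F) (huv : v' ⬝ᵥ u' = 0) : v' ⬝ᵥ (N *ᵥ u') = 0 := by
  classical
  by_cases hu' : u' = 0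
  · rw [hu', Matrix.mulVec_zero, dotProduct_zero]
  by_cases hv' : v' = 0
  · rw [hv', zero_dotProduct]
  obtain ⟨u, v, hvu, hm⟩ := exists_of_nonscalar hA
  have hu : u ≠ 0 := by rintro rfl; simp at hm
  have hv : v ≠ 0 := by rintro rfl; simp at hm
  obtain ⟨x, hxv, hxu⟩ : ∃ x : Fin n → F, v ⬝ᵥ x = 0 ∧ x ∉ Submodule.span F {u} := by
    by_contra hcon
    push Not at hcon
    have hle : LinearMap.ker (dotL v) ≤ Submodule.span F {u} := fun v hv => hcon v hv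
    have h1 := Submodule.finrank_mono hle
    have h2 := finrank_ker_dotL hv
    rw [finrank_span_singleton hu] at h1
    rw [Fintype.card_fin] at h2
    omega
  set Z : Matrix (Fin n) (Fin n) F → Prop := fun X => ∀ G : SLn,
    ((G : Matrix (Fin n) (Fin n) F) * X * ((G⁻¹ : SLn) : Matrix (Fin n) (Fin n) F) * N).trace = 0 with hZ
  have hZadd : ∀ X Y, Z X → Z Y → Z (X + Y) := by
    intro X Y hX hY G
    rw [mul_add, add_mul, add_mul, Matrix.trace_add, hX G, hY G, add_zero]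
  have hZneg : ∀ X, Z X → Z (-X) := by
    intro X hX G
    rw [mul_neg, neg_mul, neg_mul, Matrix.trace_neg, hX G, neg_zero]
  have hZconj : ∀ X (K : SLn), Z X → Z ((K : Matrix (Fin n) (Fin n) F) * X * ((K⁻¹ : SLn) : Matrix (Fin n) (Fin n) F)) := by
    intro X K hX G
    have h1 := hX (G * K)
    rw [_root_.mul_inv_rev, Matrix.SpecialLinearGroup.coe_mul, Matrix.SpecialLinearGroup.coe_mul] at h1
    simp only [mul_assoc] at h1 ⊢
    exact h1
  have hE : ∀ y : Fin n → F, v ⬝ᵥ y = 0 → Z ((1 + vecMulVec y v) * A * (1 + vecMulVec (-y) v)) := by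
    intro y hy
    have h1 := hZconj A (el y v hy) hAN
    rw [el_inv] at h1
    exact h1
  have hxu0 : v ⬝ᵥ (u + x) = 0 := by rw [dotProduct_add, hvu, hxv, add_zero]
  have hW : Z ((1 + vecMulVec (u + x) v) * A * (1 + vecMulVec (-(u + x)) v) +
      -((1 + vecMulVec u v) * A * (1 + vecMulVec (-u) v)) + -((1 + vecMulVec x v) * A * (1 + vecMulVec (-x) v)) + A) :=
    hZadd _ _ (hZadd _ _ (hZadd _ _ (hE _ hxu0) (hZneg _ (hE _ hvu))) (hZneg _ (hE _ hxv))) hAN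
  obtain ⟨w, hw⟩ : ∃ w : Fin n → F, w = (v ⬝ᵥ (A *ᵥ x)) • u + (v ⬝ᵥ (A *ᵥ u)) • x := ⟨_, rfl⟩
  have hWe : (1 + vecMulVec (u + x) v) * A * (1 + vecMulVec (-(u + x)) v) +
      -((1 + vecMulVec u v) * A * (1 + vecMulVec (-u) v)) + -((1 + vecMulVec x v) * A * (1 + vecMulVec (-x) v)) + A =
      - vecMulVec w v := by
    have h1 : ∀ y z : Fin n → F, vecMulVec y v * A * vecMulVec z v = (v ⬝ᵥ (A *ᵥ z)) • vecMulVec y v := by
      intro y z
      rw [mul_assoc, mul_vecMulVec', Matrix.vecMulVec_mul_vecMulVec]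
      ext i j
      simp [vecMulVec_apply]
      ring
    have h2 : vecMulVec (u + x) v = vecMulVec u v + vecMulVec x v := by
      ext i j; simp [vecMulVec_apply, add_mul]
    have h3 : ∀ y : Fin n → F, vecMulVec (-y) v = - vecMulVec y v := by
      intro y; ext i j; simp [vecMulVec_apply]
    have h4 : vecMulVec w v = (v ⬝ᵥ (A *ᵥ x)) • vecMulVec u v + (v ⬝ᵥ (A *ᵥ u)) • vecMulVec x v := by
      rw [hw]; ext i j; simp [vecMulVec_apply]; ring
    rw [h3, h3, h3, h2, h4, ← h1, ← h1]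
    noncomm_ring
  rw [hWe] at hW
  have hW2 : Z (vecMulVec w v) := by
    have := hZneg _ hW
    rwa [neg_neg] at this
  have hwv : v ⬝ᵥ w = 0 := by rw [hw, dotProduct_add, dotProduct_smul, dotProduct_smul, hvu, hxv]; simp
  have hw0 : w ≠ 0 := by
    intro h0
    apply hxu
    rw [Submodule.mem_span_singleton]
    refine ⟨-((v ⬝ᵥ (A *ᵥ u))⁻¹ * (v ⬝ᵥ (A *ᵥ x))), ?_⟩
    rw [h0] at hw
    have h5 : (v ⬝ᵥ (A *ᵥ u)) • x = -((v ⬝ᵥ (A *ᵥ x)) • u) := by
      rw [eq_neg_iff_add_eq_zero, add_comm]; exact hw.symm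
    have h6 : x = (v ⬝ᵥ (A *ᵥ u))⁻¹ • ((v ⬝ᵥ (A *ᵥ u)) • x) := by rw [smul_smul, inv_mul_cancel₀ hm, one_smul]
    conv_rhs => rw [h6, h5, smul_neg, smul_smul]
    rw [neg_smul]
  obtain ⟨G, hG1, hG2⟩ := exists_flag_SL hn hw0 hu' hv hv' hwv huv
  have h7 := hW2 G
  rw [conj_vecMulVec, hG1, ← hG2, Matrix.vecMul_vecMul, coe_mul_inv, Matrix.vecMul_one, vecMulVec_mul',
    Matrix.trace_vecMulVec] at h7
  rw [Matrix.dotProduct_mulVec, dotProduct_comm]
  exact h7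

theorem trace_mul_vecMulVec (M : Matrix (Fin n) (Fin n) F) (u v : Fin n → F) :
    (M * vecMulVec u v).trace = v ⬝ᵥ (M *ᵥ u) := by
  rw [mul_vecMulVec', Matrix.trace_vecMulVec, dotProduct_comm]

/-- for nonscalar `A`, `B` (`n ≥ 3`) some products of conjugates have trace `0` and some have trace `1` -/
theorem exists_traces (hn : 3 ≤ n) {A B : Matrix (Fin n) (Fin n) F} (hA : ∀ c : F, A ≠ c • (1 : Matrix (Fin n) (Fin n) F))
    (hB : ∀ c : F, B ≠ c • (1 : Matrix (Fin n) (Fin n) F)) (s : F) :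
    ∃ G : SLn, ((G : Matrix (Fin n) (Fin n) F) * A * ((G⁻¹ : SLn) : Matrix (Fin n) (Fin n) F) * B).trace = s := by
  classical
  obtain ⟨u, v₀, hv₀u, hm⟩ := exists_of_nonscalar hB
  have hu : u ≠ 0 := by rintro rfl; simp at hm
  have hBu : B *ᵥ u ∉ Submodule.span F {u} := by
    rw [Submodule.mem_span_singleton]
    rintro ⟨c, hc⟩
    rw [← hc, dotProduct_smul, hv₀u, smul_zero] at hm
    exact hm rfl
  -- `v` orthogonal to `u` and `B u`
  obtain ⟨v, hv, hvu, hvb⟩ : ∃ v : Fin n → F, v ≠ 0 ∧ v ⬝ᵥ u = 0 ∧ v ⬝ᵥ (B *ᵥ u) = 0 := by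
    have h1 : Submodule.span F {u, B *ᵥ u} ≠ ⊤ := by
      intro h1
      have h2 := finrank_span_finset_le_card (R := F) ({u, B *ᵥ u} : Finset (Fin n → F))
      rw [Finset.coe_insert, Finset.coe_singleton, Set.finrank, h1, finrank_top, Module.finrank_fin_fun] at h2
      have h3 : Finset.card ({u, B *ᵥ u} : Finset (Fin n → F)) ≤ 2 := Finset.card_le_two
      omega
    obtain ⟨x, hx⟩ : ∃ x, x ∉ Submodule.span F {u, B *ᵥ u} := by
      by_contra hcon
      push Not at hcon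
      exact h1 (eq_top_iff.2 fun x _ => hcon x)
    obtain ⟨f, hfx, hf⟩ := Submodule.exists_le_ker_of_notMem hx
    obtain ⟨v, rfl⟩ := exists_dotL f
    refine ⟨v, ?_, hf (Submodule.subset_span (by simp)), hf (Submodule.subset_span (by simp))⟩
    rintro rfl
    apply hfx
    rw [dotL_apply, zero_dotProduct]
  -- the matrix `N`
  obtain ⟨N, hN⟩ : ∃ N : Matrix (Fin n) (Fin n) F, N = vecMulVec (B *ᵥ u) v - vecMulVec u (v ᵥ* B) := ⟨_, rfl⟩
  obtain ⟨G, hG⟩ : ∃ G : SLn, ((G : Matrix (Fin n) (Fin n) F) * A * ((G⁻¹ : SLn) : Matrix (Fin n) (Fin n) F) * N).trace ≠ 0 := by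
    by_contra hcon
    push Not at hcon
    have h1 := key hn hA hcon
    -- choose `v'`, `u'`
    obtain ⟨f, hfb, hfu⟩ := Submodule.exists_le_ker_of_notMem hBu
    obtain ⟨v', rfl⟩ := exists_dotL f
    rw [dotL_apply] at hfb
    have hv'u : v' ⬝ᵥ u = 0 := hfu (Submodule.mem_span_singleton_self u)
    obtain ⟨x, hx, -⟩ := exists_dotProduct_ne_zero hv hv
    obtain ⟨u', hu'⟩ : ∃ u' : Fin n → F, u' = x - ((v' ⬝ᵥ x) * (v' ⬝ᵥ (B *ᵥ u))⁻¹) • (B *ᵥ u) := ⟨_, rfl⟩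
    have h2 : v' ⬝ᵥ u' = 0 := by
      rw [hu', dotProduct_sub, dotProduct_smul, smul_eq_mul, mul_assoc, inv_mul_cancel₀ hfb, mul_one, sub_self]
    have h3 : v ⬝ᵥ u' = v ⬝ᵥ x := by
      rw [hu', dotProduct_sub, dotProduct_smul, hvb, smul_zero, sub_zero]
    have h4 := h1 u' v' h2
    rw [hN, Matrix.sub_mulVec, Matrix.vecMulVec_mulVec, Matrix.vecMulVec_mulVec, dotProduct_sub] at h4
    simp only [dotProduct_smul, op_smul_eq_smul, smul_eq_mul] at h4
    rw [hv'u, mul_zero, sub_zero, h3] at h4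
    exact mul_ne_zero hx hfb h4
  set A' : Matrix (Fin n) (Fin n) F := (G : Matrix (Fin n) (Fin n) F) * A * ((G⁻¹ : SLn) : Matrix (Fin n) (Fin n) F) with hA'
  have hα : (A' * N).trace = v ⬝ᵥ (A' *ᵥ (B *ᵥ u)) - v ⬝ᵥ (B *ᵥ (A' *ᵥ u)) := by
    rw [hN, mul_sub, Matrix.trace_sub, trace_mul_vecMulVec, trace_mul_vecMulVec, ← Matrix.dotProduct_mulVec]
  -- the one-parameter family
  obtain ⟨t, ht⟩ : ∃ t : F, (A' * B).trace + t * (A' * N).trace = s := by
    refine ⟨(s - (A' * B).trace) * ((A' * N).trace)⁻¹, ?_⟩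
    rw [mul_assoc (s - (A' * B).trace), inv_mul_cancel₀ hG, mul_one, add_sub_cancel]
  have htu : v ⬝ᵥ (t • u) = 0 := by rw [dotProduct_smul, hvu, smul_zero]
  refine ⟨el (t • u) v htu * G, ?_⟩
  have h5 : (((el (t • u) v htu * G : SLn) : Matrix (Fin n) (Fin n) F) * A *
      (((el (t • u) v htu * G)⁻¹ : SLn) : Matrix (Fin n) (Fin n) F) * B) =
      (1 + vecMulVec (t • u) v) * A' * (1 + vecMulVec (-(t • u)) v) * B := by
    rw [_root_.mul_inv_rev, el_inv, Matrix.SpecialLinearGroup.coe_mul, Matrix.SpecialLinearGroup.coe_mul, hA']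
    change (1 + vecMulVec (t • u) v) * (G : Matrix (Fin n) (Fin n) F) * A *
      (((G⁻¹ : SLn) : Matrix (Fin n) (Fin n) F) * (1 + vecMulVec (-(t • u)) v)) * B = _
    simp only [mul_assoc]
  rw [h5, ← ht]
  have h6 : vecMulVec (-(t • u)) v = - (t • vecMulVec u v) := by
    ext i j; simp [vecMulVec_apply, mul_assoc]
  have h7 : vecMulVec (t • u) v = t • vecMulVec u v := by
    ext i j; simp [vecMulVec_apply, mul_assoc]
  have h8 : (1 + vecMulVec (t • u) v) * A' * (1 + vecMulVec (-(t • u)) v) * B =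
      A' * B + t • (vecMulVec u v * (A' * B)) - t • (A' * vecMulVec u v * B) -
        (t * t) • (vecMulVec u v * A' * vecMulVec u v * B) := by
    rw [h6, h7]
    simp only [add_mul, mul_add, one_mul, mul_one, mul_neg, neg_mul, smul_mul_assoc, mul_smul_comm, smul_neg, smul_smul,
      mul_assoc, smul_add]
    module
  rw [h8, Matrix.trace_sub, Matrix.trace_sub, Matrix.trace_add, Matrix.trace_smul, Matrix.trace_smul, Matrix.trace_smul]
  have e1 : (vecMulVec u v * (A' * B)).trace = v ⬝ᵥ (A' *ᵥ (B *ᵥ u)) := by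
    rw [Matrix.trace_mul_comm, trace_mul_vecMulVec, Matrix.mulVec_mulVec]
  have e2 : (A' * vecMulVec u v * B).trace = v ⬝ᵥ (B *ᵥ (A' *ᵥ u)) := by
    rw [Matrix.trace_mul_comm, ← mul_assoc, trace_mul_vecMulVec, Matrix.mulVec_mulVec]
  have e3 : (vecMulVec u v * A' * vecMulVec u v * B).trace = 0 := by
    have : vecMulVec u v * A' * vecMulVec u v * B = (v ⬝ᵥ (A' *ᵥ u)) • (vecMulVec u v * B) := by
      rw [mul_assoc (vecMulVec u v), mul_vecMulVec', Matrix.vecMulVec_mul_vecMulVec]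
      rw [← smul_mul_assoc]
      congr 1
      ext i j
      simp [vecMulVec_apply]
      ring
    rw [this, Matrix.trace_smul, Matrix.trace_mul_comm, trace_mul_vecMulVec, hvb, smul_zero]
  rw [e1, e2, e3, hα]
  simp only [smul_eq_mul, mul_zero, sub_zero]
  ring

end Cfsg.Agent.H39.TrProd
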