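import Cfsg.Agent.H39.PrinValues
import Cfsg.Agent.CharBase.Central

/-!
Restriction of characters of `GL₂` and `SL₂` to the unipotent subgroup.
-/

set_option autoImplicit false
set_option linter.unusedSectionVars false
set_option linter.unusedSimpArgs false

namespace Cfsg.Agent.H39

open Cfsg Cfsg.Agent.Char Cfsg.Agent.CharBase Matrix
open scoped ComplexConjugate

section fourier
variable {F : Type*} [Field F] [Fintype F]

theorem exists_primitive (F : Type*) [Field F] [Fintype F] : ∃ ψ : AddChar F ℂ, ψ.IsPrimitive := by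
  obtain ⟨ψ, hψ⟩ := AddChar.exists_apply_ne_zero.2 (one_ne_zero (α := F))
  refine ⟨ψ, AddChar.IsPrimitive.of_ne_one ?_⟩
  rintro rfl
  simp at hψ

/-- Fourier coefficient. -/
noncomputable def hatC (ψ : AddChar F ℂ) (f : F → ℂ) (a : F) : ℂ :=
  (Fintype.card F : ℂ)⁻¹ * ∑ x, f x * conj (ψ (a * x))

theorem card_ne (F : Type*) [Fintype F] [Nonempty F] : (Fintype.card F : ℂ) ≠ 0 := by
  exact_mod_cast Fintype.card_ne_zero

theorem orth_add [DecidableEq F] {ψ : AddChar F ℂ} (hψ : ψ.IsPrimitive) (x y : F) :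
    ∑ a : F, conj (ψ (a * x)) * ψ (a * y) = if x = y then (Fintype.card F : ℂ) else 0 := by
  have h1 : ∀ a : F, conj (ψ (a * x)) * ψ (a * y) = ψ (a * (y - x)) := by
    intro a
    rw [← AddChar.map_neg_eq_conj, ← AddChar.map_add_eq_mul]
    congr 1
    ring
  rw [Finset.sum_congr rfl (fun a _ => h1 a), AddChar.sum_mulShift _ hψ]
  by_cases h : x = y
  · simp [h]
  · rw [if_neg (fun h2 => h (sub_eq_zero.1 h2).symm), if_neg h]
    simp

theorem hat_inv {ψ : AddChar F ℂ} (hψ : ψ.IsPrimitive) (f : F → ℂ) (x : F) :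
    f x = ∑ a, hatC ψ f a * ψ (a * x) := by
  classical
  simp only [hatC]
  have h1 : ∀ a : F, (Fintype.card F : ℂ)⁻¹ * (∑ y, f y * conj (ψ (a * y))) * ψ (a * x) =
      (Fintype.card F : ℂ)⁻¹ * ∑ y, f y * (conj (ψ (a * y)) * ψ (a * x)) := by
    intro a
    rw [mul_assoc, Finset.sum_mul]
    congr 1
    exact Finset.sum_congr rfl fun y _ => by ring
  rw [Finset.sum_congr rfl (fun a _ => h1 a), ← Finset.mul_sum, Finset.sum_comm]
  have h2 : ∀ y : F, ∑ a : F, f y * (conj (ψ (a * y)) * ψ (a * x)) =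
      f y * (if y = x then (Fintype.card F : ℂ) else 0) := by
    intro y
    rw [← Finset.mul_sum, orth_add hψ]
  rw [Finset.sum_congr rfl (fun y _ => h2 y)]
  simp only [mul_ite, mul_zero, Finset.sum_ite_eq', Finset.mem_univ, if_true]
  rw [mul_comm (f x), inv_mul_cancel_left₀ (card_ne F)]

theorem hat_parseval {ψ : AddChar F ℂ} (hψ : ψ.IsPrimitive) (f : F → ℂ) :
    ∑ x, f x * conj (f x) = Fintype.card F * ∑ a, hatC ψ f a * conj (hatC ψ f a) := by
  classical
  have h1 : ∀ x, f x * conj (f x) = ∑ a, conj (hatC ψ f a) * (f x * conj (ψ (a * x))) := by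
    intro x
    conv_lhs => rw [hat_inv hψ f x]
    rw [← hat_inv hψ f x]
    conv_lhs => rw [hat_inv hψ f x, map_sum, ← hat_inv hψ f x, Finset.mul_sum]
    refine Finset.sum_congr rfl fun a _ => ?_
    rw [map_mul]
    ring
  rw [Finset.sum_congr rfl (fun x _ => h1 x), Finset.sum_comm, Finset.mul_sum]
  refine Finset.sum_congr rfl fun a _ => ?_
  rw [← Finset.mul_sum]
  have h2 : ∑ x, f x * conj (ψ (a * x)) = Fintype.card F * hatC ψ f a := by
    rw [hatC, mul_inv_cancel_left₀ (card_ne F)]
  rw [h2]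
  ring

theorem hat_scale (ψ : AddChar F ℂ) (f : F → ℂ) {c : F} (hc : c ≠ 0) (hf : ∀ x, f (c * x) = f x) (a : F) :
    hatC ψ f (c * a) = hatC ψ f a := by
  rw [hatC, hatC]
  congr 1
  rw [← Equiv.sum_comp (Equiv.mulLeft₀ c hc) (fun x => f x * conj (ψ (a * x)))]
  refine Finset.sum_congr rfl fun x _ => ?_
  show _ = f (c * x) * conj (ψ (a * (c * x)))
  rw [hf]
  congr 3
  ring

end fourier

section gen
variable {F : Type*} [Field F] [Fintype F] {G : Type*} [Group G] {ι : G →* GL (Fin 2) F} {u : F → G} {w : G}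

/-- The unipotent subgroup as a homomorphism. -/
def Frame.uHom (h : Frame ι u w) : Multiplicative F →* G where
  toFun x := u (Multiplicative.toAdd x)
  map_one' := h.u_zero
  map_mul' x y := h.u_add _ _

/-- Fourier coefficients of characters are natural numbers. -/
theorem Frame.hat_nat (h : Frame ι u w) {χ : G → ℂ} (hχ : IsCharacter G χ) (ψ : AddChar F ℂ) (a : F) :
    ∃ n : ℕ, hatC ψ (fun x => χ (u x)) a = n := by
  classical
  have h1 : IsCharacter (Multiplicative F) (fun x => χ (h.uHom x)) := isCharacter_comp hχ h.uHom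
  have h2 : IsCharacter (Multiplicative F) (fun x => ψ (a * Multiplicative.toAdd x)) := by
    let f : Multiplicative F →* ℂ :=
      { toFun := fun x => ψ (a * Multiplicative.toAdd x)
        map_one' := by simp
        map_mul' := fun x y => by
          rw [toAdd_mul, mul_add, AddChar.map_add_eq_mul] }
    exact isCharacter_of_hom f
  obtain ⟨n, hn⟩ := classInner_natCast h1 h2
  refine ⟨n, ?_⟩
  rw [← hn, classInner, hatC]
  congr 1
  · congr 1
    rw [Nat.card_eq_fintype_card]
    exact congrArg _ (Fintype.card_congr Multiplicative.ofAdd)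
  · exact Fintype.sum_equiv Multiplicative.ofAdd _ _ (fun x => rfl)

/-- If there are no fixed vectors of the unipotent group then all coset sums vanish. -/
theorem Frame.coset_sum_eq_zero (h : Frame ι u w) {χ : G → ℂ} (hχ : IsCharacter G χ) (h0 : ∑ x, χ (u x) = 0) (t : G) :
    ∑ x, χ (t * u x) = 0 := by
  obtain ⟨n, ρ, rfl⟩ := hχ
  have hq := card_ne F
  set P : (Fin n → ℂ) →ₗ[ℂ] (Fin n → ℂ) := (Fintype.card F : ℂ)⁻¹ • ∑ x, ρ (u x) with hP
  have h1 : ∀ y, ρ (u y) * ∑ x, ρ (u x) = ∑ x, ρ (u x) := by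
    intro y
    rw [Finset.mul_sum, ← Equiv.sum_comp (Equiv.addLeft y) (fun x => ρ (u x))]
    refine Finset.sum_congr rfl fun x _ => ?_
    rw [Equiv.coe_addLeft, h.u_add, map_mul]
  have hidem : IsIdempotentElem P := by
    show P * P = P
    rw [hP, smul_mul_smul_comm, Finset.sum_mul]
    rw [Finset.sum_congr rfl (fun y _ => h1 y), Finset.sum_const, Finset.card_univ, ← Nat.cast_smul_eq_nsmul ℂ, smul_smul]
    congr 1
    field_simp
  have htr : LinearMap.trace ℂ _ P = 0 := by
    rw [hP, map_smul, map_sum]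
    have : ∑ x, LinearMap.trace ℂ (Fin n → ℂ) (ρ (u x)) = 0 := h0
    rw [this, smul_zero]
  have hP0 : P = 0 := LinearMap.IsIdempotentElem.eq_zero_of_trace_eq_zero hidem htr
  have h2 : ∑ x, ρ (u x) = 0 := by
    rw [hP] at hP0
    exact (smul_eq_zero.1 hP0).resolve_left (inv_ne_zero hq)
  have h4 : ∀ x, ρ.character (t * u x) = LinearMap.trace ℂ _ (ρ t * ρ (u x)) := by
    intro x
    rw [← map_mul]; rfl
  rw [Finset.sum_congr rfl (fun x _ => h4 x), ← map_sum, ← Finset.mul_sum, h2, mul_zero, map_zero]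

/-- If there are no fixed vectors of the unipotent group then the character vanishes at the elements `t` such that
all `t u(x)` are conjugate to `t`. -/
theorem Frame.char_eq_zero (h : Frame ι u w) {χ : G → ℂ} (hχ : IsCharacter G χ) (h0 : ∑ x, χ (u x) = 0) (t : G)
    (ht : ∀ x, χ (t * u x) = χ t) : χ t = 0 := by
  obtain ⟨n, ρ, rfl⟩ := hχ
  have hq := card_ne F
  set P : (Fin n → ℂ) →ₗ[ℂ] (Fin n → ℂ) := (Fintype.card F : ℂ)⁻¹ • ∑ x, ρ (u x) with hP
  have h1 : ∀ y, ρ (u y) * ∑ x, ρ (u x) = ∑ x, ρ (u x) := by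
    intro y
    rw [Finset.mul_sum, ← Equiv.sum_comp (Equiv.addLeft y) (fun x => ρ (u x))]
    refine Finset.sum_congr rfl fun x _ => ?_
    rw [Equiv.coe_addLeft, h.u_add, map_mul]
  have hidem : IsIdempotentElem P := by
    show P * P = P
    rw [hP, smul_mul_smul_comm, Finset.sum_mul]
    rw [Finset.sum_congr rfl (fun y _ => h1 y), Finset.sum_const, Finset.card_univ, ← Nat.cast_smul_eq_nsmul ℂ, smul_smul]
    congr 1
    field_simp
  have htr : LinearMap.trace ℂ _ P = 0 := by
    rw [hP, map_smul, map_sum]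
    have : ∑ x, LinearMap.trace ℂ (Fin n → ℂ) (ρ (u x)) = 0 := h0
    rw [this, smul_zero]
  have hP0 : P = 0 := LinearMap.IsIdempotentElem.eq_zero_of_trace_eq_zero hidem htr
  have h2 : ∑ x, ρ (u x) = 0 := by
    rw [hP] at hP0
    exact (smul_eq_zero.1 hP0).resolve_left (inv_ne_zero hq)
  have h3 : ∑ x, ρ.character (t * u x) = 0 := by
    have h4 : ∀ x, ρ.character (t * u x) = LinearMap.trace ℂ _ (ρ t * ρ (u x)) := by
      intro x
      rw [← map_mul]; rfl
    rw [Finset.sum_congr rfl (fun x _ => h4 x), ← map_sum, ← Finset.mul_sum, h2, mul_zero, map_zero]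
  rw [Finset.sum_congr rfl (fun x _ => ht x), Finset.sum_const, Finset.card_univ, nsmul_eq_mul] at h3
  exact (mul_eq_zero.1 h3).resolve_left hq

/-- conjugating a regular diagonal element by unipotent elements -/
theorem Frame.conj_split (h : Frame ι u w) {t : G} (h01 : mt ι t 0 1 = 0) (h10 : mt ι t 1 0 = 0)
    (hne : mt ι t 0 0 ≠ mt ι t 1 1) (x : F) : ∃ y, u y * t * (u y)⁻¹ = t * u x := by
  have hB : t ∈ B2 ι := by rw [mem_B2]; exact h10
  obtain ⟨h1, h2⟩ := mt_diag_ne_zero hB
  have h3 : mt ι t 1 1 - mt ι t 0 0 ≠ 0 := sub_ne_zero.2 (Ne.symm hne)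
  refine ⟨mt ι t 0 0 * x / (mt ι t 1 1 - mt ι t 0 0), ?_⟩
  apply h.ext
  rw [h.u_neg, mt_mul, mt_mul, mt_mul, h.hu, h.hu, h.hu]
  ext i j
  fin_cases i <;> fin_cases j <;> simp [Matrix.mul_apply, Fin.sum_univ_two, h01, h10, Matrix.vecMul, dotProduct]
  field_simp
  ring

theorem Frame.split_eq_zero (h : Frame ι u w) {χ : G → ℂ} (hχ : IsCharacter G χ) (h0 : ∑ x, χ (u x) = 0) (t : G)
    (h01 : mt ι t 0 1 = 0) (h10 : mt ι t 1 0 = 0) (hne : mt ι t 0 0 ≠ mt ι t 1 1) : χ t = 0 := by
  apply h.char_eq_zero hχ h0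
  intro x
  obtain ⟨y, hy⟩ := h.conj_split h01 h10 hne x
  rw [← hy]
  exact isClassFunction_of_isCharacter hχ _ _

/-- conjugates of unipotent elements -/
theorem Frame.mt_conj_u (h : Frame ι u w) (x y : F) :
    mt ι ((u y * w) * u x * (u y * w)⁻¹) = !![1 - x * y, x * y ^ 2; -x, 1 + x * y] := by
  rw [mt_mul, mt_mul, h.uw, h.uw_inv, h.hu]
  ext i j
  fin_cases i <;> fin_cases j <;> simp [Matrix.mul_apply, Fin.sum_univ_two, Matrix.vecMul, dotProduct] <;> ring

/-- parametrization of `Z · (unipotent elements)` -/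
def uniMap (u : F → G) (w : G) {I : Type*} (z : I → G) : I × Option (Option F × {x : F // x ≠ 0}) → G := fun p =>
  match p.2 with
  | none => z p.1
  | some (none, x) => z p.1 * u x
  | some (some y, x) => z p.1 * ((u y * w) * u x * (u y * w)⁻¹)

theorem Frame.uniMap_injective (h : Frame ι u w) {I : Type*} (z : I → G) (c : I → F) (hc : Function.Injective c)
    (hc0 : ∀ i, c i ≠ 0) (hz : ∀ i, mt ι (z i) = c i • (1 : Matrix (Fin 2) (Fin 2) F)) :
    Function.Injective (uniMap u w z) := by
  have m0 : ∀ i, mt ι (z i) = !![c i, 0; 0, c i] := by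
    intro i
    rw [hz]
    ext j k
    fin_cases j <;> fin_cases k <;> simp
  have m1 : ∀ i (x : F), mt ι (z i * u x) = !![c i, c i * x; 0, c i] := by
    intro i x
    rw [mt_mul, m0, h.hu]
    ext j k
    fin_cases j <;> fin_cases k <;> simp [Matrix.mul_apply, Fin.sum_univ_two]
  have m2 : ∀ i (x y : F), mt ι (z i * ((u y * w) * u x * (u y * w)⁻¹)) =
      !![c i * (1 - x * y), c i * (x * y ^ 2); -(c i * x), c i * (1 + x * y)] := by
    intro i x y
    rw [mt_mul, m0, h.mt_conj_u]
    ext j k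
    fin_cases j <;> fin_cases k <;> simp [Matrix.mul_apply, Fin.sum_univ_two]
  -- the scalar is determined by trace and determinant
  have key : ∀ a b : F, a + a = b + b → a * a = b * b → a = b := by
    intro a b h1 h2
    have h3 : (a - b) ^ 2 = 0 := by linear_combination h2 - b * h1
    exact sub_eq_zero.1 (pow_eq_zero_iff two_ne_zero |>.1 h3)
  rintro ⟨i, o⟩ ⟨i', o'⟩ hh
  rcases o with _ | ⟨_ | y, x, hx⟩ <;> rcases o' with _ | ⟨_ | y', x', hx'⟩
  · have h1 : z i = z i' := hh
    have h2 := congrArg (fun g => mt ι g 0 0) h1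
    simp only [m0] at h2
    rw [hc (show c i = c i' by simpa using h2)]
  · exfalso
    have h1 : z i = z i' * u x' := hh
    have h2 := congrArg (fun g => mt ι g 0 1) h1
    simp only [m0, m1] at h2
    have h3 : 0 = c i' * x' := by simpa using h2
    exact mul_ne_zero (hc0 _) hx' h3.symm
  · exfalso
    have h1 : z i = z i' * ((u y' * w) * u x' * (u y' * w)⁻¹) := hh
    have h2 := congrArg (fun g => mt ι g 1 0) h1
    simp only [m0, m2] at h2
    have h3 : 0 = -(c i' * x') := by simpa using h2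
    exact mul_ne_zero (hc0 _) hx' (by linear_combination h3)
  · exfalso
    have h1 : z i * u x = z i' := hh
    have h2 := congrArg (fun g => mt ι g 0 1) h1
    simp only [m0, m1] at h2
    have h3 : c i * x = 0 := by simpa using h2
    exact mul_ne_zero (hc0 _) hx h3
  · have h1 : z i * u x = z i' * u x' := hh
    have h2 := congrArg (fun g => mt ι g 0 0) h1
    have h3 := congrArg (fun g => mt ι g 0 1) h1
    simp only [m1] at h2 h3
    have h4 : i = i' := hc (by simpa using h2)
    subst h4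
    have h5 : c i * x = c i * x' := by simpa using h3
    have h6 := mul_left_cancel₀ (hc0 i) h5
    subst h6
    rfl
  · exfalso
    have h1 : z i * u x = z i' * ((u y' * w) * u x' * (u y' * w)⁻¹) := hh
    have h2 := congrArg (fun g => mt ι g 1 0) h1
    simp only [m1, m2] at h2
    have h3 : 0 = -(c i' * x') := by simpa using h2
    exact mul_ne_zero (hc0 _) hx' (by linear_combination h3)
  · exfalso
    have h1 : z i * ((u y * w) * u x * (u y * w)⁻¹) = z i' := hh
    have h2 := congrArg (fun g => mt ι g 1 0) h1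
    simp only [m0, m2] at h2
    have h3 : -(c i * x) = 0 := by simpa using h2
    exact mul_ne_zero (hc0 _) hx (by linear_combination -h3)
  · exfalso
    have h1 : z i * ((u y * w) * u x * (u y * w)⁻¹) = z i' * u x' := hh
    have h2 := congrArg (fun g => mt ι g 1 0) h1
    simp only [m1, m2] at h2
    have h3 : -(c i * x) = 0 := by simpa using h2
    exact mul_ne_zero (hc0 _) hx (by linear_combination -h3)
  · have h1 : z i * ((u y * w) * u x * (u y * w)⁻¹) = z i' * ((u y' * w) * u x' * (u y' * w)⁻¹) := hh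
    have e00 := congrArg (fun g => mt ι g 0 0) h1
    have e01 := congrArg (fun g => mt ι g 0 1) h1
    have e10 := congrArg (fun g => mt ι g 1 0) h1
    have e11 := congrArg (fun g => mt ι g 1 1) h1
    simp only [m2] at e00 e01 e10 e11
    have f00 : c i * (1 - x * y) = c i' * (1 - x' * y') := by simpa using e00
    have f01 : c i * (x * y ^ 2) = c i' * (x' * y' ^ 2) := by simpa using e01
    have f10 : c i * x = c i' * x' := by
      have : -(c i * x) = -(c i' * x') := by simpa using e10
      exact neg_inj.1 this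
    have f11 : c i * (1 + x * y) = c i' * (1 + x' * y') := by simpa using e11
    have h4 : c i = c i' := by
      apply key
      · linear_combination f00 + f11
      · linear_combination (c i * (1 + x * y)) * f00 + (c i' * (1 - x' * y')) * f11 +
          (c i * x) * f01 + (c i' * (x' * y' ^ 2)) * f10
    have h5 : i = i' := hc h4
    subst h5
    have h6 := mul_left_cancel₀ (hc0 i) f10
    subst h6
    have h7 := mul_left_cancel₀ (hc0 i) f11
    have h8 : x * y = x * y' := by linear_combination h7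
    have h9 := mul_left_cancel₀ hx h8
    subst h9
    rfl

end gen

section central
variable {G : Type*} [Group G] [Fintype G]

/-- central elements act by scalars of modulus one -/
theorem normSq_central_mul {χ : G → ℂ} (hχ : IsIrrCharacter G χ) {z : G} (hz : ∀ g, z * g = g * z) (g : G) :
    Complex.normSq (χ (z * g)) = Complex.normSq (χ g) := by
  have hG := cardG_ne_zero_complex G
  have h1 : χ 1 ≠ 0 := irr_one_ne_zero hχ
  have hcl := isClassFunction_of_isCharacter (isCharacter_of_isIrr hχ)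
  have key : ∀ v : G, χ (z * v) * χ 1 = χ z * χ v := by
    intro v
    have h2 := sum_conj_mul hχ z v
    have h3 : ∀ x : G, χ (z * (x * v * x⁻¹)) = χ (z * v) := by
      intro x
      have h4 : z * (x * v * x⁻¹) = x * (z * v) * x⁻¹ := by
        rw [← mul_assoc, ← mul_assoc, hz x, mul_assoc x z v]
      rw [h4]
      exact hcl _ _
    rw [Finset.sum_congr rfl (fun x _ => h3 x), Finset.sum_const, Finset.card_univ, nsmul_eq_mul,
      ← Nat.card_eq_fintype_card, eq_div_iff h1] at h2
    have h5 : (Nat.card G : ℂ) * (χ (z * v) * χ 1) = (Nat.card G : ℂ) * (χ z * χ v) := by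
      linear_combination h2
    exact mul_left_cancel₀ hG h5
  have h2 : Complex.normSq (χ z) = Complex.normSq (χ 1) := by
    have h3 := key z⁻¹
    rw [mul_inv_cancel, isCharacter_inv (isCharacter_of_isIrr hχ), Complex.mul_conj] at h3
    obtain ⟨n, hn⟩ := exists_nat_degree (isCharacter_of_isIrr hχ)
    rw [hn] at h3 ⊢
    have h4 : ((n : ℝ) * n : ℝ) = Complex.normSq (χ z) := by exact_mod_cast h3
    rw [← h4, Complex.normSq_natCast]
  have h3 := congrArg Complex.normSq (key g)
  rw [map_mul, map_mul, h2, mul_comm] at h3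
  exact mul_left_cancel₀ (fun h0 => h1 (Complex.normSq_eq_zero.1 h0)) h3

theorem sum_normSq_irr {χ : G → ℂ} (hχ : IsIrrCharacter G χ) : ∑ g, Complex.normSq (χ g) = Nat.card G := by
  have hG := cardG_ne_zero_complex G
  have h1 := classInner_irr_self ⟨χ, hχ⟩
  rw [classInner] at h1
  have h2 : ∀ g, χ g * conj (χ g) = ((Complex.normSq (χ g) : ℝ) : ℂ) := fun g => Complex.mul_conj _
  simp only [h2] at h1
  rw [← Complex.ofReal_sum] at h1
  have h3 : ((∑ g, Complex.normSq (χ g) : ℝ) : ℂ) = (Nat.card G : ℂ) := by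
    field_simp at h1
    exact h1
  exact_mod_cast h3

end central

section bound
variable {F : Type*} [Field F] [Fintype F] {G : Type*} [Group G] [Fintype G] {ι : G →* GL (Fin 2) F}
  {u : F → G} {w : G}

theorem Frame.central (h : Frame ι u w) {z : G} {c : F} (hz : mt ι z = c • (1 : Matrix (Fin 2) (Fin 2) F)) (g : G) :
    z * g = g * z := by
  apply h.ext
  rw [mt_mul, mt_mul, hz]
  simp

/-- The contribution of `Z · (unipotent elements)` to the norm of an irreducible character. -/
theorem Frame.sum_uniMap [DecidableEq F] (h : Frame ι u w) {χ : G → ℂ} (hχ : IsIrrCharacter G χ) {I : Type*} [Fintype I] (z : I → G)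
    (c : I → F) (hz : ∀ i, mt ι (z i) = c i • (1 : Matrix (Fin 2) (Fin 2) F)) {ψ : AddChar F ℂ} (hψ : ψ.IsPrimitive)
    (m : F → ℕ) (hm : ∀ a, hatC ψ (fun x => χ (u x)) a = m a) (d : ℕ) (hd : χ 1 = d) :
    ∑ p, Complex.normSq (χ (uniMap u w z p)) + (Fintype.card I : ℝ) * (Fintype.card F * (d : ℝ) ^ 2) =
      (Fintype.card I : ℝ) * (Fintype.card F * ((Fintype.card F + 1) * ∑ a, (m a : ℝ) ^ 2)) := by
  have hcl := isClassFunction_of_isCharacter (isCharacter_of_isIrr hχ)
  have h1 : ∑ x : F, Complex.normSq (χ (u x)) = Fintype.card F * ∑ a, (m a : ℝ) ^ 2 := by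
    have h2 := hat_parseval hψ (fun x => χ (u x))
    simp only [hm, Complex.mul_conj, Complex.normSq_natCast] at h2
    rw [← Complex.ofReal_sum] at h2
    have h3 : ((∑ x : F, Complex.normSq (χ (u x)) : ℝ) : ℂ) = ((Fintype.card F * ∑ a, (m a : ℝ) ^ 2 : ℝ) : ℂ) := by
      rw [h2]
      push_cast
      congr 1
      refine Finset.sum_congr rfl fun a _ => by ring
    exact_mod_cast h3
  have h0 : Complex.normSq (χ 1) = (d : ℝ) ^ 2 := by
    rw [hd, Complex.normSq_natCast, sq]
  have h2 : ∑ x : {x : F // x ≠ 0}, Complex.normSq (χ (u x)) = (Fintype.card F * ∑ a, (m a : ℝ) ^ 2) - (d : ℝ) ^ 2 := by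
    have h3 : ∑ x : F, Complex.normSq (χ (u x)) = Complex.normSq (χ (u 0)) + ∑ x : {x : F // x ≠ 0}, Complex.normSq (χ (u x)) := by
      rw [← Finset.add_sum_erase Finset.univ _ (Finset.mem_univ (0 : F))]
      congr 1
      refine Finset.sum_bij' (fun x hx => ⟨x, (Finset.mem_erase.1 hx).1⟩) (fun x _ => (x : F)) ?_ ?_ ?_ ?_ ?_
      · intro x hx; exact Finset.mem_univ _
      · intro x hx; exact Finset.mem_erase.2 ⟨x.2, Finset.mem_univ _⟩
      · intro x hx; rfl
      · intro x hx; rfl
      · intro x hx; rfl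
    rw [h.u_zero, h0, h1] at h3
    linarith
  have h3 : ∀ i : I, ∑ o : Option (Option F × {x : F // x ≠ 0}), Complex.normSq (χ (uniMap u w z (i, o))) =
      (d : ℝ) ^ 2 + (Fintype.card F + 1) * ((Fintype.card F * ∑ a, (m a : ℝ) ^ 2) - (d : ℝ) ^ 2) := by
    intro i
    rw [Fintype.sum_option, Fintype.sum_prod_type, Fintype.sum_option]
    have e1 : Complex.normSq (χ (uniMap u w z (i, none))) = (d : ℝ) ^ 2 := by
      show Complex.normSq (χ (z i)) = _
      rw [← mul_one (z i), normSq_central_mul hχ (h.central (hz i)), h0]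
    have e2 : ∀ x : {x : F // x ≠ 0}, Complex.normSq (χ (uniMap u w z (i, some (none, x)))) =
        Complex.normSq (χ (u x)) := by
      intro x
      show Complex.normSq (χ (z i * u x)) = _
      rw [normSq_central_mul hχ (h.central (hz i))]
    have e3 : ∀ (y : F) (x : {x : F // x ≠ 0}), Complex.normSq (χ (uniMap u w z (i, some (some y, x)))) =
        Complex.normSq (χ (u x)) := by
      intro y x
      show Complex.normSq (χ (z i * ((u y * w) * u x * (u y * w)⁻¹))) = _
      rw [normSq_central_mul hχ (h.central (hz i)), hcl]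
    simp only [e1, e2, e3, h2, Finset.sum_const, Finset.card_univ, nsmul_eq_mul]
    ring
  rw [Fintype.sum_prod_type]
  simp only [h3, Finset.sum_const, Finset.card_univ, nsmul_eq_mul]
  ring

/-- The norm bound. -/
theorem Frame.bound [DecidableEq F] (h : Frame ι u w) {χ : G → ℂ} (hχ : IsIrrCharacter G χ) {I : Type*} [Fintype I] (z : I → G)
    (c : I → F) (hc : Function.Injective c) (hc0 : ∀ i, c i ≠ 0)
    (hz : ∀ i, mt ι (z i) = c i • (1 : Matrix (Fin 2) (Fin 2) F)) {ψ : AddChar F ℂ} (hψ : ψ.IsPrimitive)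
    (m : F → ℕ) (hm : ∀ a, hatC ψ (fun x => χ (u x)) a = m a) (d : ℕ) (hd : χ 1 = d) :
    Fintype.card I * (Fintype.card F * ((Fintype.card F + 1) * ∑ a, m a ^ 2)) ≤
      Nat.card G + Fintype.card I * (Fintype.card F * d ^ 2) := by
  classical
  have h1 := h.sum_uniMap hχ z c hz hψ m hm d hd
  have h2 := sum_normSq_irr hχ
  have h3 : ∑ p, Complex.normSq (χ (uniMap u w z p)) ≤ ∑ g, Complex.normSq (χ g) := by
    rw [← Finset.sum_image (s := Finset.univ) (g := uniMap u w z) (f := fun g => Complex.normSq (χ g))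
      (fun a _ b _ hab => h.uniMap_injective z c hc hc0 hz hab)]
    exact Finset.sum_le_sum_of_subset_of_nonneg (Finset.subset_univ _) (fun g _ _ => Complex.normSq_nonneg _)
  rw [h2] at h3
  have h4 : ((Fintype.card I * (Fintype.card F * ((Fintype.card F + 1) * ∑ a, m a ^ 2)) : ℕ) : ℝ) ≤
      ((Nat.card G + Fintype.card I * (Fintype.card F * d ^ 2) : ℕ) : ℝ) := by
    push_cast
    linarith
  exact_mod_cast h4

/-- If the norm bound is attained then the character vanishes elsewhere. -/
theorem Frame.eq_zero_of_bound [DecidableEq F] (h : Frame ι u w) {χ : G → ℂ} (hχ : IsIrrCharacter G χ) {I : Type*} [Fintype I] (z : I → G)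
    (c : I → F) (hc : Function.Injective c) (hc0 : ∀ i, c i ≠ 0)
    (hz : ∀ i, mt ι (z i) = c i • (1 : Matrix (Fin 2) (Fin 2) F)) {ψ : AddChar F ℂ} (hψ : ψ.IsPrimitive)
    (m : F → ℕ) (hm : ∀ a, hatC ψ (fun x => χ (u x)) a = m a) (d : ℕ) (hd : χ 1 = d)
    (heq : Fintype.card I * (Fintype.card F * ((Fintype.card F + 1) * ∑ a, m a ^ 2)) =
      Nat.card G + Fintype.card I * (Fintype.card F * d ^ 2)) (g : G) (hg : ∀ p, uniMap u w z p ≠ g) : χ g = 0 := by
  classical
  have h1 := h.sum_uniMap hχ z c hz hψ m hm d hd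
  have h2 := sum_normSq_irr hχ
  have h4 : ((Fintype.card I * (Fintype.card F * ((Fintype.card F + 1) * ∑ a, m a ^ 2)) : ℕ) : ℝ) =
      ((Nat.card G + Fintype.card I * (Fintype.card F * d ^ 2) : ℕ) : ℝ) := by rw [heq]
  push_cast at h4
  have h3 : ∑ p, Complex.normSq (χ (uniMap u w z p)) = ∑ g, Complex.normSq (χ g) := by
    rw [h2]; linarith
  rw [← Finset.sum_image (s := Finset.univ) (g := uniMap u w z) (f := fun g => Complex.normSq (χ g))
      (fun a _ b _ hab => h.uniMap_injective z c hc hc0 hz hab)] at h3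
  have hg' : g ∉ Finset.univ.image (uniMap u w z) := by
    intro hg'
    obtain ⟨p, -, hp⟩ := Finset.mem_image.1 hg'
    exact hg p hp
  have h5 := Finset.sum_add_sum_compl (Finset.univ.image (uniMap u w z)) (fun g => Complex.normSq (χ g))
  have h6 : ∑ g ∈ (Finset.univ.image (uniMap u w z))ᶜ, Complex.normSq (χ g) = 0 := by linarith
  have h7 := (Finset.sum_eq_zero_iff_of_nonneg (fun g _ => Complex.normSq_nonneg (χ g))).1 h6 g
    (Finset.mem_compl.2 hg')
  exact Complex.normSq_eq_zero.1 h7

end bound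

end Cfsg.Agent.H39
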