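import Mathlib

/-!
Weight spaces of a finite additive group acting on a finite-dimensional complex vector space, and a lower bound for
dimensions from a projective action.
-/

set_option autoImplicit false
set_option linter.unusedSectionVars false

namespace Cfsg.Agent.H39

open Module

section weights
variable {A V : Type*} [AddCommGroup A] [Fintype A] [AddCommGroup V] [Module ℂ V]

/-- The weight space of `ψ`. -/
def wt (U : A → (V →ₗ[ℂ] V)) (ψ : AddChar A ℂ) : Submodule ℂ V where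
  carrier := {v | ∀ a, U a v = ψ a • v}
  add_mem' {x y} hx hy a := by rw [map_add, hx a, hy a, smul_add]
  zero_mem' a := by simp
  smul_mem' c x hx a := by rw [map_smul, hx a, smul_comm]

theorem mem_wt {U : A → (V →ₗ[ℂ] V)} {ψ : AddChar A ℂ} {v : V} : v ∈ wt U ψ ↔ ∀ a, U a v = ψ a • v := Iff.rfl

/-- The (unnormalised) projection. -/
noncomputable def wtProj (U : A → (V →ₗ[ℂ] V)) (ψ : AddChar A ℂ) : V →ₗ[ℂ] V :=
  ∑ a, (ψ (-a)) • U a

theorem wtProj_mem (U : A → (V →ₗ[ℂ] V)) (hU : ∀ a b v, U (a + b) v = U a (U b v)) (ψ : AddChar A ℂ) (v : V) :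
    wtProj U ψ v ∈ wt U ψ := by
  intro b
  simp only [wtProj, LinearMap.sum_apply, LinearMap.smul_apply, map_sum, map_smul]
  rw [← Equiv.sum_comp (Equiv.addLeft b) (fun a => ψ (-a) • U a v), Finset.smul_sum]
  refine Finset.sum_congr rfl fun a _ => ?_
  rw [Equiv.coe_addLeft, hU, smul_smul]
  congr 1
  rw [← AddChar.map_add_eq_mul]
  congr 1
  rw [neg_add, add_neg_cancel_left]

theorem wtProj_of_mem (U : A → (V →ₗ[ℂ] V)) (ψ φ : AddChar A ℂ) (v : V) (hv : v ∈ wt U φ) :
    wtProj U ψ v = if ψ = φ then (Fintype.card A : ℂ) • v else 0 := by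
  classical
  simp only [wtProj, LinearMap.sum_apply, LinearMap.smul_apply]
  have h1 : ∀ a, ψ (-a) • U a v = ((φ - ψ) a) • v := by
    intro a
    rw [hv a, smul_smul, AddChar.sub_apply, AddChar.map_neg_eq_inv, mul_comm]
  rw [Finset.sum_congr rfl (fun a _ => h1 a), ← Finset.sum_smul, AddChar.sum_eq_ite]
  by_cases h : ψ = φ
  · rw [if_pos h, if_pos (sub_eq_zero.2 h.symm)]
  · rw [if_neg h, if_neg (fun h0 => h (sub_eq_zero.1 h0).symm), zero_smul]

theorem sum_wtProj (U : A → (V →ₗ[ℂ] V)) (h0 : ∀ v, U 0 v = v) (v : V) :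
    ∑ ψ : AddChar A ℂ, wtProj U ψ v = (Fintype.card A : ℂ) • v := by
  classical
  simp only [wtProj, LinearMap.sum_apply, LinearMap.smul_apply]
  rw [Finset.sum_comm]
  simp only [← Finset.sum_smul, AddChar.sum_apply_eq_ite]
  rw [Finset.sum_eq_single (0 : A)]
  · simp [h0]
  · intro a _ ha
    rw [if_neg (by simpa using ha), zero_smul]
  · simp

theorem finrank_eq_sum_wt [FiniteDimensional ℂ V] (U : A → (V →ₗ[ℂ] V)) (h0 : ∀ v, U 0 v = v)
    (hU : ∀ a b v, U (a + b) v = U a (U b v)) :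
    finrank ℂ V = ∑ ψ : AddChar A ℂ, finrank ℂ (wt U ψ) := by
  classical
  have hcard : (Fintype.card A : ℂ) ≠ 0 := by
    simp [Fintype.card_ne_zero]
  let f : (Π ψ : AddChar A ℂ, wt U ψ) →ₗ[ℂ] V := ∑ ψ, (wt U ψ).subtype ∘ₗ LinearMap.proj ψ
  have hf : ∀ x, f x = ∑ ψ, (x ψ : V) := by
    intro x; simp [f]
  have hinj : Function.Injective f := by
    rw [injective_iff_map_eq_zero]
    intro x hx
    ext φ
    rw [hf] at hx
    have h1 := congrArg (wtProj U φ) hx
    rw [map_sum, map_zero] at h1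
    rw [Finset.sum_eq_single φ] at h1
    · rw [wtProj_of_mem U φ φ _ (x φ).2, if_pos rfl] at h1
      exact (smul_eq_zero.1 h1).resolve_left hcard
    · intro ψ _ hψ
      rw [wtProj_of_mem U φ ψ _ (x ψ).2, if_neg (Ne.symm hψ)]
    · simp
  have hsurj : Function.Surjective f := by
    intro v
    refine ⟨fun ψ => (Fintype.card A : ℂ)⁻¹ • ⟨wtProj U ψ v, wtProj_mem U hU ψ v⟩, ?_⟩
    rw [hf]
    simp only [Submodule.coe_smul]
    rw [← Finset.smul_sum, sum_wtProj U h0, smul_smul, inv_mul_cancel₀ hcard, one_smul]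
  rw [← (LinearEquiv.ofBijective f ⟨hinj, hsurj⟩).finrank_eq, Module.finrank_pi_fintype]

/-- If there is no nontrivial weight then the action is trivial. -/
theorem exists_wt_ne_bot (U : A → (V →ₗ[ℂ] V)) (h0 : ∀ v, U 0 v = v)
    (hU : ∀ a b v, U (a + b) v = U a (U b v)) (h : ∃ a v, U a v ≠ v) :
    ∃ ψ : AddChar A ℂ, ψ ≠ 0 ∧ wt U ψ ≠ ⊥ := by
  classical
  by_contra hcon
  push Not at hcon
  obtain ⟨a, v, hav⟩ := h
  apply hav
  have hcard : (Fintype.card A : ℂ) ≠ 0 := by
    simp [Fintype.card_ne_zero]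
  have h1 := sum_wtProj U h0 v
  rw [Finset.sum_eq_single (0 : AddChar A ℂ)] at h1
  · have h2 := wtProj_mem U hU 0 v
    rw [h1] at h2
    have h3 := h2 a
    rw [AddChar.zero_apply, one_smul, map_smul] at h3
    exact (smul_right_injective V hcard) h3
  · intro ψ _ hψ
    have := wtProj_mem U hU ψ v
    rw [hcon ψ hψ] at this
    simpa using this
  · simp

end weights

/-- A twisted-commuting invertible element kills the trace. -/
theorem trace_eq_zero_of_twist {V : Type*} [AddCommGroup V] [Module ℂ V]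
    (T T' C : V →ₗ[ℂ] V) (z : ℂ) (hTT : T * T' = 1) (hTT' : T' * T = 1) (hz : z ≠ 1)
    (hTB : T * C = z • (C * T)) : LinearMap.trace ℂ V C = 0 := by
  have h1 : LinearMap.trace ℂ V (T * C * T') = LinearMap.trace ℂ V C := by
    rw [LinearMap.trace_mul_comm, ← mul_assoc, hTT', one_mul]
  rw [hTB, smul_mul_assoc, mul_assoc, hTT, mul_one, map_smul, smul_eq_mul] at h1
  have h2 : (z - 1) * LinearMap.trace ℂ V C = 0 := by rw [sub_mul, h1]; ring
  exact (mul_eq_zero.1 h2).resolve_left (sub_ne_zero.2 hz)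

/-- Dimension bound from trace-orthogonality. -/
theorem card_le_sq_of_trace {X V : Type*} [Fintype X] [AddCommGroup V] [Module ℂ V]
    [FiniteDimensional ℂ V] (B B' : X → (V →ₗ[ℂ] V))
    (h0 : ∀ a b, a ≠ b → LinearMap.trace ℂ V (B a * B' b) = 0)
    (h1 : ∀ a, LinearMap.trace ℂ V (B a * B' a) ≠ 0) :
    Fintype.card X ≤ finrank ℂ V ^ 2 := by
  classical
  have hli : LinearIndependent ℂ B := by
    rw [Fintype.linearIndependent_iff]
    intro g hg b
    have h2 := congrArg (fun X => LinearMap.trace ℂ V (X * B' b)) hg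
    simp only [Finset.sum_mul, zero_mul, map_zero, map_sum, smul_mul_assoc, map_smul] at h2
    rw [Finset.sum_eq_single b] at h2
    · simp only [smul_eq_mul, mul_eq_zero] at h2
      exact h2.resolve_right (h1 b)
    · intro a _ hab
      rw [h0 a b hab, smul_zero]
    · simp
  have h1 := hli.fintype_card_le_finrank
  rw [Module.finrank_linearMap] at h1
  rw [sq]
  exact h1

end Cfsg.Agent.H39
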